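import Cfsg.Agent.Mrg.Omega.CaseLQ.Pj
import Cfsg.Agent.Mrg.Omega.Node.SymG
import Cfsg.Agent.Mrg.Omega.EK3.Q.Def
import Cfsg.Agent.Mrg.Omega.NO3S.SN2.Small.Top
import Cfsg.Agent.Mrg.Omega.NO3S.Sym.Light

section


/-!
# Coordinates for `MulL`

`exists_crd` : a frame `MulL S P B ZJ L' W' Z' C' A' q` with the same `(B, ZJ)` whose blocks are the coordinate blocks of
a `NatKM` (`BlkJ`), and `Z i = Z' (σ i)`.
-/

set_option autoImplicit false

namespace Cfsg.Agent.Omega.CaseLQ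

open Subgroup Cfsg Cfsg.Agent.ZN Cfsg.Agent.ZN.ChoiceBase
open Cfsg.Agent.Omega.FFThm
open Cfsg.Agent.Omega.FrameFF (cv)
open Cfsg.Agent.Omega.OM.Lev.Nat
open Cfsg.Agent.Omega.Node.MulX
open Cfsg.Agent.Omega.NO3S.Level (nxt)
open Cfsg.Agent.Omega.NO3S.ThmB (Nb)

universe u

variable {G : Type u} [Group G] [Finite G] {S : Sylow 2 G} {P B ZJ : Subgroup G} {k : ℕ}
  {L W Z C A : Fin k → Subgroup G} {q : ℕ}

theorem exists_crd (h : MulL S P B ZJ L W Z C A q) (hk : 2 ≤ k) :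
    ∃ (F : Type) (_ : Field F) (_ : Finite F) (_ : CharP F 2)
      (N : NatKM F (S : Subgroup G) P (zl (S : Subgroup G) P) (cv (S : Subgroup G) P) k)
      (L' W' Z' C' A' : Fin k → Subgroup G), Nat.card F = q ∧ MulL S P B ZJ L' W' Z' C' A' q ∧ Nb N ∧
        (∀ j, BlkJ N j (W' j) (Z' j) (C' j)) ∧ ∃ σ : Equiv.Perm (Fin k), ∀ i, Z i = Z' (σ i) := by
  obtain ⟨F, _, _, _, hF, ⟨N⟩⟩ := h.nat
  obtain ⟨M, L', Z', A', hM, hfr, hbg, -, -, -, hZ', -⟩ :=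
    OM.Lev.Main.bg_K h.cl.hypN h.cl.levQ le_rfl (Node.MulG.exists_BO_caseL h.cl) hk N h.eqB
  rw [hF] at hfr hbg
  rw [h.cl.zc_eq, ← h.eZ] at hfr
  rw [← h.eZ] at hbg
  have hfr' := hfr
  have hm : MulL S P B ZJ L' (Wn M) Z' (Cn M) A' q :=
    ⟨h.cl, h.eZ, h.eB, hbg, hfr, F, inferInstance, inferInstance, inferInstance, hF, ⟨N⟩⟩
  have he : M.nat.e = N.e := by rw [hM]
  have hn : Nb N := NO3S.ThmB.Inst.nb h.cl.ctx.char2 h.cl.pss.par N
  have hb : ∀ j, BlkJ N j (Wn M j) (Z' j) (Cn M j) := fun j =>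
    { mW := fun v => by rw [mem_Wn, he]
      mZ := fun v => by rw [hZ', he]
      mC := fun v => by rw [mem_Cn, he]
      mD := fun v hv h0 => hfr.C0 v hv fun i => by
        rw [mem_Cn, he, h0]
        exact ⟨hv, rfl⟩ }
  have hidx : ∀ i, ∃ m, Z i = Z' m := by
    intro i
    obtain ⟨Z'', hFB, m, rfl, -⟩ := hm.uni (h.fbx i)
    refine ⟨m, ?_⟩
    ext z
    rw [(h.fr.blk i).mem_Z_iff, hFB.mem_Z_iff]
  choose σ hσ using hidx
  have hinj : Function.Injective σ := fun a b e => h.bg.Z_inj (by rw [hσ a, hσ b, e])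
  exact ⟨F, inferInstance, inferInstance, inferInstance, N, L', Wn M, Z', Cn M, A', hF, hm, hn, hb,
    Equiv.ofBijective σ (Finite.injective_iff_bijective.1 hinj), hσ⟩

end Cfsg.Agent.Omega.CaseLQ

end

section


/-!
# The Sylow group `T_j = C_S(Z_l : l ≠ j)` over `Bg` (`k ≥ 2`)

The facts of `EK3/Q/Inst.lean` over `Bg` alone: `syl` : `T_j` is a Sylow 2-subgroup of `Y_j = C_G(Z_l : l ≠ j)`; `norm_W`,
`norm_Z`, `norm_C`; `ZJ_eq`; **`zcT_le` : `Ω₁Z(T) ≤ (∏_{l ≠ j} Z_l) Z_j`** for `B ≤ T ≤ S`.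
-/

set_option autoImplicit false
set_option linter.unusedSectionVars false

namespace Cfsg.Agent.Omega.CaseLQ.Tj

open Subgroup Cfsg Cfsg.Agent.ZN.ChoiceBase
open Cfsg.Agent.ZN (jj zj bau zc zl o2)
open Cfsg.Agent.ZN.ChoiceSit (Syl exists_syl syl_conj o2_le_syl)
open Cfsg.Agent.Omega.OM Cfsg.Agent.Omega.OM.Uni
open Cfsg.Agent.Omega.NO3S.EThree.Frame
open Cfsg.Agent.Omega.EK3.Q (YQ TY mem_YQ YQ_cent YQ_eq_cent)


universe u

variable {G : Type u} [Group G] {k : ℕ} [Finite G] {S : Sylow 2 G} {P B ZJ : Subgroup G}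
  {L W Z C : Fin k → Subgroup G} {q : ℕ} (h : Bg S P B ZJ L W Z C q)
include h

theorem Z_le_C {l j : Fin k} (hl : l ≠ j) : Z l ≤ C j := (h.fr.blk l).ZV.trans (h.fr.WjC j l hl.symm)

theorem D_le (j : Fin k) : centralizer (ZJ : Set G) ≤ YQ Z j := fun _ hx =>
  mem_YQ.2 fun l _ z hz => (mem_centralizer_iff.1 hx z (h.fr.Z_le l hz)).symm

theorem B_le_D : B ≤ centralizer (ZJ : Set G) := h.eqB.le.trans inf_le_right

theorem B_le_Y (j : Fin k) : B ≤ YQ Z j := (B_le_D h).trans (D_le h j)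

theorem B_le_T (j : Fin k) : B ≤ TY S Z j := le_inf h.BS (B_le_Y h j)

theorem T_two (j : Fin k) : IsPGroup 2 (TY S Z j) := S.isPGroup'.to_le inf_le_left

theorem T_norm_B (j : Fin k) : TY S Z j ≤ normalizer (B : Set G) := h.le_norm_B (T_two h j) (B_le_T h j)

/-- `ZJ = ⟨Z l⟩` -/
theorem ZJ_eq : ZJ = ⨆ l, Z l := by
  apply le_antisymm
  · intro z hz
    by_cases hk : k = 0
    · subst hk
      have h1 : z = 1 := h.fr.C0 z (h.fr.ZJV hz) fun i => i.elim0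
      rw [h1]; exact one_mem _
    obtain ⟨i⟩ : Nonempty (Fin k) := ⟨⟨0, Nat.pos_of_ne_zero hk⟩⟩
    obtain ⟨w, hw, c, hc, hcJ, rfl⟩ := h.fr.split_ZJ i hz
    have h1 : c ∈ ⨆ j : {j : Fin k // j ≠ i}, Z j := h.ZC_le i ⟨hcJ, hc⟩
    have h2 : (⨆ j : {j : Fin k // j ≠ i}, Z j) ≤ ⨆ l, Z l := iSup_le fun j => le_iSup Z j.1
    exact mul_mem (le_iSup Z i hw) (h2 h1)
  · exact iSup_le h.fr.Z_le

/-- `ZJ ≤ (∏_{l ≠ j} Z_l) Z_j` -/
theorem ZJ_le (j : Fin k) : ZJ ≤ (⨆ l : {l : Fin k // l ≠ j}, Z l) ⊔ Z j := by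
  rw [ZJ_eq h]
  refine iSup_le fun l => ?_
  by_cases hl : l = j
  · subst hl; exact le_sup_right
  · exact (le_iSup (fun l : {l : Fin k // l ≠ j} => Z l) ⟨l, hl⟩).trans le_sup_left

/-- the elements of `S` centralised by `B ≤ T` and of order 2 are in `ZJ` -/
theorem zc_le_ZJ {T : Subgroup G} (BT : B ≤ T) (TS : T ≤ (S : Subgroup G)) : zc T ≤ ZJ := by
  intro z hz
  obtain ⟨hzT, hz2, hzc⟩ := Cfsg.Agent.ZN.ChoiceBase.mem_zc.1 hz
  have hBz : ∀ b ∈ B, b * z = z * b := fun b hb => hzc b (BT hb)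
  have hzB : z ∈ B := h.mem_B (TS hzT) fun w hw => (hBz w (h.fr.VB (h.fr.ZJV hw))).symm
  have hzV : z ∈ zl (S : Subgroup G) P := by
    have hQ : z ∈ o2 P := (h.fr.mem_Q z hzB).2 fun v hv => (hBz v (h.fr.VB hv)).symm
    exact h.fr.zcQ z hQ hz2 fun y hy => (hBz y (h.fr.QB hy)).symm
  exact (h.fr.mem_ZJ z).2 ⟨hzV, hBz⟩

/-- **`Ω₁Z(T) ≤ (∏_{l ≠ j} Z_l) Z_j`** -/
theorem zcT_le {T : Subgroup G} (BT : B ≤ T) (TS : T ≤ (S : Subgroup G)) (j : Fin k) :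
    zc T ≤ (⨆ l : {l : Fin k // l ≠ j}, Z l) ⊔ Z j := (zc_le_ZJ h BT TS).trans (ZJ_le h j)

theorem Lam_le_C (j : Fin k) : (⨆ l : {l : Fin k // l ≠ j}, Z l) ≤ C j := iSup_le fun l => Z_le_C h l.2

theorem Lam_le_ZJ (j : Fin k) : (⨆ l : {l : Fin k // l ≠ j}, Z l) ≤ ZJ := iSup_le fun l => h.fr.Z_le l

theorem Lam_ne (j : Fin k) : (⨆ l : {l : Fin k // l ≠ j}, Z l : Subgroup G) ≠ ⊥ := by
  obtain ⟨i, hi⟩ := h.two j
  intro e
  exact h.Z_ne i (le_bot_iff.1 (e ▸ le_iSup (fun l : {l : Fin k // l ≠ j} => Z l) ⟨i, hi⟩))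

/-- `Λ_j` and `Z_j` commute -/
theorem Lam_comm (j : Fin k) : ∀ a ∈ (⨆ l : {l : Fin k // l ≠ j}, Z l : Subgroup G), ∀ b ∈ Z j, a * b = b * a :=
  fun _ ha _ hb => h.fr.Vc (h.fr.ZJV (Lam_le_ZJ h j ha)) (h.fr.ZJV (h.fr.Z_le j hb))

omit h [Finite G] in
theorem cj_YQ_le {n : G} {σ : Equiv.Perm (Fin k)} (hσ : ∀ l, cj n (Z l) = Z (σ l)) (j : Fin k) :
    YQ Z (σ j) ≤ cj n (YQ Z j) := by
  intro x hx
  rw [mem_cj]
  refine mem_YQ.2 fun l hl z hz => ?_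
  have h1 : n * z * n⁻¹ ∈ Z (σ l) := (hσ l) ▸ ⟨z, hz, rfl⟩
  have h2 := mem_YQ.1 hx (σ l) (fun e => hl (σ.injective e)) _ h1
  have h3 := congrArg (fun t => n⁻¹ * t * n) h2
  have e1 : n⁻¹ * (x * (n * z * n⁻¹)) * n = n⁻¹ * x * n * z := by group
  have e2 : n⁻¹ * (n * z * n⁻¹ * x) * n = z * (n⁻¹ * x * n) := by group
  rw [← e1, ← e2]
  exact h3

omit h [Finite G] in
theorem cj_YQ {n : G} {σ : Equiv.Perm (Fin k)} (hσ : ∀ l, cj n (Z l) = Z (σ l)) (j : Fin k) :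
    cj n (YQ Z j) = YQ Z (σ j) := by
  refine le_antisymm ?_ (cj_YQ_le hσ j)
  have hσ' : ∀ l, cj n⁻¹ (Z l) = Z (σ.symm l) := by
    intro l
    have h1 := hσ (σ.symm l)
    rw [Equiv.apply_symm_apply] at h1
    rw [← h1, cj_inv_cj]
  have h2 := cj_YQ_le hσ' (σ j)
  rw [Equiv.symm_apply_apply] at h2
  have h3 := cj_mono n h2
  rwa [cj_cj_inv] at h3

/-- **`N_G(B)` permutes everything** -/
theorem conj {n : G} (hn : n ∈ normalizer (B : Set G)) : ∃ σ : Equiv.Perm (Fin k), ∀ l,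
    cj n (W l) = W (σ l) ∧ cj n (Z l) = Z (σ l) ∧ cj n (YQ Z l) = YQ Z (σ l) := by
  obtain ⟨σ, hσ⟩ := h.perm_W hn
  exact ⟨σ, fun l => ⟨(hσ l).1, (hσ l).2, cj_YQ (fun l => (hσ l).2) l⟩⟩

/-- `N_G(B) ∩ Y_j` fixes all indices -/
theorem fixB {n : G} (hn : n ∈ normalizer (B : Set G)) {j : Fin k} (hY : n ∈ YQ Z j) (l : Fin k) :
    cj n (W l) = W l ∧ cj n (Z l) = Z l := by
  obtain ⟨σ, hσ⟩ := h.perm_W hn
  have h1 : ∀ l, l ≠ j → σ l = l := by
    intro l hl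
    refine h.Z_inj ?_
    rw [← (hσ l).2]
    exact mem_normalizer_iff_cj.1 (centralizer_le_normalizer _ (YQ_cent hl hY))
  have h2 : σ l = l := by
    by_cases hl : l = j
    · subst hl
      by_contra hne
      exact hne (σ.injective (h1 _ hne))
    · exact h1 l hl
  have h3 := hσ l
  rwa [h2] at h3

theorem T_norm_W (j l : Fin k) : TY S Z j ≤ normalizer (W l : Set G) := fun _ ht =>
  mem_normalizer_iff_cj.2 (fixB h (T_norm_B h j ht) ht.2 l).1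

theorem T_norm_Z (j l : Fin k) : TY S Z j ≤ normalizer (Z l : Set G) := fun _ ht =>
  mem_normalizer_iff_cj.2 (fixB h (T_norm_B h j ht) ht.2 l).2

omit h in
theorem cj_T {s : G} (hs : s ∈ (S : Subgroup G)) {σ : Equiv.Perm (Fin k)} (hσ : ∀ l, cj s (Z l) = Z (σ l))
    (j : Fin k) : cj s (TY S Z j) = TY S Z (σ j) := by
  unfold TY
  rw [cj_inf, cj_YQ hσ j, cj_eq_of_mem_normalizer (Subgroup.le_normalizer hs)]

theorem card_T (i j : Fin k) : Nat.card (TY S Z i) = Nat.card (TY S Z j) := by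
  obtain ⟨s, hs, e⟩ := h.trans i j
  obtain ⟨σ, hσ⟩ := conj h (h.S_norm_B hs)
  have e2 : σ i = j := h.W_inj (by rw [← (hσ i).1, e])
  rw [← e2, ← cj_T hs (fun l => (hσ l).2.1) i, card_cj]

/-- **`T_j` is a Sylow 2-subgroup of `Y_j`** -/
theorem syl (j : Fin k) : Syl (TY S Z j) (YQ Z j) := by
  refine ⟨inf_le_right, T_two h j, fun R hR h2 hle => ?_⟩
  symm
  refine Subgroup.eq_of_le_of_card_ge hle ?_
  have hBR : B ≤ R := (B_le_T h j).trans hle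
  have h1 : R ≤ normalizer (B : Set G) := h.le_norm_B h2 hBR
  obtain ⟨R', hR', hle'⟩ := exists_syl h2 h1
  have hS : Syl (S : Subgroup G) (normalizer (B : Set G)) :=
    ⟨h.S_norm_B, S.isPGroup', fun _ _ hT hST => S.is_maximal' hT hST⟩
  obtain ⟨x, hx, e⟩ := syl_conj hR' hS
  obtain ⟨σ, hσ⟩ := conj h hx
  have h3 : cj x R ≤ TY S Z (σ j) := by
    refine le_inf ?_ ?_
    · rw [← e]
      exact cj_mono x hle'
    · rw [← (hσ j).2.2]
      exact cj_mono x hR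
  rw [← card_cj x R, card_T h j (σ j)]
  exact Subgroup.card_le_of_le h3

end Cfsg.Agent.Omega.CaseLQ.Tj

end

section


/-!
# One `S₅` (`FiveL S P p`): the facts at `V_j` = even subsets of `{2, 3, 4}`, `Λ = ⟨nn p⟩`, `z_j = aa p`

* `Vt p = ⟨p 2 p 3, p 3 p 4⟩` : `mem_Vt`, `card_Vt`, `Vt_eq`, `Vt_le`;
* `comm_nn` : `[V_P, b] ≤ ⟨nn p⟩` for `b ∈ P` centralising `Vt`; `cent_le` : `C_{V_P}(T ∩ C(Vt)) ≤ Vt ⟨nn p⟩`;
* `exists_t` : `(2 3) ∈ T`, `[Vt, (2 3)] = ⟨aa p⟩`, `[V_P, (2 3)] = ⟨aa p⟩`; `mv_Vt`;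
* `act` : `N_G(V_P)` permutes the five points; `odd_le` : `[V_P, g] ≤ Vt` for `g ∈ N_G(V_P) ∩ C(nn p)` of odd order;
* `PX_norm`, `PX_trans` : `P ∩ C(nn p)` normalises `Vt` and is transitive on `Vt#`;
* `exists_conj_mv` : every `A ≤ S` moving `V_P` has a conjugate under `S` moving `Vt`.
-/

set_option autoImplicit false
set_option linter.unusedSectionVars false

namespace Cfsg.Agent.Omega.CaseLQ.FiveFacts

open Subgroup Cfsg Cfsg.Agent.ZN Cfsg.Agent.Omega.NTwo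
open Cfsg.Agent.Omega.NO3S.Sym.Exit (Five)
open Cfsg.Agent.Omega.NO3S.Sym.Light (FiveL)
open Cfsg.Agent.Omega.NO3S.LightFive.DEight
open Cfsg.Agent.ZN.ChoiceBase (cj mem_cj)

universe u

section pure

variable {G : Type u} [Group G]

theorem mem_pair {a b : G} (ha : a * a = 1) (hb : b * b = 1) (hab : a * b = b * a) {x : G} :
    x ∈ closure ({a, b} : Set G) ↔ x = 1 ∨ x = a ∨ x = b ∨ x = a * b := by
  have h1 : a * (a * b) = b := by rw [← mul_assoc, ha, one_mul]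
  have h2 : a * b * b = a := by rw [mul_assoc, hb, mul_one]
  have h3 : a * b * a = b := by rw [hab, mul_assoc, ha, mul_one]
  have h4 : b * (a * b) = a := by rw [hab, ← mul_assoc, hb, one_mul]
  have h5 : a * b * (a * b) = 1 := by rw [mul_assoc, h4, ha]
  have h6 : b * a = a * b := hab.symm
  constructor
  · intro hx
    induction hx using closure_induction with
    | mem x hx =>
      rcases hx with rfl | rfl
      · exact Or.inr (Or.inl rfl)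
      · exact Or.inr (Or.inr (Or.inl rfl))
    | one => exact Or.inl rfl
    | mul x y _ _ hx hy =>
      rcases hx with rfl | rfl | rfl | rfl
      · rwa [one_mul]
      · rcases hy with rfl | rfl | rfl | rfl
        · rw [mul_one]; exact Or.inr (Or.inl rfl)
        · exact Or.inl ha
        · exact Or.inr (Or.inr (Or.inr rfl))
        · exact Or.inr (Or.inr (Or.inl h1))
      · rcases hy with rfl | rfl | rfl | rfl
        · rw [mul_one]; exact Or.inr (Or.inr (Or.inl rfl))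
        · exact Or.inr (Or.inr (Or.inr h6))
        · exact Or.inl hb
        · exact Or.inr (Or.inl h4)
      · rcases hy with rfl | rfl | rfl | rfl
        · rw [mul_one]; exact Or.inr (Or.inr (Or.inr rfl))
        · exact Or.inr (Or.inr (Or.inl h3))
        · exact Or.inr (Or.inl h2)
        · exact Or.inl h5
    | inv x _ hx =>
      rcases hx with rfl | rfl | rfl | rfl
      · left; rw [inv_one]
      · rw [inv_eq_of_mul_eq_one_left ha]; exact Or.inr (Or.inl rfl)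
      · rw [inv_eq_of_mul_eq_one_left hb]; exact Or.inr (Or.inr (Or.inl rfl))
      · rw [inv_eq_of_mul_eq_one_left h5]; exact Or.inr (Or.inr (Or.inr rfl))
  · have hA : a ∈ closure ({a, b} : Set G) := subset_closure (Or.inl rfl)
    have hB : b ∈ closure ({a, b} : Set G) := subset_closure (Or.inr rfl)
    rintro (rfl | rfl | rfl | rfl)
    · exact one_mem _
    · exact hA
    · exact hB
    · exact mul_mem hA hB

/-- `V_j` = even subsets of `{2, 3, 4}` -/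
def Vt (p : Fin 5 → G) : Subgroup G := closure {p 2 * p 3, p 3 * p 4}

variable {P : Subgroup G} {p : Fin 5 → G} (h : Fv P p)
include h

theorem psq (i j : Fin 5) : (p i * p j) * (p i * p j) = 1 := by
  rw [mul_assoc, ← mul_assoc (p j), h.comm j i, mul_assoc (p i), h.sq, mul_one, h.sq]

theorem pcomm (i j k l : Fin 5) : (p i * p j) * (p k * p l) = (p k * p l) * (p i * p j) := by
  have e1 : Commute (p i) (p k * p l) := Commute.mul_right (h.comm i k) (h.comm i l)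
  have e2 : Commute (p j) (p k * p l) := Commute.mul_right (h.comm j k) (h.comm j l)
  exact (e1.mul_left e2)

theorem pmul (i j k : Fin 5) : (p i * p j) * (p j * p k) = p i * p k := by
  rw [mul_assoc, ← mul_assoc (p j) (p j), h.sq, one_mul]

theorem mem_Vt {x : G} : x ∈ Vt p ↔ x = 1 ∨ x = p 2 * p 3 ∨ x = p 3 * p 4 ∨ x = p 2 * p 4 := by
  rw [Vt, mem_pair (psq h 2 3) (psq h 3 4) (pcomm h 2 3 3 4), pmul h]

theorem Vt_eq : closure {p 2 * p 3, p 2 * p 4} = Vt p := by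
  ext x
  rw [mem_Vt h, mem_pair (psq h 2 3) (psq h 2 4) (pcomm h 2 3 2 4), h.comm 2 3, pmul h]
  tauto

theorem aa_mem : aa p ∈ Vt p := (mem_Vt h).2 (Or.inr (Or.inl rfl))

/-- `p i = p j p k · nn`-type relations -/
theorem p4_eq : p 4 = nn p * (p 2 * p 3) := h.prod.symm

theorem p3_eq : p 3 = nn p * (p 2 * p 4) := by
  have h1 := h.prod
  have h2 : nn p * (p 2 * p 4) = nn p * p 2 * (p 0 * p 1 * (p 2 * p 3)) := by
    rw [h1]; exact (mul_assoc _ _ _).symm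
  rw [h2]
  change p 3 = (p 0 * p 1) * p 2 * (p 0 * p 1 * (p 2 * p 3))
  have e1 : Commute (p 2) (p 0 * p 1) := Commute.mul_right (h.comm 2 0) (h.comm 2 1)
  calc p 3 = 1 * (1 * p 3) := by rw [one_mul, one_mul]
    _ = (p 0 * p 1) * (p 0 * p 1) * ((p 2 * p 2) * p 3) := by rw [psq h, h.sq]
    _ = (p 0 * p 1) * ((p 0 * p 1) * p 2) * (p 2 * p 3) := by group
    _ = (p 0 * p 1) * (p 2 * (p 0 * p 1)) * (p 2 * p 3) := by rw [e1.eq]
    _ = _ := by group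

theorem p2_eq : p 2 = nn p * (p 3 * p 4) := by
  have h1 := h.prod
  have h2 : nn p * (p 3 * p 4) = nn p * p 3 * (p 0 * p 1 * (p 2 * p 3)) := by
    rw [h1]; exact (mul_assoc _ _ _).symm
  rw [h2]
  change p 2 = (p 0 * p 1) * p 3 * (p 0 * p 1 * (p 2 * p 3))
  have e1 : Commute (p 3) (p 0 * p 1) := Commute.mul_right (h.comm 3 0) (h.comm 3 1)
  calc p 2 = 1 * (1 * p 2) := by rw [one_mul, one_mul]
    _ = (p 0 * p 1) * (p 0 * p 1) * ((p 3 * p 3) * p 2) := by rw [psq h, h.sq]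
    _ = (p 0 * p 1) * ((p 0 * p 1) * p 3) * (p 3 * p 2) := by group
    _ = (p 0 * p 1) * (p 3 * (p 0 * p 1)) * (p 2 * p 3) := by rw [e1.eq, h.comm 3 2]
    _ = _ := by group

end pure

section fin

variable {G : Type u} [Group G] [Finite G] {S : Sylow 2 G} {P : Subgroup G} {p : Fin 5 → G}

omit [Finite G] in
theorem card_Vt (h : Fv P p) : Nat.card (Vt p) = 4 := by
  have h0 : (Vt p : Set G) = {1, p 2 * p 3, p 3 * p 4, p 2 * p 4} := by
    ext x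
    exact mem_Vt h
  have n1 : ∀ {i j : Fin 5}, i ≠ j → (1 : G) ≠ p i * p j := fun hij => (h.mul_ne_one hij).symm
  have e1 : p 2 * p 3 ≠ p 3 * p 4 := by
    rw [h.comm 2 3]
    exact fun e => absurd (h.inj (mul_left_cancel e)) (by decide)
  have e2 : p 2 * p 3 ≠ p 2 * p 4 := fun e => absurd (h.inj (mul_left_cancel e)) (by decide)
  have e3 : p 3 * p 4 ≠ p 2 * p 4 := fun e => absurd (h.inj (mul_right_cancel e)) (by decide)
  have h1 : (Vt p : Set G).ncard = 4 := by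
    rw [h0, Set.ncard_insert_of_notMem, Set.ncard_insert_of_notMem, Set.ncard_pair e3]
    · simp [e1, e2]
    · simp [n1 (show (2 : Fin 5) ≠ 3 by decide), n1 (show (3 : Fin 5) ≠ 4 by decide),
        n1 (show (2 : Fin 5) ≠ 4 by decide)]
  exact h1

theorem Vt_le (hf : Five S P p) : Vt p ≤ zl (S : Subgroup G) P := by
  rw [Vt, closure_le]
  rintro x (rfl | rfl)
  · exact mul_mem (hf.p_mem _) (hf.p_mem _)
  · exact mul_mem (hf.p_mem _) (hf.p_mem _)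

omit [Finite G] in
/-- an element of `P` which fixes `Vt` elementwise acts as `1` or `(0 1)` -/
theorem fix_of (h : Fv P p) {x : G} {σ : Equiv.Perm (Fin 5)} (hσ : ∀ i, x * p i * x⁻¹ = p (σ i))
    (hx : x ∈ centralizer (Vt p : Set G)) : σ 2 = 2 ∧ σ 3 = 3 ∧ σ 4 = 4 := by
  have hc : ∀ y ∈ Vt p, x * y * x⁻¹ = y := fun y hy => by
    rw [comm_iff]; exact (mem_centralizer_iff.1 hx y hy).symm
  have h1 := hc _ ((mem_Vt h).2 (Or.inr (Or.inl rfl)))
  have h2 := hc _ ((mem_Vt h).2 (Or.inr (Or.inr (Or.inl rfl))))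
  rw [cm, hσ, hσ] at h1 h2
  have h3 := h.pair_inj (fun e => absurd (σ.injective e) (by decide)) (by decide) h1
  have h4 := h.pair_inj (fun e => absurd (σ.injective e) (by decide)) (by decide) h2
  rcases h3 with ⟨a, b⟩ | ⟨a, b⟩
  · rcases h4 with ⟨c, d⟩ | ⟨c, d⟩
    · exact ⟨a, c, d⟩
    · rw [b] at c; exact absurd c (by decide)
  · rcases h4 with ⟨c, d⟩ | ⟨c, d⟩
    · rw [b] at c; exact absurd c (by decide)
    · rw [b] at c; exact absurd c (by decide)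

/-- a map `v ↦ x v x⁻¹ v⁻¹` on the abelian group `V` with values in `A` on the generators -/
theorem comm_mem_of_gen (hf : Five S P p) {x : G} (hx : x ∈ normalizer (zl (S : Subgroup G) P : Set G))
    {A : Subgroup G} (hA : A ≤ zl (S : Subgroup G) P) (hg : ∀ i, x * p i * x⁻¹ * (p i)⁻¹ ∈ A) :
    ∀ v ∈ zl (S : Subgroup G) P, x * v * x⁻¹ * v⁻¹ ∈ A := by
  intro v hv
  have hv' := hv
  rw [hf.gen] at hv'
  induction hv' using closure_induction with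
  | mem y hy =>
    obtain ⟨i, rfl⟩ := hy
    exact hg i
  | one => simp
  | mul y z hy hz h1 h2 =>
    rw [← hf.gen] at hy hz
    have e1 := h1 hy
    have e2 := h2 hz
    have e3 : x * (y * z) * x⁻¹ * (y * z)⁻¹ = (x * y * x⁻¹) * (x * z * x⁻¹ * z⁻¹) * y⁻¹ := by group
    have e4 : (x * y * x⁻¹) * (x * z * x⁻¹ * z⁻¹) = (x * z * x⁻¹ * z⁻¹) * (x * y * x⁻¹) :=
      hf.V_comm ((mem_normalizer_iff.1 hx y).1 hy) (hA e2)
    rw [e3, e4, mul_assoc]
    exact mul_mem e2 e1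
  | inv y hy h1 =>
    rw [← hf.gen] at hy
    have e1 := h1 hy
    have e3 : x * y⁻¹ * x⁻¹ * y⁻¹⁻¹ = (x * y * x⁻¹)⁻¹ * (x * y * x⁻¹ * y⁻¹)⁻¹ * (x * y * x⁻¹) := by group
    have e4 : (x * y * x⁻¹)⁻¹ * (x * y * x⁻¹ * y⁻¹)⁻¹ = (x * y * x⁻¹ * y⁻¹)⁻¹ * (x * y * x⁻¹)⁻¹ :=
      hf.V_comm (inv_mem ((mem_normalizer_iff.1 hx y).1 hy)) (inv_mem (hA e1))
    rw [e3, e4, mul_assoc, inv_mul_cancel, mul_one]
    exact inv_mem e1

theorem nn_le (hf : Five S P p) : zpowers (nn p) ≤ zl (S : Subgroup G) P := by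
  rw [zpowers_le]; exact hf.n_mem

/-- **`[V_P, x] ≤ ⟨nn p⟩`** for `x ∈ P` centralising `Vt`. -/
theorem comm_nn (hf : Five S P p) {x : G} (hxP : x ∈ P) (hx : x ∈ centralizer (Vt p : Set G)) :
    ∀ v ∈ zl (S : Subgroup G) P, x * v * x⁻¹ * v⁻¹ ∈ zpowers (nn p) := by
  have h := hf.std.toFv
  obtain ⟨σ, hσ⟩ := h.perm x hxP
  obtain ⟨h2, h3, h4⟩ := fix_of h hσ hx
  refine comm_mem_of_gen hf (Cfsg.Agent.MinSimple.VModule.le_normalizer_zl _ _ hxP) (nn_le hf) fun i => ?_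
  rw [hσ]
  by_cases hi : σ i = i
  · rw [hi, mul_inv_cancel]; exact one_mem _
  · have key : ∀ σ : Equiv.Perm (Fin 5), σ 2 = 2 → σ 3 = 3 → σ 4 = 4 → ∀ i, σ i ≠ i →
        (i = 0 ∧ σ i = 1) ∨ (i = 1 ∧ σ i = 0) := by decide +kernel
    rw [h.pinv]
    rcases key σ h2 h3 h4 i hi with ⟨h5, h6⟩ | ⟨h5, h6⟩
    · rw [h6, h5, h.comm 1 0]; exact mem_zpowers _
    · rw [h6, h5]; exact mem_zpowers _

theorem T_le_P (hf : Five S P p) : Std.T (S : Subgroup G) p ≤ P := Std.T_le.trans hf.std.le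

/-- **`[V_P, b] ≤ ⟨nn p⟩`** for `b ∈ T ∩ C(Vt)` -/
theorem comm_T (hf : Five S P p) {x : G} (hx : x ∈ Std.T (S : Subgroup G) p ⊓ centralizer (Vt p : Set G)) :
    ∀ v ∈ zl (S : Subgroup G) P, x * v * x⁻¹ * v⁻¹ ∈ zpowers (nn p) := comm_nn hf (T_le_P hf hx.1) hx.2

omit [Finite G] in
/-- an element fixing `p 2`, `p 3`, `p 4` centralises `Vt` -/
theorem mem_cent_Vt (h : Fv P p) {x : G} (h2 : x * p 2 * x⁻¹ = p 2) (h3 : x * p 3 * x⁻¹ = p 3)
    (h4 : x * p 4 * x⁻¹ = p 4) : x ∈ centralizer (Vt p : Set G) := by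
  rw [mem_centralizer_iff]
  intro y hy
  have h5 : x * y * x⁻¹ = y := by
    rcases (mem_Vt h).1 hy with rfl | rfl | rfl | rfl
    · group
    · rw [cm, h2, h3]
    · rw [cm, h3, h4]
    · rw [cm, h2, h4]
  rw [comm_iff] at h5
  exact h5.symm

/-- **`C_{V_P}(T ∩ C(Vt)) ≤ Vt ⟨nn p⟩`** -/
theorem cent_le (hf : Five S P p) {u : G} (hu : u ∈ zl (S : Subgroup G) P)
    (hc : ∀ b ∈ Std.T (S : Subgroup G) p ⊓ centralizer (Vt p : Set G), b * u = u * b) :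
    u ∈ Vt p ⊔ zpowers (nn p) := by
  have h := hf.std.toFv
  obtain ⟨x, hxT, e0, e1, e2, e3, e4⟩ := ind_swap01 hf.std
  have hx := hc x (mem_inf.2 ⟨hxT, mem_cent_Vt h e2 e3 e4⟩)
  rw [← comm_iff] at hx
  have hσ : ∀ i, x * p i * x⁻¹ = p (Equiv.swap 0 1 i) := by
    intro i
    fin_cases i
    · exact e0
    · exact e1
    · exact e2
    · exact e3
    · exact e4
  have hn : nn p ∈ Vt p ⊔ zpowers (nn p) := (le_sup_right : _ ≤ Vt p ⊔ zpowers (nn p)) (mem_zpowers _)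
  have hv : ∀ y, y ∈ Vt p → y ∈ Vt p ⊔ zpowers (nn p) := fun y hy => (le_sup_left : Vt p ≤ _) hy
  have v1 := hv _ ((mem_Vt h).2 (Or.inr (Or.inl rfl)))
  have v2 := hv _ ((mem_Vt h).2 (Or.inr (Or.inr (Or.inl rfl))))
  have v3 := hv _ ((mem_Vt h).2 (Or.inr (Or.inr (Or.inr rfl))))
  rcases hf.elts hu with rfl | ⟨i, rfl⟩ | ⟨i, j, hij, rfl⟩
  · exact one_mem _
  · rw [hσ] at hx
    have h1 := h.inj hx
    have key : ∀ i : Fin 5, Equiv.swap (0 : Fin 5) 1 i = i → i = 2 ∨ i = 3 ∨ i = 4 := by decide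
    rcases key i h1 with rfl | rfl | rfl
    · rw [p2_eq h]; exact mul_mem hn v2
    · rw [p3_eq h]; exact mul_mem hn v3
    · rw [p4_eq h]; exact mul_mem hn v1
  · rw [cm, hσ, hσ] at hx
    have h1 := h.pair_inj (fun e => hij ((Equiv.swap (0 : Fin 5) 1).injective e)) hij hx
    have key : ∀ i j : Fin 5, i ≠ j → ((Equiv.swap (0 : Fin 5) 1 i = i ∧ Equiv.swap (0 : Fin 5) 1 j = j) ∨
        (Equiv.swap (0 : Fin 5) 1 i = j ∧ Equiv.swap (0 : Fin 5) 1 j = i)) →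
        (i = 0 ∧ j = 1) ∨ (i = 1 ∧ j = 0) ∨ (i = 2 ∧ j = 3) ∨ (i = 3 ∧ j = 2) ∨ (i = 2 ∧ j = 4) ∨
          (i = 4 ∧ j = 2) ∨ (i = 3 ∧ j = 4) ∨ (i = 4 ∧ j = 3) := by decide
    rcases key i j hij h1 with ⟨rfl, rfl⟩ | ⟨rfl, rfl⟩ | ⟨rfl, rfl⟩ | ⟨rfl, rfl⟩ | ⟨rfl, rfl⟩ | ⟨rfl, rfl⟩ |
      ⟨rfl, rfl⟩ | ⟨rfl, rfl⟩
    · exact hn
    · rw [h.comm 1 0]; exact hn
    · exact v1
    · rw [h.comm 3 2]; exact v1
    · exact v3
    · rw [h.comm 4 2]; exact v3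
    · exact v2
    · rw [h.comm 4 3]; exact v2

/-- **`t_j = (2 3) ∈ T`** -/
theorem exists_t (hf : Five S P p) : ∃ t ∈ Std.T (S : Subgroup G) p,
    (∀ v ∈ Vt p, v ≠ 1 → v = aa p ∨ t * v * t⁻¹ * v⁻¹ = aa p) ∧
      ∀ u ∈ zl (S : Subgroup G) P, t * u * t⁻¹ * u⁻¹ = 1 ∨ t * u * t⁻¹ * u⁻¹ = aa p := by
  have h := hf.std.toFv
  obtain ⟨t, htT, e0, e1, e2, e3, e4⟩ := ind_swap23 hf.std
  have htP : t ∈ P := T_le_P hf htT
  have haa : ∀ x, x ∈ zpowers (aa p) ↔ x = 1 ∨ x = aa p := by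
    intro x
    constructor
    · rintro ⟨k, rfl⟩
      rcases Int.even_or_odd k with ⟨m, rfl⟩ | ⟨m, rfl⟩
      · left
        simp only
        rw [← two_mul, zpow_mul, zpow_two, hf.std.asq, one_zpow]
      · right
        simp only
        rw [zpow_add, zpow_mul, zpow_two, hf.std.asq, one_zpow, one_mul, zpow_one]
    · rintro (rfl | rfl)
      · exact one_mem _
      · exact mem_zpowers _
  refine ⟨t, htT, fun v hv hv1 => ?_, fun u hu => (haa _).1 ?_⟩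
  · rcases (mem_Vt h).1 hv with rfl | rfl | rfl | rfl
    · exact absurd rfl hv1
    · exact Or.inl rfl
    · right
      rw [cm, e3, e4, inv_eq_of_mul_eq_one_left (psq h 3 4), h.comm 3 4, pmul h]
    · right
      rw [cm, e2, e4, inv_eq_of_mul_eq_one_left (psq h 2 4), h.comm 2 4, pmul h, h.comm 3 2]
  · refine comm_mem_of_gen hf (Cfsg.Agent.MinSimple.VModule.le_normalizer_zl _ _ htP) ?_ (fun i => ?_) u hu
    · rw [zpowers_le]; exact hf.a_mem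
    · rw [haa]
      fin_cases i
      · left; change t * p 0 * t⁻¹ * (p 0)⁻¹ = 1; rw [e0, mul_inv_cancel]
      · left; change t * p 1 * t⁻¹ * (p 1)⁻¹ = 1; rw [e1, mul_inv_cancel]
      · right; change t * p 2 * t⁻¹ * (p 2)⁻¹ = aa p; rw [e2, h.pinv, h.comm 3 2]
      · right; change t * p 3 * t⁻¹ * (p 3)⁻¹ = aa p; rw [e3, h.pinv]
      · left; change t * p 4 * t⁻¹ * (p 4)⁻¹ = 1; rw [e4, mul_inv_cancel]

/-- `N_G(V_P)` permutes the five heavy points. -/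
theorem act (hl : FiveL S P p) {g : G} (hg : g ∈ normalizer (zl (S : Subgroup G) P : Set G)) :
    ∃ σ : Equiv.Perm (Fin 5), ∀ i, g * p i * g⁻¹ = p (σ i) := by
  have key : ∀ i, ∃ j, g * p i * g⁻¹ = p j := by
    intro i
    have h1 : g * p i * g⁻¹ ∈ zl (S : Subgroup G) P := (mem_normalizer_iff.1 hg _).1 (hl.toFive.p_mem i)
    rcases hl.toFive.elts h1 with h2 | ⟨j, h2⟩ | ⟨j, k, hjk, h2⟩
    · exfalso
      refine hl.std.ne i ?_
      calc p i = g⁻¹ * (g * p i * g⁻¹) * g := by group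
        _ = 1 := by rw [h2]; group
    · exact ⟨j, h2⟩
    · exfalso
      obtain ⟨k1, hk1, e1⟩ := hl.toFive.heavy i
      obtain ⟨k2, hk2, e2⟩ := hl.toFive.lights hjk
      refine hl.not_conj (k2⁻¹ * g * k1) ?_
      calc k2⁻¹ * g * k1 * p 4 * (k2⁻¹ * g * k1)⁻¹ = k2⁻¹ * (g * (k1 * p 4 * k1⁻¹) * g⁻¹) * k2 := by group
        _ = k2⁻¹ * (k2 * nn p * k2⁻¹) * k2 := by rw [e1, h2, e2]
        _ = nn p := by group
  choose f hf using key
  have hinj : Function.Injective f := by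
    intro i j hij
    apply hl.std.inj
    have h1 := hf i
    rw [hij, ← hf j] at h1
    exact mul_left_cancel (mul_right_cancel h1)
  exact ⟨Equiv.ofBijective f (Finite.injective_iff_bijective.1 hinj), fun i => hf i⟩

omit [Finite G] in
/-- an element acting on `{2, 3, 4}` satisfies `[V_P, g] ≤ Vt` -/
theorem comm_Vt_gen (h : Fv P p) {g : G} {σ : Equiv.Perm (Fin 5)} (hσ : ∀ i, g * p i * g⁻¹ = p (σ i))
    (h0 : σ 0 = 0) (h1 : σ 1 = 1) (i : Fin 5) : g * p i * g⁻¹ * (p i)⁻¹ ∈ Vt p := by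
  rw [hσ, h.pinv]
  have key : ∀ σ : Equiv.Perm (Fin 5), σ 0 = 0 → σ 1 = 1 → ∀ i, σ i = i ∨ ((i = 2 ∨ i = 3 ∨ i = 4) ∧
      (σ i = 2 ∨ σ i = 3 ∨ σ i = 4)) := by decide +kernel
  rcases key σ h0 h1 i with h2 | ⟨h2, h3⟩
  · rw [h2, h.sq]; exact one_mem _
  · rw [mem_Vt h]
    rcases h2 with rfl | rfl | rfl <;> rcases h3 with h3 | h3 | h3 <;> rw [h3]
    · left; exact h.sq _
    · right; left; exact h.comm _ _
    · right; right; right; exact h.comm _ _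
    · right; left; rfl
    · left; exact h.sq _
    · right; right; left; exact h.comm _ _
    · right; right; right; rfl
    · right; right; left; rfl
    · left; exact h.sq _

/-- **`[V_P, g] ≤ Vt`** for `g ∈ N_G(V_P) ∩ C(nn p)` of odd order. -/
theorem odd_le (hl : FiveL S P p) {g : G} (hg : g ∈ normalizer (zl (S : Subgroup G) P : Set G))
    (hn : g * nn p * g⁻¹ = nn p) (ho : Odd (orderOf g)) :
    ∀ v ∈ zl (S : Subgroup G) P, g * v * g⁻¹ * v⁻¹ ∈ Vt p := by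
  have h := hl.std.toFv
  obtain ⟨σ, hσ⟩ := act hl hg
  have hpow : ∀ n : ℕ, ∀ i, g ^ n * p i * (g ^ n)⁻¹ = p ((σ ^ n) i) := by
    intro n
    induction n with
    | zero => intro i; simp
    | succ n ih =>
      intro i
      rw [pow_succ', pow_succ']
      have e : g * g ^ n * p i * (g * g ^ n)⁻¹ = g * (g ^ n * p i * (g ^ n)⁻¹) * g⁻¹ := by group
      rw [e, ih, hσ]
      rfl
  have hσ1 : σ ^ orderOf g = 1 := by
    refine Equiv.ext fun i => ?_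
    have h1 := hpow (orderOf g) i
    rw [pow_orderOf_eq_one, one_mul, inv_one, mul_one] at h1
    exact (h.inj h1).symm
  have h01 : (σ 0 = 0 ∧ σ 1 = 1) ∨ (σ 0 = 1 ∧ σ 1 = 0) := by
    have h1 := hn
    rw [nn, cm, hσ, hσ] at h1
    exact h.pair_inj (fun e => absurd (σ.injective e) (by decide)) (by decide) h1
  have h00 : σ 0 = 0 ∧ σ 1 = 1 := by
    rcases h01 with h1 | ⟨h1, h2⟩
    · exact h1
    · exfalso
      obtain ⟨m, hm⟩ := ho
      have h3 : (σ ^ 2) 0 = 0 := by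
        rw [pow_two, Equiv.Perm.mul_apply, h1, h2]
      have h4 : ∀ k : ℕ, ((σ ^ 2) ^ k) 0 = 0 := by
        intro k
        induction k with
        | zero => rfl
        | succ k ih => rw [pow_succ, Equiv.Perm.mul_apply, h3, ih]
      have h5 : (σ ^ orderOf g) 0 = 1 := by
        rw [hm, pow_succ', pow_mul, Equiv.Perm.mul_apply, h4, h1]
      rw [hσ1] at h5
      exact absurd h5 (by decide)
  exact comm_mem_of_gen hl.toFive hg (Vt_le hl.toFive) fun i => comm_Vt_gen h hσ h00.1 h00.2 i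

omit [Finite G] in
/-- `g` acting with `{σ 0, σ 1} = {0, 1}` normalises `Vt` -/
theorem norm_Vt_of (h : Fv P p) {g : G} {σ : Equiv.Perm (Fin 5)} (hσ : ∀ i, g * p i * g⁻¹ = p (σ i))
    (h01 : (σ 0 = 0 ∧ σ 1 = 1) ∨ (σ 0 = 1 ∧ σ 1 = 0)) {v : G} (hv : v ∈ Vt p) : g * v * g⁻¹ ∈ Vt p := by
  have key : ∀ σ : Equiv.Perm (Fin 5), ((σ 0 = 0 ∧ σ 1 = 1) ∨ (σ 0 = 1 ∧ σ 1 = 0)) →
      (σ 2 = 2 ∨ σ 2 = 3 ∨ σ 2 = 4) ∧ (σ 3 = 2 ∨ σ 3 = 3 ∨ σ 3 = 4) ∧ (σ 4 = 2 ∨ σ 4 = 3 ∨ σ 4 = 4) := by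
    decide +kernel
  obtain ⟨k2, k3, k4⟩ := key σ h01
  have hm : ∀ i j : Fin 5, (i = 2 ∨ i = 3 ∨ i = 4) → (j = 2 ∨ j = 3 ∨ j = 4) → p i * p j ∈ Vt p := by
    intro i j hi hj
    rw [mem_Vt h]
    rcases hi with rfl | rfl | rfl <;> rcases hj with rfl | rfl | rfl
    · left; exact h.sq _
    · right; left; rfl
    · right; right; right; rfl
    · right; left; exact h.comm _ _
    · left; exact h.sq _
    · right; right; left; rfl
    · right; right; right; exact h.comm _ _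
    · right; right; left; exact h.comm _ _
    · left; exact h.sq _
  rcases (mem_Vt h).1 hv with rfl | rfl | rfl | rfl
  · rw [mul_one, mul_inv_cancel]; exact one_mem _
  · rw [cm, hσ, hσ]; exact hm _ _ k2 k3
  · rw [cm, hσ, hσ]; exact hm _ _ k3 k4
  · rw [cm, hσ, hσ]; exact hm _ _ k2 k4

omit [Finite G] in
theorem pair01 (h : Fv P p) {g : G} {σ : Equiv.Perm (Fin 5)} (hσ : ∀ i, g * p i * g⁻¹ = p (σ i))
    (hn : g * nn p * g⁻¹ = nn p) : (σ 0 = 0 ∧ σ 1 = 1) ∨ (σ 0 = 1 ∧ σ 1 = 0) := by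
  rw [nn, cm, hσ, hσ] at hn
  exact h.pair_inj (fun e => absurd (σ.injective e) (by decide)) (by decide) hn

/-- `N_G(V_P) ∩ C(nn p)` normalises `Vt` -/
theorem norm_Vt (hl : FiveL S P p) :
    normalizer (zl (S : Subgroup G) P : Set G) ⊓ centralizer ({nn p} : Set G) ≤ normalizer (Vt p : Set G) := by
  rintro g ⟨hg, hn⟩
  have h := hl.std.toFv
  have key : ∀ g, g ∈ normalizer (zl (S : Subgroup G) P : Set G) → g * nn p * g⁻¹ = nn p → ∀ v ∈ Vt p,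
      g * v * g⁻¹ ∈ Vt p := fun g hg hn v hv => by
    obtain ⟨σ, hσ⟩ := act hl hg
    exact norm_Vt_of h hσ (pair01 h hσ hn) hv
  have hn' := mem_cent.1 hn
  rw [mem_normalizer_iff]
  refine fun v => ⟨key g hg hn' v, fun hv => ?_⟩
  have h1 := key g⁻¹ (inv_mem hg) (by
    rw [comm_iff] at hn' ⊢
    rw [inv_mul_eq_iff_eq_mul, ← mul_assoc, hn', mul_inv_cancel_right]) _ hv
  have e : g⁻¹ * (g * v * g⁻¹) * g⁻¹⁻¹ = v := by group
  rwa [e] at h1

omit [Finite G] in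
/-- `P ∩ C(nn p)` is transitive on `Vt#` (and moves `aa p` to every element). -/
theorem trans_Vt (h : Fv P p) {v : G} (hv : v ∈ Vt p) (hv1 : v ≠ 1) :
    ∃ g ∈ P ⊓ centralizer ({nn p} : Set G), g * aa p * g⁻¹ = v := by
  have key : ∀ σ : Equiv.Perm (Fin 5), σ 0 = 0 → σ 1 = 1 → ∃ g ∈ P ⊓ centralizer ({nn p} : Set G),
      ∀ i, g * p i * g⁻¹ = p (σ i) := fun σ h0 h1 => by
    obtain ⟨g, hg, e⟩ := h.full σ
    refine ⟨g, mem_inf.2 ⟨hg, mem_cent.2 ?_⟩, e⟩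
    rw [nn, cm, e, e, h0, h1]
  rcases (mem_Vt h).1 hv with rfl | rfl | rfl | rfl
  · exact absurd rfl hv1
  · exact ⟨1, one_mem _, by group⟩
  · obtain ⟨g, hg, e⟩ := key (Equiv.swap 2 4) (by decide) (by decide)
    refine ⟨g, hg, ?_⟩
    rw [aa, cm, e, e, Equiv.swap_apply_left, Equiv.swap_apply_of_ne_of_ne (by decide) (by decide), h.comm]
  · obtain ⟨g, hg, e⟩ := key (Equiv.swap 3 4) (by decide) (by decide)
    refine ⟨g, hg, ?_⟩
    rw [aa, cm, e, e, Equiv.swap_apply_left, Equiv.swap_apply_of_ne_of_ne (by decide) (by decide)]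

/-- every `A ≤ S` which moves `V_P` has a conjugate under `S` which moves `Vt` -/
theorem exists_conj_mv (hf : Five S P p) {A : Subgroup G} (hA : A ≤ (S : Subgroup G))
    (hm : ¬ A ≤ centralizer (zl (S : Subgroup G) P : Set G)) :
    ∃ s ∈ (S : Subgroup G), ¬ cj s A ≤ centralizer (Vt p : Set G) := by
  have h := hf.std.toFv
  by_contra hcon
  push Not at hcon
  apply hm
  intro a ha
  obtain ⟨s, hs, e0, e1, e2, e3, e4⟩ := ind_cross hf.std
  obtain ⟨σ, hσ⟩ := h.perm a (hf.std.le (hA ha))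
  have h1 : a ∈ centralizer (Vt p : Set G) := by
    have := hcon 1 (one_mem _)
    rw [ChoiceBase.cj_one] at this
    exact this ha
  have h2 := hcon s hs ⟨a, ha, rfl⟩
  obtain ⟨k2, k3, k4⟩ := fix_of h hσ h1
  have hsig : ∀ i, s * a * s⁻¹ * p i * (s * a * s⁻¹)⁻¹ = s * (a * (s⁻¹ * p i * s) * a⁻¹) * s⁻¹ := fun i => by group
  have inv : ∀ {x y : G}, s * x * s⁻¹ = y → s⁻¹ * y * s = x := fun e => by rw [← e]; group
  have hc : ∀ y ∈ Vt p, (s * a * s⁻¹) * y * (s * a * s⁻¹)⁻¹ = y := fun y hy => by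
    rw [comm_iff]; exact (mem_centralizer_iff.1 h2 y hy).symm
  -- `s a s⁻¹` fixes `p 2 * p 3`, `p 3 * p 4`, so `a` fixes `p 0 * p 1`, `p 1 * p 4`
  have h5 : a * (p 1 * p 4) * a⁻¹ = p 1 * p 4 := by
    have h6 := hc _ ((mem_Vt h).2 (Or.inr (Or.inr (Or.inl rfl))))
    have h7 : s⁻¹ * (p 3 * p 4) * s = p 1 * p 4 := by
      have e5 : s⁻¹ * (p 3 * p 4) * s = (s⁻¹ * p 3 * s) * (s⁻¹ * p 4 * s) := by group
      rw [e5, inv e1, inv e4]
    calc a * (p 1 * p 4) * a⁻¹ = s⁻¹ * (s * a * s⁻¹ * (p 3 * p 4) * (s * a * s⁻¹)⁻¹) * s := by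
          rw [← h7]; group
      _ = p 1 * p 4 := by rw [h6, h7]
  rw [cm, hσ, hσ, k4] at h5
  have h6 : σ 1 = 1 := h.inj (mul_right_cancel h5)
  have h7 : σ 0 = 0 := by
    have key : ∀ σ : Equiv.Perm (Fin 5), σ 1 = 1 → σ 2 = 2 → σ 3 = 3 → σ 4 = 4 → σ 0 = 0 := by decide +kernel
    exact key σ h6 k2 k3 k4
  rw [hf.gen]
  rw [Subgroup.centralizer_closure, mem_centralizer_iff]
  rintro _ ⟨i, rfl⟩
  have h8 : a * p i * a⁻¹ = p i := by
    rw [hσ]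
    fin_cases i
    · exact congrArg p h7
    · exact congrArg p h6
    · exact congrArg p k2
    · exact congrArg p k3
    · exact congrArg p k4
  rw [comm_iff] at h8
  exact h8.symm

end fin

end Cfsg.Agent.Omega.CaseLQ.FiveFacts

end
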