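import Cfsg.Agent.Mrg.Omega.CaseLQ.OneY
import Cfsg.Agent.Mrg.Omega.NO3S.EThree.Frame
import Cfsg.Agent.Mrg.Omega.NO3S.CaseLW.Lam
import Cfsg.Agent.Mrg.Omega.NO3S.RedC.MaxMin
import Cfsg.Agent.Mrg.Omega.CaseLQ.PartI
import Mathlib
import Cfsg.Agent.Mrg.Omega.FrameI
import Cfsg.Agent.Mrg.Omega.NO3S.SLTwo.Tor

section


/-!
# The `ψ`-trick over the frame `Bg` (several natural blocks): the fields of `V_P`

`Tj := B ⊓ C(C j)`; `frG_of_bg` : the frame `FrG` from `Bg`, `q ≥ 4`, `C_U(O₂(P)) ≤ V_P` and the data `c`, `K` of `Y`.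
-/

set_option autoImplicit false
set_option linter.unusedSectionVars false

namespace Cfsg.Agent.Omega.CaseLQ.Psi

open Subgroup Cfsg Cfsg.Agent.ZN Cfsg.Agent.ZN.ChoiceBase
open Cfsg.Agent.Omega.OM
open Cfsg.Agent.Omega.NO3S.EThree.Frame (Bg Fg)

universe u w

variable {G : Type u} [Group G] [Finite G] {S : Sylow 2 G} {P B ZJ : Subgroup G} {ι : Type} {L W Z C : ι → Subgroup G}
  {q : ℕ}

/-- The root group of the block `j`. -/
def Tj (B : Subgroup G) (C : ι → Subgroup G) (j : ι) : Subgroup G := B ⊓ centralizer (C j : Set G)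

section bg

variable (h : Bg S P B ZJ L W Z C q)
include h

theorem QTj (j : ι) : o2 P ≤ Tj B C j :=
  le_inf h.fr.QB fun _ hx _ hc => (h.fr.cQ hx (h.fr.CV j hc)).symm

theorem mem_Q_of {j : ι} {t v : G} (ht : t ∈ Tj B C j) (hv : v ∈ W j) (hvZ : v ∉ Z j) (htv : t * v = v * t) :
    t ∈ o2 P := by
  refine (h.fr.mem_Q t ht.1).2 fun u hu => ?_
  obtain ⟨w, hw, c, hc, rfl⟩ := h.fr.WC j u hu
  have h1 := (h.fr.blk j).free t ht.1 v hv hvZ htv w hw
  have h2 : c * t = t * c := ht.2 c hc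
  rw [← mul_assoc, h1, mul_assoc, ← h2, mul_assoc]

theorem exists_v (j : ι) : ∃ v ∈ W j, v ∉ Z j := by
  obtain ⟨b, hb, v, hv, hbv⟩ := (h.fr.blk j).ne
  exact ⟨v, hv, fun hz => hbv ((h.fr.blk j).cZ b hb v hz)⟩

theorem root_Tj {j : ι} {v : G} (hv : v ∈ W j) (hvZ : v ∉ Z j) {z : G} (hz : z ∈ Z j) :
    ∃ t ∈ Tj B C j, t * v * t⁻¹ * v⁻¹ = z := by
  obtain ⟨b, hb, hbC, he⟩ := h.root j v hv hvZ z hz
  exact ⟨b, ⟨hb, hbC⟩, he⟩

theorem sq_Tj {j : ι} {t : G} (ht : t ∈ Tj B C j) : t * t ∈ o2 P := by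
  obtain ⟨v, hv, hvZ⟩ := exists_v h j
  refine mem_Q_of h (mul_mem ht ht) hv hvZ ?_
  have hz := (h.fr.blk j).com t ht.1 v hv
  set z := t * v * t⁻¹ * v⁻¹ with hzd
  have h1 : t * v = z * v * t := by rw [hzd]; group
  have h2 : t * z = z * t := (h.fr.blk j).cZ t ht.1 z hz
  have h3 : z * z = 1 := by
    have := h.fr.Vsq (h.fr.ZV j hz)
    rwa [pow_two] at this
  calc t * t * v = t * (t * v) := by group
    _ = t * (z * v * t) := by rw [h1]
    _ = (t * z) * (v * t) := by group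
    _ = z * (t * v) * t := by rw [h2]; group
    _ = (z * z) * (v * (t * t)) := by rw [h1]; group
    _ = v * (t * t) := by rw [h3, one_mul]

theorem four_Tj (hq : 3 ≤ q) {j : ι} {t : G} (ht : t ∈ Tj B C j) :
    ∃ s ∈ Tj B C j, s ∉ o2 P ∧ t⁻¹ * s ∉ o2 P := by
  obtain ⟨v, hv, hvZ⟩ := exists_v h j
  have hzt := (h.fr.blk j).com t ht.1 v hv
  obtain ⟨z, hz, hz1, hzne⟩ : ∃ z ∈ Z j, z ≠ 1 ∧ z ≠ t * v * t⁻¹ * v⁻¹ := by
    by_contra hcon
    push Not at hcon
    have h1 : (Z j : Set G) ⊆ ({1, t * v * t⁻¹ * v⁻¹} : Set G) := by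
      intro z hz
      by_cases h1 : z = 1
      · exact Or.inl h1
      · exact Or.inr (hcon z hz h1)
    have h2 := Set.ncard_le_ncard h1 (Set.toFinite _)
    have h3 : (Z j : Set G).ncard = q := h.fr.cardZ j
    have h4 : ({1, t * v * t⁻¹ * v⁻¹} : Set G).ncard ≤ 2 := Set.ncard_insert_le _ _ |>.trans (by simp)
    omega
  obtain ⟨s, hs, hsz⟩ := root_Tj h hv hvZ hz
  refine ⟨s, hs, fun hsQ => hz1 ?_, fun hsQ => hzne ?_⟩
  · have := h.fr.cQ hsQ (h.fr.WV j hv)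
    rw [← hsz, this]; group
  · have h1 := h.fr.cQ hsQ (h.fr.WV j hv)
    have h2 : s * v = t * (v * (t⁻¹ * s)) := by rw [← h1]; group
    rw [← hsz, h2]; group

/-- **The frame of the `ψ`-trick from `Bg`.** -/
theorem frG_of_bg {κ : Type w} {j : ι} (hq : 3 ≤ q) {T U : Subgroup G} {c K : κ → Subgroup G} (BT : B ≤ T)
    (TS : T ≤ (S : Subgroup G)) (UT : T ≤ normalizer (U : Set G)) (Uc : ∀ x ∈ U, ∀ y ∈ U, x * y = y * x)
    (WU : W j ≤ U) (CQ : U ⊓ centralizer (o2 P : Set G) ≤ zl (S : Subgroup G) P)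
    (perm : ∀ t ∈ T, ∀ i, ∃ m, cj t (c i) = c m ∧ cj t (K i) = K m)
    (cyc : ∀ i, ∃ g ∈ T, cj g (c i) = c i ∧ ∀ x ∈ T, cj x (c i) = c i →
      ∃ n : ℤ, ∀ v ∈ c i, x * v * x⁻¹ = g ^ n * v * (g ^ n)⁻¹)
    (cU : ∀ i, c i ≤ U) (ne : ∀ i, c i ≠ ⊥) (inf : ∀ i, c i ⊓ centralizer (K i : Set G) = ⊥)
    (cm : ∀ i m, m ≠ i → c m ≤ centralizer (K i : Set G))
    (cov : ∀ i, W j ≤ c i ⊔ (U ⊓ centralizer (K i : Set G)))
    (nZ : ∃ i, ¬ Z j ≤ centralizer (K i : Set G)) :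
    FrG U T (o2 P) (Tj B C j) (W j) (Z j) c K where
  comm := Uc
  TU := UT
  QT := QTj h j
  TjT := inf_le_left.trans BT
  Qn := TS.trans (h.hyp.toHyp.star.isLoc.le.trans (ChoiceSit.le_normalizer_o2 P))
  sq := fun t ht => sq_Tj h ht
  four := fun t ht => four_Tj h hq ht
  perm := perm
  cyc := cyc
  cU := cU
  ne := ne
  inf := inf
  cm := cm
  NU := WU
  NT := by
    intro t ht
    rw [mem_normalizer_iff_cj]
    refine Subgroup.eq_of_le_of_card_ge ?_ (card_cj _ _).ge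
    rintro _ ⟨w, hw, rfl⟩
    exact (h.fr.blk j).BV ht.1 hw
  NQ := fun w hw x hx => h.fr.cQ hx (h.fr.WV j hw)
  cov := cov
  ZN := (h.fr.blk j).ZV
  NZ := fun hcon => by
    obtain ⟨v, hv, hvZ⟩ := exists_v h j
    exact hvZ (hcon hv)
  cen := fun t ht htQ n hn hnt => by
    by_contra hnZ
    exact htQ (mem_Q_of h ht hn hnZ (mul_inv_eq_iff_eq_mul.1 hnt))
  Zc := fun z hz t ht => (h.fr.blk j).cZ t ht.1 z hz
  full := fun n hn hnZ z hz => root_Tj h hn hnZ hz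
  CQ := fun u hu huQ => by
    obtain ⟨w, hw, c, hc, rfl⟩ := h.fr.WC j u (CQ ⟨hu, huQ⟩)
    refine ⟨w, hw, ?_⟩
    rw [inv_mul_cancel_left]
    intro t ht
    exact (ht.2 c hc).symm
  nZ := nZ

end bg

end Cfsg.Agent.Omega.CaseLQ.Psi

end

section


/-!
# NoW, `q ≥ 4`: [Y], the blocks of the weird parabolic `Y` on `U` (helper952 #24536 (ii), helper707 #24883)

`Fam U H T` : the subgroups `E ≤ T` which are maximal offenders of least rank on `U` with respect to `H` (`MaxMin U H E`)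
or act trivially on `U`. This is a family of best offenders (`bfam`), so helper373's `YBX.exists_ybx` gives the blocks of
`Y` on `X' = C_U(⟨Fam⟩)`; the `ψ`-trick is run in `X'`.

* `bfam` : `BFam T U (normalizer U) (Fam U H T)`;
* `frN_of_yb` : the frame `FrN` from `YB` and helper707's fields of `Bg`;
* `psi_false` : over `Bg`, `q ≥ 3`: if all members `E ≤ T` centralise `W j` and one of them is not in `O₂(Y)`: `False`.
-/

set_option autoImplicit false
set_option linter.unusedSectionVars false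

namespace Cfsg.Agent.Omega.CaseLQ.PsiYB

open Subgroup Cfsg Cfsg.Agent.ZN Cfsg.Agent.ZN.ChoiceBase
open Cfsg.Agent.ZN.ChoiceSit (Syl)
open Cfsg.Agent.Omega.OM
open Cfsg.Agent.Omega.OM.GLev (GE)
open Cfsg.Agent.Omega.OM.Lev.Low (YB Mv)
open Cfsg.Agent.Omega.NO3S.EThree.Frame (Bg Fg)
open Cfsg.Agent.Omega.NO3S.OneLine (BFam)
open Cfsg.Agent.Omega.NO3S.RedC (MaxMin)
open Cfsg.Agent.Omega.NO3S.CaseLW.YBX (Xc mem_Xc Concl)
open Cfsg.Agent.Omega.FFThm (OffM ElemM NoOverM StmtM)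
open Cfsg.Agent.MinSimple.MinParabolic (IsMinPar)
open Cfsg.Agent.MinSimple.VModule (oddGen)
open Cfsg.Agent.Omega.CaseLQ.Psi

universe u w

variable {G : Type u} [Group G] [Finite G]

/-- maximal offenders of least rank `≤ T`, and the subgroups of `T` acting trivially -/
def Fam (U H T : Subgroup G) : Set (Subgroup G) := {E | E ≤ T ∧ (MaxMin U H E ∨ E ≤ centralizer (U : Set G))}

/-- **The family of best offenders.** -/
theorem bfam {U H T : Subgroup G} (TH : T ≤ H) : BFam T U (normalizer (U : Set G)) (Fam U H T) where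
  le A hA := hA.1
  elem A hA := by
    rcases hA.2 with h | h
    · exact h.elem
    · exact ⟨fun a ha => pow_mem (h ha) 2, fun a ha b hb =>
        mul_mem (mul_mem (mul_mem (h ha) (h hb)) (inv_mem (h ha))) (inv_mem (h hb))⟩
  best A hA B hB hBA := by
    rcases hA.2 with h | h
    · exact h.best.max B hBA hB
    · have e : B = A := le_antisymm hBA (le_trans (le_inf le_rfl h) hB)
      rw [e]
  cut A hA B hB hBA he := by
    rcases hA.2 with h | h
    · rcases h.eq_or hBA hB he.ge with h1 | h1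
      · exact ⟨A, hA, by rw [h1]⟩
      · exact ⟨B, ⟨hBA.trans hA.1, Or.inr h1⟩, rfl⟩
    · exact ⟨B, ⟨hBA.trans hA.1, Or.inr (hBA.trans h)⟩, rfl⟩
  conj A hA g hg hle := by
    refine ⟨hle, ?_⟩
    have hc : cj g (centralizer (U : Set G)) = centralizer (U : Set G) := by
      rw [cj_centralizer, cj_eq_of_mem_normalizer hg]
    rcases hA.2 with h | h
    · left
      exact
        { le := hle.trans TH
          pg := ChoiceBase.isPGroup_cj g h.pg
          elem := NOThreeL.VF.elemM_cj hg h.elem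
          ne := fun h1 => h.ne (by
            have h2 := cj_mono g⁻¹ h1
            rw [cj_inv_cj, cj_centralizer, cj_eq_of_mem_normalizer (inv_mem hg)] at h2
            exact h2)
          max := fun D hD hD2 hE => by
            rw [(NOThreeL.VF.fM_cj (A := A) hg).1]
            exact h.max D hD hD2 hE
          min := fun D hD hD2 hE hne hf => by
            rw [(NOThreeL.VF.fM_cj (A := A) hg).2]
            rw [(NOThreeL.VF.fM_cj (A := A) hg).1] at hf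
            exact h.min D hD hD2 hE hne hf }
    · right
      have h1 := cj_mono g h
      rwa [hc] at h1

/-- from pairwise comparability to one generator -/
theorem exists_gen {T X : Subgroup G} {κ : Type*} {N c : κ → Subgroup G} (h : YB T X N c) (l : κ) :
    ∃ g ∈ T, Mv N c g l l ∧ ∀ x ∈ T, Mv N c x l l → ∃ n : ℤ, ∀ v ∈ c l, x * v * x⁻¹ = g ^ n * v * (g ^ n)⁻¹ := by
  classical
  -- `x` acts as a power of `g`
  let R : G → G → Prop := fun g x => ∃ n : ℤ, ∀ v ∈ c l, x * v * x⁻¹ = g ^ n * v * (g ^ n)⁻¹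
  have htr : ∀ a b x : G, Mv N c a l l → R b a → R a x → R b x := by
    rintro a b x ha ⟨n, hn⟩ ⟨m, hm⟩
    -- powers of `a` act as powers of `b ^ n`
    have hpos : ∀ k : ℕ, ∀ v ∈ c l, a ^ k * v * (a ^ k)⁻¹ = (b ^ n) ^ k * v * ((b ^ n) ^ k)⁻¹ ∧ a ^ k * v * (a ^ k)⁻¹ ∈ c l := by
      intro k
      induction k with
      | zero => intro v hv; simp [hv]
      | succ k ih =>
        intro v hv
        obtain ⟨h1, h2⟩ := ih v hv
        have e1 : a ^ (k + 1) * v * (a ^ (k + 1))⁻¹ = a * (a ^ k * v * (a ^ k)⁻¹) * a⁻¹ := by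
          rw [pow_succ']; group
        have e2 : (b ^ n) ^ (k + 1) * v * ((b ^ n) ^ (k + 1))⁻¹ = b ^ n * ((b ^ n) ^ k * v * ((b ^ n) ^ k)⁻¹) * (b ^ n)⁻¹ := by
          rw [pow_succ']; group
        rw [e1, e2, hn _ h2, h1]
        refine ⟨rfl, ?_⟩
        rw [← h1, ← hn _ h2]
        have h3 : cj a (c l) = c l := ha.2
        rw [← h3]
        exact ⟨_, h2, rfl⟩
    have hfin : ∃ k : ℕ, a ^ m = a ^ k := by
      obtain ⟨k, hk⟩ := (mem_powers_iff_mem_zpowers (x := a)).2 ⟨m, rfl⟩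
      exact ⟨k, hk.symm⟩
    obtain ⟨k, hk⟩ := hfin
    refine ⟨n * k, fun v hv => ?_⟩
    rw [hm v hv, hk, (hpos k v hv).1, zpow_mul, zpow_natCast]
  have hself : ∀ g : G, R g g := fun g => ⟨1, fun v _ => by rw [zpow_one]⟩
  -- comparability
  have hcomp : ∀ s ∈ T, ∀ t ∈ T, Mv N c s l l → Mv N c t l l → R t s ∨ R s t := by
    intro s hs t ht hms hmt
    have key : ∀ a b : G, Mv N c b l l → (∀ n : ℕ, (∀ x ∈ c l, a * b ^ n * x = x * (a * b ^ n)) → R b a) := by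
      intro a b hb n hn
      refine ⟨-(n : ℤ), fun v hv => ?_⟩
      have hb' : Mv N c (b ^ n)⁻¹ l l := (hb.pow n).inv
      have hv' : (b ^ n)⁻¹ * v * ((b ^ n)⁻¹)⁻¹ ∈ c l := by
        have h3 : cj (b ^ n)⁻¹ (c l) = c l := hb'.2
        rw [← h3]
        exact ⟨_, hv, rfl⟩
      have h1 := hn _ hv'
      rw [zpow_neg, zpow_natCast]
      calc a * v * a⁻¹ = (a * b ^ n * ((b ^ n)⁻¹ * v * ((b ^ n)⁻¹)⁻¹)) * ((b ^ n)⁻¹ * a⁻¹) := by group
        _ = (b ^ n)⁻¹ * v * ((b ^ n)⁻¹)⁻¹ := by rw [h1]; group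
    obtain ⟨n, hn | hn⟩ := h.cyc l s hs t ht hms hmt
    · exact Or.inl (key s t hmt n hn)
    · exact Or.inr (key t s hms n hn)
  -- a maximal element
  let St : Set G := {x | x ∈ T ∧ Mv N c x l l}
  have hne : St.Nonempty := ⟨1, one_mem T, Mv.one l⟩
  obtain ⟨g, hg, hmax⟩ := Set.exists_max_image St (fun g => {x ∈ St | R g x}.ncard) (Set.toFinite _) hne
  refine ⟨g, hg.1, hg.2, fun x hx hmx => ?_⟩
  rcases hcomp x hx g hg.1 hmx hg.2 with h1 | h1
  · exact h1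
  · -- `g` is a power of `x`
    have hsub : {y ∈ St | R g y} ⊆ {y ∈ St | R x y} := by
      rintro y ⟨hy, hgy⟩
      exact ⟨hy, htr g x y hg.2 h1 hgy⟩
    have h2 := hmax x ⟨hx, hmx⟩
    have h3 : {y ∈ St | R g y} = {y ∈ St | R x y} :=
      Set.eq_of_subset_of_ncard_le hsub h2 (Set.toFinite _)
    have h4 : x ∈ {y ∈ St | R x y} := ⟨⟨hx, hmx⟩, hself x⟩
    rw [← h3] at h4
    exact h4.2

/-- **The situation** [Y]: `Y` a minimal parabolic over `T` in `H`, `U` an elementary abelian normal subgroup of `H`. -/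
structure YS (U H T Y : Subgroup G) : Prop where
  Uc : U ≤ centralizer (U : Set G)
  Us : ∀ u ∈ U, u ^ 2 = 1
  HU : H ≤ normalizer (U : Set G)
  UT : U ≤ T
  syl : Syl T Y
  min : IsMinPar T Y
  c2 : Y ⊓ centralizer (o2 Y : Set G) ≤ o2 Y
  mv : ¬ Y ≤ centralizer (zc T : Set G)
  YH : Y ≤ H
  VU : zl T Y ≤ U

namespace YS

variable {U H T Y : Subgroup G} (s : YS U H T Y)
include s

theorem U_mul : ∀ x ∈ U, ∀ y ∈ U, x * y = y * x := fun x hx _ hy => mem_centralizer_iff.1 (s.Uc hy) x hx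

theorem TY : T ≤ Y := s.syl.1

theorem YV : Y ≤ normalizer (zl T Y : Set G) := MinSimple.VModule.le_normalizer_zl T Y

theorem hm : SQ1.FFOne.MinH Y T := SQ1.FFOne.minH_of s.syl s.min s.c2

theorem odd_not : ¬ oddGen Y ≤ centralizer (zl T Y : Set G) := by
  intro h0
  apply s.mv
  have h1 := NO3b.EZero.oddGen_sup_syl s.syl
  rw [← h1]
  refine sup_le (h0.trans (centralizer_le SQ1.VOf.zc_le_zl)) (NO3b.EZero.cent_symm ?_)
  intro z hz
  exact mem_centralizer_iff.2 fun t ht => (ChoiceBase.mem_zc.1 hz).2.2 t ht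

/-- `C_T(V) ≤ O₂(Y)` -/
theorem cap : T ⊓ centralizer (zl T Y : Set G) ≤ o2 Y := by
  have hYY : Y ≤ normalizer ((Y ⊓ centralizer (zl T Y : Set G) : Subgroup G) : Set G) :=
    NO3b.EZero.le_normalizer_inf_cent s.YV
  rcases NO3b.K0.min_or s.syl s.min (K := Y ⊓ centralizer (zl T Y : Set G)) inf_le_left hYY with h2 | h2
  · exact absurd (h2.trans inf_le_right) s.odd_not
  · exact (le_inf inf_le_left (le_inf (inf_le_left.trans s.TY) inf_le_right)).trans h2

/-- the blocks of `Y` on `C_U(⟨Fam⟩)` -/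
theorem exists_concl (hFF : StmtM.{u}) (hex : ∃ E, E ≤ T ∧ MaxMin U H E ∧ ¬ E ≤ o2 Y) :
    GE T Y U (Fam U H T) ∧ ∃ (ι : Type) (_ : Finite ι) (Ni c : ι → Subgroup G), Concl T Y U (Fam U H T) Ni c := by
  obtain ⟨E, hET, hE, hEY⟩ := hex
  have hfam := bfam (U := U) (H := H) (T := T) (s.TY.trans s.YH)
  have hEF : E ∈ Fam U H T := ⟨hET, Or.inl hE⟩
  have hne : ¬ E ≤ centralizer (zl T Y : Set G) := fun h => hEY ((le_inf hET h).trans s.cap)
  obtain ⟨noV, con⟩ := hFF G T Y s.syl s.min s.c2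
    ⟨E, hET.trans s.TY, NO3S.OneLine.BFam.offM hfam s.U_mul s.VU hEF hne⟩
  have ge : GE T Y U (Fam U H T) :=
    { hm := s.hm
      fam := hfam
      elem := Cfsg.Agent.PLocal.ThompsonJ.isElementaryAbelian_iff.2 ⟨s.U_mul, s.Us⟩
      norm := s.YH.trans s.HU
      VX := s.VU
      QC := s.cap
      noOver := noV }
  exact ⟨ge, NO3S.CaseLW.YBX.exists_ybx ge s.UT con ⟨E, hEF, hEY⟩ s.mv⟩

end YS

section bg

variable {S : Sylow 2 G} {P B ZJ : Subgroup G} {ι : Type} {L W Z C : ι → Subgroup G} {q : ℕ}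
  (h : Bg S P B ZJ L W Z C q)
include h

/-- **The frame of the `ψ`-trick from `Bg` and `YB`.** -/
theorem frN_of_yb {κ : Type w} {j : ι} (hq : 3 ≤ q) {T X : Subgroup G} {Ni c : κ → Subgroup G} (BT : B ≤ T)
    (TS : T ≤ (S : Subgroup G)) (yb : YB T X Ni c) (WX : W j ≤ X)
    (CQ : X ⊓ centralizer (o2 P : Set G) ≤ zl (S : Subgroup G) P) (nZ : ∃ i, ¬ Z j ≤ Ni i) :
    FrN X T (o2 P) (Tj B C j) (W j) (Z j) c Ni where
  comm := yb.ab
  TU := yb.norm
  QT := QTj h j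
  TjT := inf_le_left.trans BT
  Qn := TS.trans (h.hyp.toHyp.star.isLoc.le.trans (ChoiceSit.le_normalizer_o2 P))
  sq := fun t ht => sq_Tj h ht
  four := fun t ht => four_Tj h hq ht
  perm := fun t ht i => by
    obtain ⟨m, hm⟩ := yb.perm t ht i
    exact ⟨m, hm.2, hm.1⟩
  cyc := fun i => by
    obtain ⟨g, hg, hgi, hgen⟩ := exists_gen yb i
    refine ⟨g, hg, hgi.2, fun x hx hxc => hgen x hx ?_⟩
    obtain ⟨m, hm⟩ := yb.perm x hx i
    have h1 : c i = c m := hxc.symm.trans hm.2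
    have h2 : i = m := by
      by_contra hne
      apply yb.ne i
      rw [eq_bot_iff, ← yb.triv m]
      refine le_inf h1.le ?_
      exact yb.comm i m hne
    rw [← h2] at hm
    exact hm
  cU := yb.cX
  ne := yb.ne
  inf := yb.triv
  cm := fun i m hm => yb.comm m i hm
  NU := WX
  NT := by
    intro t ht
    rw [mem_normalizer_iff_cj]
    refine Subgroup.eq_of_le_of_card_ge ?_ (card_cj _ _).ge
    rintro _ ⟨w, hw, rfl⟩
    exact (h.fr.blk j).BV ht.1 hw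
  NQ := fun w hw x hx => h.fr.cQ hx (h.fr.WV j hw)
  cov := fun i w hw => by
    obtain ⟨a, ha, haw⟩ := yb.fix i w (WX hw)
    have h1 : w = a⁻¹ * (a * w) := by group
    rw [h1]
    exact mul_mem ((le_sup_left : c i ≤ _) (inv_mem ha))
      ((le_sup_right : X ⊓ Ni i ≤ _) ⟨mul_mem (yb.cX i ha) (WX hw), haw⟩)
  ZN := (h.fr.blk j).ZV
  NZ := fun hcon => by
    obtain ⟨v, hv, hvZ⟩ := exists_v h j
    exact hvZ (hcon hv)
  cen := fun t ht htQ n hn hnt => by
    by_contra hnZ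
    exact htQ (mem_Q_of h ht hn hnZ (mul_inv_eq_iff_eq_mul.1 hnt))
  Zc := fun z hz t ht => (h.fr.blk j).cZ t ht.1 z hz
  full := fun n hn hnZ z hz => root_Tj h hn hnZ hz
  CQ := fun u hu huQ => by
    obtain ⟨w, hw, c, hc, rfl⟩ := h.fr.WC j u (CQ ⟨hu, huQ⟩)
    refine ⟨w, hw, ?_⟩
    rw [inv_mul_cancel_left]
    intro t ht
    exact (ht.2 c hc).symm
  nZ := nZ

/-- **NoW, `q ≥ 3`, step (ii)**: if all maximal offenders of least rank `≤ T` centralise `W j`, and one of them is not in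
`O₂(Y)`, where `Y` centralises `Λ`, `Ω₁Z(T) ≤ Λ Z_j`: contradiction. -/
theorem psi_false {j : ι} (hq : 3 ≤ q) {U H T Y Λ : Subgroup G} (s : YS U H T Y) (hFF : StmtM.{u}) (BT : B ≤ T)
    (TS : T ≤ (S : Subgroup G)) (WU : W j ≤ U) (CQ : U ⊓ centralizer (o2 P : Set G) ≤ zl (S : Subgroup G) P)
    (cen : ∀ E ≤ T, MaxMin U H E → E ≤ centralizer (W j : Set G))
    (hex : ∃ E, E ≤ T ∧ MaxMin U H E ∧ ¬ E ≤ o2 Y) (YΛ : Y ≤ centralizer (Λ : Set G)) (ΛU : Λ ≤ U)
    (zT : zc T ≤ Λ ⊔ Z j) : False := by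
  obtain ⟨ge, κ, _, Ni, c, hc⟩ := s.exists_concl hFF hex
  have WX : W j ≤ Xc U (Fam U H T) := by
    intro w hw
    refine mem_Xc.2 ⟨WU hw, fun A hA a ha => ?_⟩
    rcases hA.2 with h1 | h1
    · exact ((mem_centralizer_iff.1 (cen A hA.1 h1 ha)) w hw).symm
    · exact ((mem_centralizer_iff.1 (h1 ha)) w (WU hw)).symm
  have hΛ : ∀ l, Λ ≤ Ni l := fun l x hx => hc.cen x (ΛU hx) (fun A hA y hy a ha => by
    have h1 : y * a * y⁻¹ ∈ Y := mul_mem (mul_mem hy (s.TY (hA.1 ha))) (inv_mem hy)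
    exact ((mem_centralizer_iff.1 (YΛ h1)) x hx).symm) l
  have nZ : ∃ i, ¬ Z j ≤ Ni i := by
    obtain ⟨l, hl⟩ := hc.ex
    exact ⟨l, fun hZ => hl (zT.trans (sup_le (hΛ l) hZ))⟩
  exact (frN_of_yb h hq BT TS hc.yb WX ((inf_le_inf_right _ (NO3S.CaseLW.YBX.Xc_le _ _)).trans CQ) nZ).false

end bg

end Cfsg.Agent.Omega.CaseLQ.PsiYB

end

section


/-!
# The blocks of `H` on `C_X(⟨AA⟩)`, with one more clause

`exists_ybx_st`: helper373's `YBX.exists_ybx`, with the clause: for some `l` every vector of `N l` which is fixed by `T` is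
fixed by `H` (`H ≤ T ⊔ K l`). For NoW+ (helper509 #25180), where `Λ₁` is not centralised by `Y`.
-/

set_option autoImplicit false
set_option linter.unusedSectionVars false

namespace Cfsg.Agent.Omega.CaseLQ.YBXs

open Subgroup Cfsg Cfsg.Agent.ZN Cfsg.Agent.ZN.ChoiceBase Cfsg.Agent.ZN.ChoiceSit
open Cfsg.Agent.Omega.NatPair (ap ap_zero' ap_one' ap_one ap_mul ext2 ap_inv_ap ap_inj)
open Cfsg.Agent.Lib.SL2Mat
open Cfsg.Agent.Omega.SQ1.FFOne (MinH)
open Cfsg.Agent.Omega.NO3S.OneLine (NatC natC_of zc_elem)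
open Cfsg.Agent.Omega.NO3S.OneLine.NatC (acts_mul acts_inv acts_one acts_unique)
open Cfsg.Agent.Omega.OM.Lev.Nat (Wn mem_Wn Xn mem_Xn ap_z exists_up)
open Cfsg.Agent.Omega.OM.GNat (sl2_all exists_root cent_N)
open Cfsg.Agent.Omega.OM.GLev
open Cfsg.Agent.Omega.OM.Lev.Low
open Cfsg.Agent.Omega.FFThm (NatK NatKM SymKM ActsSL OffM)
open Cfsg.Agent.Omega.SQ1.Bau (elem_comm elem_sq)
open Cfsg.Agent.Omega.FrameFF (cv)
open Cfsg.Agent.Omega.NO3S.CaseLW.YBX
open Cfsg.Agent.Omega.NO3S.CaseLW.YBX.Nat (ld_of_root mem_of_comp comS cent_of_two)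
open Cfsg.Agent.Omega.NO3S.CaseLW.YBX.Sym (in_of comm_J)

universe u

variable {G : Type u} [Group G] [Finite G] {T H X : Subgroup G} {AA : Set (Subgroup G)}

/-- `Concl` and: for some `l` the vectors of `N l` fixed by `T` are fixed by `H` -/
def ConclS (T H X : Subgroup G) (AA : Set (Subgroup G)) {Λ : Type} (N c : Λ → Subgroup G) : Prop :=
  Concl T H X AA N c ∧ ∃ l, ∀ x ∈ N l, T ≤ centralizer ({x} : Set G) → H ≤ centralizer ({x} : Set G)

section nat

variable {k : ℕ} {F : Type} [Field F] [Finite F] [CharP F 2]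

/-- **`YB` on `C_X(⟨AA⟩)`, natural type.** -/
theorem nat_ybx (h : GE T H X AA) (N : NatKM F T H (zl T H) (cv T H) k) (hk : 0 < k)
    (hex : ∃ A ∈ AA, ¬ A ≤ o2 H) (hZ : ¬ H ≤ centralizer (zc T : Set G)) :
    ∃ Ni c : Fin k → Subgroup G, ConclS T H X AA Ni c := by
  classical
  set M := natC_of h.hm hk N.toNatK with hM
  obtain ⟨A, hA, hAQ⟩ := hex
  obtain ⟨j, hroot⟩ := exists_root h N hk hA hAQ
  obtain ⟨L, hL, hsup, hgen⟩ := ld_of_root h N hk hA hroot
  have main : ∀ c : Fin k → Subgroup G, Co M c → YB T (Xc X AA) (Ni M (Xc X AA) L j) c := fun c hc =>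
    hL.yb_aux hc fun i s hs t ht hsm htm => cyc_line h.hm N hk hs hsm ht htm
  have h2 : ∃ i, ¬ zc T ≤ Ni M (Xc X AA) L j i := by
    refine ⟨j, fun hcon => hZ (hsup.trans (sup_le ?_ ?_))⟩
    · exact NO3S.Level.le_centralizer_zc T
    · intro l hl
      rw [mem_centralizer_iff]
      intro z hz
      have h1 := (mem_Ni.1 (hcon hz)).2 1 (one_mem _) (MvI.one j) l hl
      simp only [inv_one, one_mul, mul_one] at h1
      exact h1.symm
  have hst : ∃ l, ∀ x ∈ Ni M (Xc X AA) L j l, T ≤ centralizer ({x} : Set G) → H ≤ centralizer ({x} : Set G) := by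
    refine ⟨j, fun x hx hT => hsup.trans (sup_le hT fun l hl => ?_)⟩
    have h1 := (mem_Ni.1 hx).2 1 (one_mem _) (MvI.one j) l hl
    simp only [inv_one, one_mul, mul_one] at h1
    exact mem_centralizer_singleton_iff.2 h1
  have h3 : ∀ x ∈ Xc X AA, (∀ y ∈ H, cj y (sSup AA) ≤ centralizer ({x} : Set G)) → ∀ i, x ∈ Ni M (Xc X AA) L j i := by
    intro x hx hxc i
    refine mem_Ni.2 ⟨hx, fun t ht _ l hl => ?_⟩
    have h1 := hgen (centralizer ({t⁻¹ * x * t} : Set G)) fun y hy => ?_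
    · exact mem_centralizer_singleton_iff.1 (h1 hl)
    · rintro _ ⟨b, hb, rfl⟩
      rw [mem_centralizer_singleton_iff]
      have h2 := mem_centralizer_singleton_iff.1 (hxc (t * y) (mul_mem (h.TH ht) hy) ⟨b, hb, rfl⟩)
      have h2' : t * y * b * (t * y)⁻¹ * x = x * (t * y * b * (t * y)⁻¹) := h2
      have h4 := congrArg (fun z => t⁻¹ * z * t) h2'
      show y * b * y⁻¹ * (t⁻¹ * x * t) = t⁻¹ * x * t * (y * b * y⁻¹)
      simpa [mul_assoc] using h4
  by_cases hF : ∀ x : F, x = 0 ∨ x = 1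
  · have hc := hL.co_two hF
    refine ⟨_, _, ⟨main _ hc, h2, fun x hx hxc => h3 x (Xc_of hx hxc) (le_of hxc), fun A hA v hv z _ a haA => ?_⟩, hst⟩
    have ha : a ∈ sSup AA := (le_sSup hA : A ≤ sSup AA) haA
    have hJV : ∀ a ∈ sSup AA, ∀ v ∈ zl T H, a * v * a⁻¹ ∈ zl T H := fun a ha v hv => M.Vn a (hL.TH (hL.BT ha)) v hv
    have hD : cv T H ≤ comS (zl T H) (sSup AA) (YB.Cp (fun i => closure {x | ∃ b ∈ sSup AA, ∃ w ∈ Wn M i,
        x = b * w * b⁻¹ * w⁻¹}) Set.univ) (fun x hx y hy => M.Vcomm hx hy) hJV := fun d hd =>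
      ⟨M.DV hd, fun a ha => by rw [Xc_comm (hL.DZ hd) ha, mul_inv_cancel_right, mul_inv_cancel]; exact one_mem _⟩
    exact (mem_of_comp M hD hv fun i u hu _ => ⟨hu.1, fun a ha =>
      YB.le_Cp (Set.mem_univ i) (subset_closure ⟨a, ha, u, hu, rfl⟩)⟩).2 a ha
  · push Not at hF
    obtain ⟨x, hx0, hx1⟩ := hF
    exact ⟨_, _, ⟨main _ (hL.co_tor hx0 hx1), h2, fun x hx hxc => h3 x (Xc_of hx hxc) (le_of hxc),
      fun A hA v hv z hz a ha => by
        rw [cent_of_two h N hk hx0 hx1 hA hv hz a ha]; exact one_mem _⟩, hst⟩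

end nat

section sym

open Cfsg.Agent.Omega.OM.Lev.SIn
open Cfsg.Agent.Omega.SQ1.BauS (Sim)

variable {k m : ℕ}

/-- **`YB` on `C_X(⟨AA⟩)`, symmetric type.** -/
theorem sym_ybx (h : GE T H X AA) (hXT : X ≤ T) (N : SymKM T H (zl T H) (cv T H) k m) (hk : 0 < k) (hm : 1 ≤ m)
    (hex : ∃ A ∈ AA, ¬ A ≤ o2 H) (hZ : ¬ H ≤ centralizer (zc T : Set G)) :
    ∃ (ι : Type) (_ : Finite ι) (Ni c : ι → Subgroup G), ConclS T H X AA Ni c := by
  have h0 := OM.Lev.Sym.syL_gen (Jg := sSup AA) h.hm hk hm N SQ1.FFOf.cv_le SQ1.FFOf.cv_norm h.fam.le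
    (fun A hA hAQ => h.offM hA hAQ) hex (sSup_le h.fam.le) (OM.GSym.T_norm_AA h) (fun A hA => le_sSup hA) le_sup_left
  obtain ⟨ι, J, U, Y, t, r, c⟩ := h0.exists_ch
  obtain ⟨j, x, y, hTr⟩ := h0.exists_tr
  obtain ⟨i, -⟩ := c.ex j x y hTr
  have hin := in_of h hXT i (c.main h0 Cfsg.Agent.Omega.SQ1.SymCyc.exists_pow)
  have hp := c.permR h0
  obtain ⟨K, hK, hKc⟩ := hin.exists_blks hp
  refine ⟨ι, hin.finite_index, _, _, ⟨YSym.yb hin hK hKc, ⟨i, fun hle => hZ ?_⟩, fun x hx hxc l => ?_,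
    fun A hA v hv z _ a ha => comm_J hin ((le_sSup hA : A ≤ sSup AA) ha) hv⟩, ⟨i, fun x hx hT => ?_⟩⟩
  · exact ((hK i).sup_T hin le_sup_left le_sup_right : H ≤ T ⊔ K i).trans
      (sup_le (NO3S.Level.le_centralizer_zc T) (le_centralizer_iff.1 hle))
  · have hxX := Xc_of hx hxc
    have hxj := le_of hxc
    obtain ⟨y, hy, hym⟩ := (hK l).mv
    have h1 : K l ≤ centralizer ({x} : Set G) := by
      refine (hK l).gen_left hin hy hym (hin.t_bau l) (hin.t_not_QQ l) (fun b hb => ?_) ?_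
      · exact mem_centralizer_singleton_iff.2 ((mem_BB.1 hb).2 x hxX).symm
      · exact hxj y ((hK l).LH hin hy) ⟨_, hin.tJ l, rfl⟩
    exact mem_centralizer_iff.2 fun z hz => mem_centralizer_singleton_iff.1 (h1 hz)
  · refine ((hK i).sup_T hin le_sup_left le_sup_right : H ≤ T ⊔ K i).trans (sup_le hT fun l hl => ?_)
    exact mem_centralizer_singleton_iff.2 (mem_centralizer_iff.1 hx l hl)

end sym

/-- **`YB` on `C_X(⟨AA⟩)`.** -/
theorem exists_ybx_st (h : GE T H X AA) (hXT : X ≤ T) (hN : FFThm.ConclM T H) (hex : ∃ A ∈ AA, ¬ A ≤ o2 H)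
    (hZ : ¬ H ≤ centralizer (zc T : Set G)) :
    ∃ (ι : Type) (_ : Finite ι) (Ni c : ι → Subgroup G), ConclS T H X AA Ni c := by
  rcases hN with ⟨F, _, _, _, k, hk, ⟨N⟩⟩ | ⟨k, m, hk, hm, ⟨N⟩⟩
  · obtain ⟨Ni, c, hc⟩ := nat_ybx h N hk hex hZ
    exact ⟨Fin k, inferInstance, Ni, c, hc⟩
  · exact sym_ybx h hXT N hk (by omega) hex hZ

end Cfsg.Agent.Omega.CaseLQ.YBXs

end

section


/-!
# CaseL, weird `Y`, the version with (CNT) (helper509 #25180, on top of helper952 #24536 (i)), abstract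

As `PartI.lean`; instead of `H ≤ C(Λ)` only `P ≤ C(Λ)`, and

* `cnt` : every `F ≤ Λ` with `C_F(Y) = 1` has `|F| < |C_Z(T)|`.

`SitC.false_of` : no maximal offender of least rank `E ≤ T` (`MaxMin U H E`) moves `N`.
-/

set_option autoImplicit false
set_option linter.unusedSectionVars false

namespace Cfsg.Agent.Omega.CaseLQ

open Subgroup Cfsg Cfsg.Agent.ZN Cfsg.Agent.ZN.ChoiceBase Cfsg.Agent.ZN.ChoiceSit
open Cfsg.Agent.Omega.FFThm (OffM ElemM NoOverM)
open Cfsg.Agent.Omega.NO3S.RedC (MaxMin)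
open Cfsg.Agent.Omega.NO3b.EZero (cl cj_le_cl le_cl cl_le le_normalizer_cl cent_symm cj_cent)
open Cfsg.Agent.Omega.NO3b.K0 (conj_mem' cj_of_le cj_self)
open Cfsg.Agent.Omega.NO3S.NotFF (le_normalizer_of_forall)
open Cfsg.Agent.Omega.SQ1.Bau (mem_sup_comm card_sup_comm mem_sup_norm)
open Cfsg.Agent.Omega.NO3S.Fld (kmod mem_kmod norm_kmod kmod_le relIndex_mul_card relIndex_le_of_map relIndex_mul_of)
open Cfsg.Agent.Omega.NOThreeL.VF (fM fM_le fM_cj fM_of_le le_fM_iff fM_le_iff fM_mul elemM_mono)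

universe u

variable {G : Type u} [Group G] [Finite G] {H U T Q N Z Λ P Y E : Subgroup G}

/-- The situation, with (CNT). -/
structure SitC (H U T Q N Z Λ P Y : Subgroup G) : Prop where
  Uc : U ≤ centralizer (U : Set G)
  Us : ∀ u ∈ U, u ^ 2 = 1
  HU : H ≤ normalizer (U : Set G)
  TH : T ≤ H
  T2 : IsPGroup 2 T
  QT : Q ≤ T
  TZ : T ≤ normalizer (Z : Set G)
  UT : U ≤ T
  NU : N ≤ U
  QN : Q ≤ centralizer (N : Set G)
  ZN : Z ≤ N
  Zne : Z ≠ ⊥
  card : Nat.card Z < Nat.card N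
  PH : P ≤ H
  TP : T ≤ P
  PN : P ≤ normalizer (N : Set G)
  PQ : P ≤ normalizer (Q : Set G)
  PC : P ≤ normalizer ((T ⊓ centralizer (N : Set G) : Subgroup G) : Set G)
  YH : Y ≤ H
  TY : T ≤ Y
  sylY : Syl T Y
  oY : o2 Y ≤ T
  mv : ¬ Y ≤ normalizer (Z : Set G)
  PL : P ≤ centralizer (Λ : Set G)
  fix : U ⊓ centralizer (T : Set G) ≤ Z ⊔ Λ
  cnt : ∀ F ≤ Λ, F ⊓ centralizer (Y : Set G) = ⊥ → Nat.card F < Nat.card ↥(Z ⊓ centralizer (T : Set G))
  /-- no over-offender on `N` -/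
  noN : ∀ E ≤ T, ElemM N E → ¬ E ≤ centralizer (N : Set G) →
    Nat.card E * Nat.card ↥(N ⊓ centralizer (E : Set G)) ≤ Nat.card N * Nat.card ↥(E ⊓ centralizer (N : Set G))
  /-- the offenders on `N` are full root groups -/
  lineN : ∀ E ≤ T, OffM N E → N ⊓ centralizer (E : Set G) = Z ∧ CommIn E N Z ∧
    ∀ Z' : Subgroup G, CommIn E N Z' → Z ≤ Z'
  irrN : ∀ E ≤ T, OffM N E → ∀ K ≤ N, cl E P ≤ normalizer (K : Set G) → K = ⊥ ∨ K = N
  oneY : ∀ E ≤ T, MaxMin U H E → ¬ E ≤ o2 Y → CommIn E U Z → (∀ Z' : Subgroup G, CommIn E U Z' → Z ≤ Z') →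
    ∃ c ∈ Q, ∃ u ∈ U, c * u * c⁻¹ * u⁻¹ ∈ Z ∧ c * u * c⁻¹ * u⁻¹ ≠ 1

/-- **The norm of an induced module**: `T` acts on `U`, `K = N_T(X)`, the `T`-conjugates of `X` other than `X` are in
`R`, `X ∩ R = 1`: then `|C_D(T)| ≥ |C_X(K)|`. -/
theorem card_le_norm {D X R W K : Subgroup G} (hUc : ∀ x ∈ U, ∀ y ∈ U, x * y = y * x) (hTU : T ≤ normalizer (U : Set G))
    (hX : X ≤ U) (hR : R ≤ U) (hXD : X ≤ D) (hRD : R ≤ D) (hWX : W ≤ X) (hWK : ∀ k ∈ K, ∀ w ∈ W, k * w = w * k)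
    (hcj : ∀ t ∈ T, t ∉ K → cj t X ≤ R) (hXR : X ⊓ R = ⊥) :
    Nat.card W ≤ Nat.card ↥(D ⊓ centralizer (T : Set G)) := by
  classical
  letI : CommGroup U := { (inferInstance : Group U) with mul_comm := fun a b => Subtype.ext (hUc a a.2 b b.2) }
  set K' : Subgroup T := K.subgroupOf T with hK'
  letI : Fintype (T ⧸ K') := Fintype.ofFinite _
  let act : T → U →* U := fun t =>
    { toFun := fun u => ⟨t * u * (t : G)⁻¹, conj_mem' hTU t.2 u.2⟩
      map_one' := by ext; simp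
      map_mul' := fun a b => by ext; simp }
  have hact : ∀ (t : T) (u : U), ((act t u : U) : G) = t * u * (t : G)⁻¹ := fun _ _ => rfl
  have hact_mul : ∀ (t t' : T) (u : U), act t (act t' u) = act (t * t') u := fun t t' u => by
    ext; simp only [hact, Subgroup.coe_mul]; group
  have hfixK : ∀ (t k : T) (v : U), (v : G) ∈ W → k ∈ K' → act (t * k) v = act t v := fun t k v hv hk => by
    ext
    have h1 := hWK k (mem_subgroupOf.1 hk) v hv
    simp only [hact, Subgroup.coe_mul]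
    have e1 : (t : G) * k * v * ((t : G) * k)⁻¹ = t * (k * v * (k : G)⁻¹) * (t : G)⁻¹ := by group
    rw [e1, h1, mul_inv_cancel_right]
  let f : U →* U :=
    { toFun := fun v => ∏ q : T ⧸ K', act q.out v
      map_one' := by simp
      map_mul' := fun a b => by simp [Finset.prod_mul_distrib] }
  have hf : ∀ v : U, f v = ∏ q : T ⧸ K', act q.out v := fun _ => rfl
  have hinv : ∀ (t : T) (v : U), (v : G) ∈ W → act t (f v) = f v := by
    intro t v hv
    rw [hf, map_prod]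
    have h1 : ∀ q : T ⧸ K', act t (act q.out v) = act (t • q).out v := by
      intro q
      rw [hact_mul]
      have h2 : (QuotientGroup.mk (t * q.out) : T ⧸ K') = t • q := by
        conv_rhs => rw [← QuotientGroup.out_eq' q]
        rfl
      obtain ⟨k, hk⟩ := QuotientGroup.mk_out_eq_mul K' (t * q.out)
      rw [← h2, hk]
      exact (hfixK _ _ _ hv k.2).symm
    simp only [h1]
    exact Equiv.prod_comp (MulAction.toPerm t) fun q : T ⧸ K' => act q.out v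
  set q0 : T ⧸ K' := QuotientGroup.mk 1 with hq0
  have hsplit : ∀ v : U, (v : G) ∈ W → f v = v * ∏ q ∈ Finset.univ.erase q0, act q.out v := by
    intro v hv
    rw [hf, ← Finset.mul_prod_erase _ _ (Finset.mem_univ q0)]
    congr 1
    obtain ⟨k, hk⟩ := QuotientGroup.mk_out_eq_mul K' (1 : T)
    rw [hq0, hk, hfixK _ _ _ hv k.2]
    ext
    simp [hact]
  have hrest : ∀ v : U, (v : G) ∈ W → ((∏ q ∈ Finset.univ.erase q0, act q.out v : U) : G) ∈ R := by
    intro v hv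
    have h1 : (∏ q ∈ Finset.univ.erase q0, act q.out v : U) ∈ R.subgroupOf U := by
      refine Subgroup.prod_mem _ fun q hq => ?_
      rw [mem_subgroupOf]
      refine hcj q.out (q.out).2 (fun h0 => (Finset.mem_erase.1 hq).1 ?_) ⟨v, hWX hv, rfl⟩
      rw [hq0, ← QuotientGroup.out_eq' q]
      refine QuotientGroup.eq.2 ?_
      rw [mul_one]
      exact inv_mem (mem_subgroupOf.2 h0)
    exact mem_subgroupOf.1 h1
  let g : W → ↥(D ⊓ centralizer (T : Set G)) := fun w =>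
    ⟨(f ⟨w, hX (hWX w.2)⟩ : U), by
      have hw : ((⟨w, hX (hWX w.2)⟩ : U) : G) ∈ W := w.2
      refine ⟨?_, mem_centralizer_iff.2 fun t ht => ?_⟩
      · rw [hsplit _ hw]
        exact mul_mem (hXD (hWX w.2)) (hRD (hrest _ hw))
      · have h1 := congrArg Subtype.val (hinv ⟨t, ht⟩ _ hw)
        rw [hact] at h1
        have e1 : t * ((f ⟨w, hX (hWX w.2)⟩ : U) : G) =
            (t * ((f ⟨w, hX (hWX w.2)⟩ : U) : G) * t⁻¹) * t := by group
        rw [e1]
        exact congrArg (· * t) h1⟩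
  refine Nat.card_le_card_of_injective g fun w w' hww => ?_
  have h0 : ((f ⟨w, hX (hWX w.2)⟩ : U) : G) = ((f ⟨w', hX (hWX w'.2)⟩ : U) : G) :=
    congrArg (fun x : ↥(D ⊓ centralizer (T : Set G)) => (x : G)) hww
  have h1 : f ⟨w, hX (hWX w.2)⟩ = f ⟨w', hX (hWX w'.2)⟩ := Subtype.ext h0
  have hd : ((⟨w, hX (hWX w.2)⟩ * ⟨w', hX (hWX w'.2)⟩⁻¹ : U) : G) ∈ W := mul_mem w.2 (inv_mem w'.2)
  have h2 : f (⟨w, hX (hWX w.2)⟩ * ⟨w', hX (hWX w'.2)⟩⁻¹) = 1 := by
    rw [map_mul, map_inv, h1, mul_inv_cancel]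
  have h3 := hrest _ hd
  rw [hsplit _ hd] at h2
  have h4 := congrArg Subtype.val (eq_inv_of_mul_eq_one_left h2)
  have h5 : ((⟨w, hX (hWX w.2)⟩ * ⟨w', hX (hWX w'.2)⟩⁻¹ : U) : G) ∈ X ⊓ R := by
    refine mem_inf.2 ⟨hWX hd, ?_⟩
    rw [h4]
    exact inv_mem h3
  rw [hXR, mem_bot] at h5
  exact Subtype.ext (mul_inv_eq_one.1 h5)

namespace SitC

variable (s : SitC H U T Q N Z Λ P Y)
include s

theorem U_mul {x y : G} (hx : x ∈ U) (hy : y ∈ U) : x * y = y * x := mem_centralizer_iff.1 (s.Uc hy) x hx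

theorem ZU : Z ≤ U := s.ZN.trans s.NU

theorem PU : P ≤ normalizer (U : Set G) := s.PH.trans s.HU

theorem TU : T ≤ normalizer (U : Set G) := s.TH.trans s.HU

open Sit (Act)

omit s in
/-- without over-offenders `|E : C_E(U)| = |U : C_U(E)|` -/
theorem idx (s : SitC H U T Q N Z Λ P Y) (no : NoOverM U H) (m : MaxMin U H E) :
    (centralizer (U : Set G)).relIndex E = (centralizer (E : Set G)).relIndex U :=
  le_antisymm (FFThm.relIndex_le_iff.1 (no E m.le m.elem)) (m.off s.Uc le_rfl)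

theorem act (hE : E ≤ T) (m : MaxMin U H E) (hne : ¬ E ≤ centralizer (N : Set G)) : Act H U T N Z E := by
  have hEN : ElemM N E := ⟨fun a ha => centralizer_le s.NU (m.elem.sq a ha),
    fun a ha b hb => centralizer_le s.NU (m.elem.comm a ha b hb)⟩
  have hno := s.noN E hE hEN hne
  obtain ⟨no, mo⟩ := m.minOff s.HU s.NU hno hne
  have hcut := mo.cut s.NU hno hne
  have hoff : OffM N E := ⟨hEN, hne, FFThm.relIndex_le_iff.2 (m.off s.Uc s.NU)⟩
  obtain ⟨hcz, hcom, hmin⟩ := s.lineN E hE hoff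
  have i0 := s.idx no m
  have i1 : (centralizer (N : Set G)).relIndex E ≤ (centralizer (E : Set G)).relIndex N :=
    FFThm.relIndex_le_iff.1 hno
  have e1 : (centralizer (N : Set G)).relIndex E = (centralizer (U : Set G)).relIndex E := by
    rw [← inf_relIndex_right, ← inf_relIndex_right (centralizer (U : Set G))]
    congr 1
    refine le_antisymm (le_inf ?_ inf_le_right) (inf_le_inf_right _ (centralizer_le s.NU))
    rw [inf_comm]
    exact hcut
  have i2 : (centralizer (E : Set G)).relIndex U ≤ (centralizer (E : Set G)).relIndex N := by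
    rw [← i0, ← e1]
    exact i1
  set K := U ⊓ centralizer (E : Set G) with hK
  have hcom' : ∀ x ∈ N, ∀ y ∈ K, x * y = y * x := fun x hx y hy => s.U_mul (s.NU hx) hy.1
  have e2 : N ⊓ K = N ⊓ centralizer (E : Set G) := by
    rw [hK, ← inf_assoc, inf_eq_left.2 s.NU]
  have c1 := card_sup_comm hcom'
  rw [e2] at c1
  have c2 := relIndex_mul_card N (centralizer (E : Set G))
  have c3 := relIndex_mul_card U (centralizer (E : Set G))
  have hsup : N ⊔ K = U := by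
    refine Subgroup.eq_of_le_of_card_ge (sup_le s.NU inf_le_left) ?_
    have p1 : 0 < Nat.card ↥(N ⊓ centralizer (E : Set G)) := Nat.card_pos
    refine Nat.le_of_mul_le_mul_right (c := Nat.card ↥(N ⊓ centralizer (E : Set G))) ?_ p1
    calc Nat.card U * Nat.card ↥(N ⊓ centralizer (E : Set G))
        = (centralizer (E : Set G)).relIndex U * (Nat.card K * Nat.card ↥(N ⊓ centralizer (E : Set G))) := by
          rw [← c3, ← hK]; ring
      _ ≤ (centralizer (E : Set G)).relIndex N * (Nat.card K * Nat.card ↥(N ⊓ centralizer (E : Set G))) :=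
          Nat.mul_le_mul_right _ i2
      _ = Nat.card N * Nat.card K := by rw [← c2]; ring
      _ = _ := c1.symm
  refine ⟨hoff, hcz, fun e he u hu => ?_, fun Z' hZ' => hmin Z' fun e he n hn => hZ' e he n (s.NU hn), no⟩
  obtain ⟨n, hn, c, hc, rfl⟩ := mem_sup_comm hcom' (hsup ▸ hu : u ∈ N ⊔ K)
  have h1 := mem_centralizer_iff.1 hc.2 e he
  have e3 : e * (n * c) * e⁻¹ * (n * c)⁻¹ = e * n * (c * e⁻¹ * c⁻¹) * n⁻¹ := by group
  have e4 : c * e⁻¹ * c⁻¹ = e⁻¹ := by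
    have h2 := mem_centralizer_iff.1 hc.2 e⁻¹ (inv_mem he)
    rw [← h2]
    group
  rw [e3, e4]
  exact hcom e he n hn

section active

variable (hE : E ≤ T) (m : MaxMin U H E) (a : Act H U T N Z E)
include hE m a

omit m in
theorem LP : cl E P ≤ P := cl_le fun p hp => by
  have h1 := cj_mono p (hE.trans s.TP)
  rwa [cj_eq_of_mem_normalizer (le_normalizer hp)] at h1

omit m in
theorem LU : CommIn (cl E P) U N := by
  have h1 : cl E P ≤ kmod P U N s.PU s.PN := cl_le fun p hp => by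
    have h2 : E ≤ kmod P U N s.PU s.PN := fun e he =>
      mem_kmod.2 ⟨s.TP (hE he), fun u hu => s.ZN (a.com e he u hu)⟩
    have h3 := cj_mono p h2
    rwa [cj_eq_of_mem_normalizer (norm_kmod s.PU s.PN hp)] at h3
  exact fun e he u hu => (mem_kmod.1 (h1 he)).2 u hu

omit m in
theorem cent : N ⊓ centralizer ((cl E P : Subgroup G) : Set G) = ⊥ := by
  refine (s.irrN E hE a.off _ inf_le_left ?_).resolve_right fun h0 => a.off.ne ?_
  · refine le_normalizer_of_forall fun g hg x hx => ?_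
    have h1 := mem_centralizer_iff.1 hx.2 g hg
    have e : g * x * g⁻¹ = x := by rw [h1, mul_inv_cancel_right]
    rwa [e]
  · exact (le_cl E P).trans (cent_symm (inf_eq_left.1 h0))

omit m in
theorem cent' {x : G} (hx : x ∈ N) (hxL : x ∈ centralizer ((cl E P : Subgroup G) : Set G)) : x = 1 := by
  have h1 : x ∈ N ⊓ centralizer ((cl E P : Subgroup G) : Set G) := ⟨hx, hxL⟩
  rw [s.cent hE a] at h1
  exact mem_bot.1 h1

/-- (i1) `[E, Q] ≤ C(U)` -/
theorem comm_EQ {e c : G} (he : e ∈ E) (hc : c ∈ Q) : e * c * e⁻¹ * c⁻¹ ∈ centralizer (U : Set G) := by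
  classical
  by_contra hcon
  set t := e * c * e⁻¹ * c⁻¹ with ht
  have hEU : E ≤ normalizer (U : Set G) := hE.trans s.TU
  have hQU : Q ≤ normalizer (U : Set G) := s.QT.trans s.TU
  have heQ : e * c * e⁻¹ ∈ Q := conj_mem' (hE.trans (s.TP.trans s.PQ)) he hc
  have htQ : t ∈ Q := mul_mem heQ (inv_mem hc)
  -- `[t, U] ≤ Z`
  have htZ : ∀ u ∈ U, t * u * t⁻¹ * u⁻¹ ∈ Z := by
    intro u hu
    have hv : c⁻¹ * u * c ∈ U := by
      have h1 := conj_mem' hQU (inv_mem hc) hu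
      rwa [inv_inv] at h1
    set v := c⁻¹ * u * c with hvd
    have hd : e⁻¹ * v * e⁻¹⁻¹ * v⁻¹ ∈ Z := a.com _ (inv_mem he) v hv
    set d := e⁻¹ * v * e⁻¹⁻¹ * v⁻¹ with hdd
    have hcd : c * d * c⁻¹ = d := by
      have h1 := mem_centralizer_iff.1 (s.QN hc) d (s.ZN hd)
      rw [← h1, mul_inv_cancel_right]
    have hed : e * d * e⁻¹ = d := by
      have h1 : d ∈ N ⊓ centralizer (E : Set G) := by rw [a.cz]; exact hd
      have h2 := mem_centralizer_iff.1 h1.2 e he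
      rw [h2, mul_inv_cancel_right]
    have h1 : t * u * t⁻¹ = (e * d * e⁻¹) * (e * u * e⁻¹ * u⁻¹) * u := by
      have e1 : t * u * t⁻¹ = e * (c * (d * v) * c⁻¹) * e⁻¹ := by
        rw [ht, hdd, hvd]; group
      have e2 : c * (d * v) * c⁻¹ = (c * d * c⁻¹) * u := by rw [hvd]; group
      rw [e1, e2, hcd]
      group
    rw [h1, hed, mul_inv_cancel_right]
    exact mul_mem hd (a.com e he u hu)
  obtain ⟨u0, hu0, hu0'⟩ : ∃ u0 ∈ U, t * u0 * t⁻¹ * u0⁻¹ ≠ 1 := by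
    by_contra hcon'
    push Not at hcon'
    refine hcon (mem_centralizer_iff.2 fun u hu => ?_)
    have h1 := hcon' u hu
    have e1 : t * u = (t * u * t⁻¹ * u⁻¹) * u * t := by group
    rw [e1, h1, one_mul]
  set A := cl (zpowers t) (cl E P) with hA
  have hLP := s.LP hE a
  have htA : t ∈ A := le_cl _ _ (mem_zpowers t)
  have hAQ : A ≤ Q := cl_le fun l hl => by
    have h1 := cj_mono l (zpowers_le.2 htQ)
    rwa [cj_eq_of_mem_normalizer (s.PQ (hLP hl))] at h1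
  have hAN : A ≤ centralizer (N : Set G) := hAQ.trans s.QN
  have hAP : A ≤ P := hAQ.trans (s.QT.trans s.TP)
  have hAH : A ≤ H := hAP.trans s.PH
  have hAU : CommIn A U N := by
    have h1 : A ≤ kmod P U N s.PU s.PN := cl_le fun l hl => by
      have h2 : zpowers t ≤ kmod P U N s.PU s.PN := zpowers_le.2
        (mem_kmod.2 ⟨s.TP (s.QT htQ), fun u hu => s.ZN (htZ u hu)⟩)
      have h3 := cj_mono l h2
      rwa [cj_eq_of_mem_normalizer (norm_kmod s.PU s.PN (hLP hl))] at h3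
    exact fun e he u hu => (mem_kmod.1 (h1 he)).2 u hu
  have hel : ElemM U A := elemM_of_quad s.Us (fun _ hu _ hv => s.U_mul hu hv) fun b hb u hu =>
    ⟨s.NU (hAU b hb u hu), cent_symm hAN (hAU b hb u hu)⟩
  have hLA : cl E P ≤ normalizer (A : Set G) := le_normalizer_cl _ _
  have hLN : cl E P ≤ normalizer (N : Set G) := hLP.trans s.PN
  have hLU := s.LU hE a
  -- `[A, u0] = N`
  let K : Subgroup G :=
    { carrier := {w | ∃ b ∈ A, b * u0 * b⁻¹ * u0⁻¹ = w}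
      one_mem' := ⟨1, one_mem _, by group⟩
      mul_mem' := by
        rintro _ _ ⟨b, hb, rfl⟩ ⟨b', hb', rfl⟩
        refine ⟨b * b', mul_mem hb hb', ?_⟩
        have h1 := mem_centralizer_iff.1 (hAN hb) _ (hAU b' hb' u0 hu0)
        have e1 : b * b' * u0 * (b * b')⁻¹ * u0⁻¹ = b * (b' * u0 * b'⁻¹ * u0⁻¹) * (u0 * b⁻¹ * u0⁻¹) := by group
        rw [e1, ← h1]
        have e2 : b' * u0 * b'⁻¹ * u0⁻¹ * b * (u0 * b⁻¹ * u0⁻¹) =
            (b' * u0 * b'⁻¹ * u0⁻¹) * (b * u0 * b⁻¹ * u0⁻¹) := by group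
        rw [e2]
        exact s.U_mul (s.NU (hAU b' hb' u0 hu0)) (s.NU (hAU b hb u0 hu0))
      inv_mem' := by
        rintro _ ⟨b, hb, rfl⟩
        refine ⟨b⁻¹, inv_mem hb, ?_⟩
        have h1 := mem_centralizer_iff.1 (hAN (inv_mem hb)) _ (inv_mem (hAU b hb u0 hu0))
        have e1 : b⁻¹ * u0 * b⁻¹⁻¹ * u0⁻¹ = b⁻¹ * (b * u0 * b⁻¹ * u0⁻¹)⁻¹ * b := by group
        rw [e1, ← h1, inv_mul_cancel_right] }
  have hKN : K ≤ N := by
    rintro _ ⟨b, hb, rfl⟩
    exact hAU b hb u0 hu0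
  have hKL : cl E P ≤ normalizer (K : Set G) := by
    refine le_normalizer_of_forall fun l hl x hx => ?_
    obtain ⟨b, hb, rfl⟩ := hx
    have hlb : l * b * l⁻¹ ∈ A := conj_mem' hLA hl hb
    refine ⟨l * b * l⁻¹, hlb, ?_⟩
    have hn : l⁻¹ * u0 * l⁻¹⁻¹ * u0⁻¹ ∈ N := hLU _ (inv_mem hl) u0 hu0
    set n := l⁻¹ * u0 * l⁻¹⁻¹ * u0⁻¹ with hnd
    have h1 := mem_centralizer_iff.1 (hAN hb) n hn
    have e1 : l * b * l⁻¹ * u0 * (l * b * l⁻¹)⁻¹ * u0⁻¹ =
        l * (b * n * (u0 * b⁻¹ * u0⁻¹) * n⁻¹) * l⁻¹ := by rw [hnd]; group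
    rw [e1, ← h1]
    have e2 : n * b * (u0 * b⁻¹ * u0⁻¹) * n⁻¹ = n * (b * u0 * b⁻¹ * u0⁻¹) * n⁻¹ := by group
    rw [e2, s.U_mul (s.NU hn) (s.NU (hAU b hb u0 hu0)), mul_inv_cancel_right]
  have hKe : K = N := (s.irrN E hE a.off K hKN hKL).resolve_left fun h0 => hu0' (by
    have h1 : t * u0 * t⁻¹ * u0⁻¹ ∈ K := ⟨t, htA, rfl⟩
    rw [h0] at h1
    exact mem_bot.1 h1)
  have hsur : ∀ n ∈ N, ∃ b ∈ A, b * u0 * b⁻¹ * u0⁻¹ = n := fun n hn => by
    rw [← hKe] at hn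
    exact hn
  have j1 : Nat.card N ≤ (centralizer (U : Set G)).relIndex A := by
    rw [← relIndex_bot_left N]
    refine relIndex_le_of_map (fun n => if h : n ∈ N then (hsur n h).choose else 1) (fun n hn => ?_) ?_
    · simp only [dif_pos hn]
      exact (hsur n hn).choose_spec.1
    · intro n hn n' hn' hnn
      simp only [dif_pos hn, dif_pos hn'] at hnn
      have h1 := (hsur n hn).choose_spec.2
      have h2 := (hsur n' hn').choose_spec.2
      set b := (hsur n hn).choose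
      set b' := (hsur n' hn').choose
      have h3 := mem_centralizer_iff.1 hnn u0 hu0
      have e1 : b' * u0 * b'⁻¹ * u0⁻¹ = b * u0 * b⁻¹ * u0⁻¹ := by
        have e2 : b' * u0 * b'⁻¹ = b * (b⁻¹ * b' * u0 * (b⁻¹ * b')⁻¹) * b⁻¹ := by group
        rw [e2, ← h3, mul_inv_cancel_right]
      rw [← h1, ← h2, e1, inv_mul_cancel]
      exact one_mem _
  have j2 : (centralizer (U : Set G)).relIndex A ≤ (centralizer (A : Set G)).relIndex U :=
    FFThm.relIndex_le_iff.1 (a.no A hAH hel)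
  have j3 : (centralizer (A : Set G)).relIndex U ≤ Nat.card Z := by
    rw [← relIndex_bot_left Z]
    refine relIndex_le_of_map (fun u => t * u * t⁻¹ * u⁻¹) (fun u hu => htZ u hu) ?_
    intro u hu u' hu' huu
    rw [mem_bot, inv_mul_eq_one] at huu
    have hw : u⁻¹ * u' ∈ U := mul_mem (inv_mem hu) hu'
    have htw : t * (u⁻¹ * u') = u⁻¹ * u' * t := by
      have e1 : t * (u⁻¹ * u') * t⁻¹ = (t * u * t⁻¹)⁻¹ * (t * u' * t⁻¹) := by group
      have e2 : t * u * t⁻¹ = (t * u * t⁻¹ * u⁻¹) * u := by group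
      have e3 : t * u' * t⁻¹ = (t * u' * t⁻¹ * u'⁻¹) * u' := by group
      have e4 : t * (u⁻¹ * u') * t⁻¹ = u⁻¹ * u' := by
        rw [e1, e2, e3, huu]
        group
      rw [eq_comm, ← eq_mul_inv_iff_mul_eq, eq_comm]
      exact e4
    -- the elements of `U` which commute with `t` centralise `A`
    set w := u⁻¹ * u' with hwd
    have h1 : A ≤ centralizer ({w} : Set G) := cl_le fun l hl => by
      rintro _ ⟨x, hx, rfl⟩
      rw [mem_centralizer_singleton_iff]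
      change l * x * l⁻¹ * w = w * (l * x * l⁻¹)
      have h2 : x * w = w * x := by
        obtain ⟨k, rfl⟩ := mem_zpowers_iff.1 hx
        exact Commute.zpow_left htw k
      have hn : l⁻¹ * w * l⁻¹⁻¹ * w⁻¹ ∈ N := hLU _ (inv_mem hl) w hw
      have h3 := mem_centralizer_iff.1 (hAN (zpowers_le.2 htA hx)) _ hn
      have h4 : x * (l⁻¹ * w * l) = l⁻¹ * w * l * x := by
        have e1 : x * (l⁻¹ * w * l) = x * (l⁻¹ * w * l⁻¹⁻¹ * w⁻¹) * w := by group
        rw [e1, ← h3, mul_assoc, h2]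
        group
      have e2 : l * x * l⁻¹ * w = l * (x * (l⁻¹ * w * l)) * l⁻¹ := by group
      rw [e2, h4]
      group
    exact mem_centralizer_iff.2 fun b hb => mem_centralizer_singleton_iff.1 (h1 hb)
  exact absurd (j1.trans (j2.trans j3)) (not_le.2 s.card)

/-- `[L, Q] ≤ C(U)` -/
theorem comm_LQ {l c : G} (hl : l ∈ cl E P) (hc : c ∈ Q) : l * c * l⁻¹ * c⁻¹ ∈ centralizer (U : Set G) := by
  have hPC : P ≤ normalizer (centralizer (U : Set G) : Set G) := by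
    refine le_normalizer_of_forall fun g hg x hx => ?_
    rw [mem_centralizer_iff]
    intro u hu
    have h1 : g⁻¹ * u * g ∈ U := by
      have h2 := conj_mem' s.PU (inv_mem hg) hu
      rwa [inv_inv] at h2
    have h2 := mem_centralizer_iff.1 hx _ h1
    have e1 : u * (g * x * g⁻¹) = g * (g⁻¹ * u * g * x) * g⁻¹ := by group
    rw [e1, h2]
    group
  have h1 : cl E P ≤ kmod P Q (centralizer (U : Set G)) s.PQ hPC := cl_le fun p hp => by
    have h2 : E ≤ kmod P Q (centralizer (U : Set G)) s.PQ hPC := fun e he =>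
      mem_kmod.2 ⟨s.TP (hE he), fun c hc => s.comm_EQ hE m a he hc⟩
    have h3 := cj_mono p h2
    rwa [cj_eq_of_mem_normalizer (norm_kmod s.PQ hPC hp)] at h3
  exact (mem_kmod.1 (h1 hl)).2 c hc

/-- (i1) `[U, Q] ≤ C_U(L)` -/
theorem comm_UQ {u c : G} (hu : u ∈ U) (hc : c ∈ Q) :
    c * u * c⁻¹ * u⁻¹ ∈ centralizer ((cl E P : Subgroup G) : Set G) := by
  rw [mem_centralizer_iff]
  intro l hl
  have hn : l * u * l⁻¹ * u⁻¹ ∈ N := s.LU hE a l hl u hu
  set n := l * u * l⁻¹ * u⁻¹ with hnd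
  have hk := s.comm_LQ hE m a hl hc
  set k := l * c * l⁻¹ * c⁻¹ with hkd
  have hcU : c ∈ normalizer (U : Set G) := s.TU (s.QT hc)
  have hcu : c * u * c⁻¹ ∈ U := conj_mem' (le_refl (normalizer (U : Set G))) hcU hu
  have h1 := mem_centralizer_iff.1 (s.QN hc) n hn
  have h2 := mem_centralizer_iff.1 hk _ hcu
  have e1 : l * (c * u * c⁻¹ * u⁻¹) * l⁻¹ = k * (c * (n * u) * c⁻¹) * k⁻¹ * (n * u)⁻¹ := by
    rw [hkd, hnd]; group
  have e2 : c * (n * u) * c⁻¹ = n * (c * u * c⁻¹) := by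
    have e3 : c * (n * u) * c⁻¹ = (c * n) * u * c⁻¹ := by group
    rw [e3, ← h1]
    group
  have h3 := mem_centralizer_iff.1 hk _ (mul_mem (s.NU hn) hcu)
  have e4 : l * (c * u * c⁻¹ * u⁻¹) * l⁻¹ = c * u * c⁻¹ * u⁻¹ := by
    rw [e1, e2, ← h3, mul_inv_cancel_right, mul_inv_rev]
    have e5 : n * (c * u * c⁻¹) * (u⁻¹ * n⁻¹) = n * (c * u * c⁻¹ * u⁻¹) * n⁻¹ := by group
    rw [e5, s.U_mul (s.NU hn) (mul_mem hcu (inv_mem hu)), mul_inv_cancel_right]
  have e6 : l * (c * u * c⁻¹ * u⁻¹) = (l * (c * u * c⁻¹ * u⁻¹) * l⁻¹) * l := by group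
  rw [e6, e4]

/-- (i2) `E ≤ O₂(Y)` -/
theorem le_o2Y : E ≤ o2 Y := by
  by_contra hcon
  obtain ⟨c, hc, u, hu, h1, h2⟩ := s.oneY E hE m hcon a.com a.min
  exact h2 (s.cent' hE a (s.ZN h1) (s.comm_UQ hE m a hu hc))

/-- (i3) `Z^y = Z` or `Z^y ≤ C_U(L)` -/
theorem conj_Z {y : G} (hy : y ∈ Y) : cj y Z = Z ∨ cj y Z ≤ centralizer ((cl E P : Subgroup G) : Set G) := by
  have hyH := s.YH hy
  have hyU := s.HU hyH
  have hEo : cj y E ≤ o2 Y := by
    have h1 := cj_mono y (s.le_o2Y hE m a)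
    rwa [cj_eq_of_mem_normalizer (MinSimple.VModule.le_normalizer_o2 Y hy)] at h1
  have hET : cj y E ≤ T := hEo.trans s.oY
  have m' : MaxMin U H (cj y E) := m.cj hyH s.HU
  have hcZ : CommIn (cj y E) U (cj y Z) := a.com.cj hyU
  have hmZ : ∀ Z' : Subgroup G, CommIn (cj y E) U Z' → cj y Z ≤ Z' := fun Z' hZ' => by
    have h1 := hZ'.cj (inv_mem hyU)
    rw [cj_inv_cj] at h1
    have h2 := cj_mono y (a.min _ h1)
    rwa [cj_cj_inv] at h2
  by_cases hne : cj y E ≤ centralizer (N : Set G)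
  · right
    set E' := cj y E with hE'
    set Z' := cj y Z with hZ'
    have hcU : cj y U = U := cj_eq_of_mem_normalizer hyU
    have hZZ : Z ≤ centralizer (E : Set G) := by
      have h1 : N ⊓ centralizer (E : Set G) ≤ centralizer (E : Set G) := inf_le_right
      rwa [a.cz] at h1
    have hZ'U : Z' ≤ U := by
      have h1 := cj_mono y s.ZU
      rwa [hcU] at h1
    set C' := U ⊓ centralizer (E' : Set G) with hC'
    have hNC : N ≤ C' := le_inf s.NU (cent_symm hne)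
    have hZ'C : Z' ≤ C' := le_inf hZ'U (cj_cent hZZ)
    have hL := s.LP hE a
    have hLU := s.LU hE a
    have hLC : cl E P ≤ normalizer (C' : Set G) := by
      refine le_normalizer_of_forall fun l hl x hx => ?_
      have h1 := mul_mem (hNC (hLU l hl x hx.1)) hx
      rwa [inv_mul_cancel_right] at h1
    set A := cl E' (cl E P) with hA
    have hE'A : E' ≤ A := le_cl _ _
    have hLA : cl E P ≤ normalizer (A : Set G) := le_normalizer_cl _ _
    have hAT : A ≤ T ⊓ centralizer (N : Set G) := cl_le fun l hl => by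
      have h1 := cj_mono l (le_inf hET hne : E' ≤ T ⊓ centralizer (N : Set G))
      rwa [cj_eq_of_mem_normalizer (s.PC (hL hl))] at h1
    have hAH : A ≤ H := hAT.trans (inf_le_left.trans s.TH)
    have hAC : A ≤ centralizer (C' : Set G) := cl_le fun l hl => by
      have h1 : cj l E' ≤ centralizer ((cj l C' : Subgroup G) : Set G) := cj_cent (cent_symm inf_le_right)
      rwa [cj_of_le hLC hl] at h1
    have hAU : CommIn A U C' := by
      have hM : centralizer (C' : Set G) ⊓ normalizer (U : Set G) ≤ normalizer (C' : Set G) := fun g hg =>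
        centralizer_le_normalizer _ hg.1
      have h1 : A ≤ kmod (centralizer (C' : Set G) ⊓ normalizer (U : Set G)) U C' inf_le_right hM :=
        cl_le fun l hl => by
          intro x hx
          have h2 : x ∈ A := cj_le_cl hl hx
          refine mem_kmod.2 ⟨⟨hAC h2, s.HU (hAH h2)⟩, fun u hu => ?_⟩
          have h3 := (hcZ.cj (s.PU (hL hl))) x hx u hu
          have h4 := cj_mono l hZ'C
          rw [cj_of_le hLC hl] at h4
          exact h4 h3
      exact fun e he u hu => (mem_kmod.1 (h1 he)).2 u hu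
    have hel : ElemM U A := elemM_of_quad s.Us (fun _ hu _ hv => s.U_mul hu hv) fun b hb u hu =>
      ⟨(hAU b hb u hu).1, cent_symm hAC (hAU b hb u hu)⟩
    have i1 := s.idx a.no m'
    have i2 : (centralizer (U : Set G)).relIndex A ≤ (centralizer (A : Set G)).relIndex U :=
      FFThm.relIndex_le_iff.1 (a.no A hAH hel)
    have i3 : (centralizer (A : Set G)).relIndex U ≤ (centralizer (E' : Set G)).relIndex U := by
      rw [← inf_relIndex_left U (centralizer (E' : Set G)), ← hC']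
      exact relIndex_le_of_le_left (cent_symm hAC) index_ne_zero_of_finite
    -- `A = E'^l C_A(U)`
    have hfac : ∀ l ∈ cl E P, ∀ g ∈ A, ∃ e1 ∈ cj l E', ∃ c ∈ centralizer (U : Set G), g = e1 * c := by
      intro l hl g hg
      have hE1A : cj l E' ≤ A := cj_le_cl hl
      have hn : cj l E' ≤ normalizer ((A ⊓ centralizer (U : Set G) : Subgroup G) : Set G) := by
        refine le_normalizer_of_forall fun x hx w hw => mem_inf.2 ⟨?_, ?_⟩
        · exact mul_mem (mul_mem (hE1A hx) hw.1) (inv_mem (hE1A hx))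
        · rw [mem_centralizer_iff]
          intro u hu
          have hxU : x ∈ normalizer (U : Set G) := s.HU (hAH (hE1A hx))
          have h1 : x⁻¹ * u * x ∈ U := by
            have h2 := conj_mem' (le_refl (normalizer (U : Set G))) (inv_mem hxU) hu
            rwa [inv_inv] at h2
          have h2 := mem_centralizer_iff.1 hw.2 _ h1
          have e1 : u * (x * w * x⁻¹) = x * (x⁻¹ * u * x * w) * x⁻¹ := by group
          rw [e1, h2]
          group
      set M := cj l E' ⊔ (A ⊓ centralizer (U : Set G)) with hM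
      have hMA : M ≤ A := sup_le hE1A inf_le_left
      have k1 := relIndex_mul_of (H := centralizer (U : Set G)) (M := M) (L := A) le_sup_right hMA
      have k2 : (centralizer (U : Set G)).relIndex (cj l E') = (centralizer (U : Set G)).relIndex E' := by
        have h1 := (fM_cj (V := U) (A := E') (s.PU (hL hl))).2
        exact h1
      have k3 : (centralizer (U : Set G)).relIndex (cj l E') ≤ (centralizer (U : Set G)).relIndex M :=
        relIndex_le_of_le_right le_sup_left index_ne_zero_of_finite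
      have k4 : M.relIndex A = 1 := by
        have p0 : 0 < (centralizer (U : Set G)).relIndex M := Nat.pos_of_ne_zero index_ne_zero_of_finite
        have p1 : 0 < M.relIndex A := Nat.pos_of_ne_zero index_ne_zero_of_finite
        have h1 : (centralizer (U : Set G)).relIndex M * M.relIndex A ≤ (centralizer (U : Set G)).relIndex M * 1 := by
          rw [k1, mul_one]
          exact (i2.trans i3).trans (i1 ▸ k2 ▸ k3)
        exact le_antisymm (Nat.le_of_mul_le_mul_left h1 p0) p1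
      have h1 := relIndex_eq_one.1 k4 hg
      obtain ⟨e1, he1, c, hc, rfl⟩ := mem_sup_norm hn h1
      exact ⟨e1, he1, c, hc.2, rfl⟩
    -- `L` normalises `Z'`
    have hLZ : cl E P ≤ normalizer (Z' : Set G) := by
      intro l hl
      have h1 : CommIn E' U (cj l⁻¹ Z') := by
        intro e he u hu
        obtain ⟨e1, he1, c, hc, rfl⟩ := hfac l⁻¹ (inv_mem hl) e (hE'A he)
        have h2 := mem_centralizer_iff.1 hc u hu
        have e2 : e1 * c * u * (e1 * c)⁻¹ * u⁻¹ = e1 * u * e1⁻¹ * u⁻¹ := by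
          have e3 : e1 * c * u * (e1 * c)⁻¹ * u⁻¹ = e1 * (c * u) * c⁻¹ * e1⁻¹ * u⁻¹ := by group
          rw [e3, ← h2]
          group
        rw [e2]
        exact (hcZ.cj (s.PU (hL (inv_mem hl)))) e1 he1 u hu
      have h2 := cj_mono l (hmZ _ h1)
      rw [cj_cj_inv] at h2
      exact mem_normalizer_of_cj_le h2
    have hK : Z' ⊓ N = ⊥ := by
      refine (s.irrN E hE a.off _ inf_le_right ?_).resolve_right fun h0 => ?_
      · refine le_normalizer_of_forall fun l hl x hx => ⟨conj_mem' hLZ hl hx.1, conj_mem' (hL.trans s.PN) hl hx.2⟩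
      · have h1 := Subgroup.card_le_of_le (inf_eq_right.1 h0)
        rw [hZ', card_cj] at h1
        exact absurd h1 (not_le.2 s.card)
    intro x hx
    rw [mem_centralizer_iff]
    intro l hl
    have h1 : l * x * l⁻¹ * x⁻¹ ∈ Z' ⊓ N := mem_inf.2 ⟨mul_mem (conj_mem' hLZ hl hx) (inv_mem hx), hLU l hl x (hZ'U hx)⟩
    rw [hK, mem_bot] at h1
    have e1 : l * x = (l * x * l⁻¹ * x⁻¹) * x * l := by group
    rw [e1, h1, one_mul]
  · left
    have a' := s.act hET m' hne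
    exact le_antisymm (hmZ _ a'.com) (a'.min _ hcZ)

end active

/-- **(i)** : no maximal offender of least rank moves `N`. -/
theorem false_of (hE : E ≤ T) (m : MaxMin U H E) (hne : ¬ E ≤ centralizer (N : Set G)) : False := by
  classical
  have a := s.act hE m hne
  set L := cl E P with hL
  have hLP : L ≤ P := s.LP hE a
  let 𝒟 : Set (Subgroup G) := {X | ∃ y ∈ Y, cj y Z = X}
  let Δ : Set (Subgroup G) := {X | X ∈ 𝒟 ∧ X ≠ Z}
  have hDU' : ∀ X ∈ 𝒟, X ≤ U := by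
    rintro _ ⟨y, hy, rfl⟩
    have h1 := cj_mono y s.ZU
    rwa [cj_eq_of_mem_normalizer (s.HU (s.YH hy))] at h1
  have hcj : ∀ y ∈ Y, ∀ X ∈ 𝒟, cj y X ∈ 𝒟 := by
    rintro y hy _ ⟨y', hy', rfl⟩
    exact ⟨y * y', mul_mem hy hy', (cj_cj _ _ _).symm⟩
  have hΔL : ∀ X ∈ Δ, X ≤ centralizer (L : Set G) := by
    rintro _ ⟨⟨y, hy, rfl⟩, hX⟩
    exact (s.conj_Z hE m a hy).resolve_left hX
  have hDL : sSup Δ ≤ centralizer (L : Set G) := sSup_le hΔL
  have hDU : sSup Δ ≤ U := sSup_le fun X hX => hDU' X hX.1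
  have hcs : ∀ (Γ : Set (Subgroup G)) (g : G) (B : Subgroup G), (∀ X ∈ Γ, cj g X ≤ B) → cj g (sSup Γ) ≤ B := by
    intro Γ g B h
    rw [cj_le_iff]
    exact sSup_le fun X hX => cj_le_iff.1 (h X hX)
  -- `X ∩ ⟨the others⟩ = 1`
  have hind : ∀ y ∈ Y, cj y Z ⊓ sSup {X | X ∈ 𝒟 ∧ X ≠ cj y Z} = ⊥ := by
    intro y hy
    rw [eq_bot_iff]
    rintro x ⟨hx, hx'⟩
    have h1 : y⁻¹ * x * y ∈ Z := mem_cj.1 hx
    have h2 : cj y⁻¹ (sSup {X | X ∈ 𝒟 ∧ X ≠ cj y Z}) ≤ sSup Δ := hcs _ _ _ fun X hX =>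
      le_sSup ⟨hcj _ (inv_mem hy) X hX.1, fun h0 => hX.2 (by
        have h1 := congrArg (cj y) h0
        rw [cj_cj_inv] at h1
        exact h1)⟩
    have h3 : y⁻¹ * x * y ∈ sSup Δ := by
      refine h2 ?_
      rw [mem_cj]
      have e1 : y⁻¹⁻¹ * (y⁻¹ * x * y) * y⁻¹ = x := by group
      rwa [e1]
    have h4 := s.cent' hE a (s.ZN h1) (hDL h3)
    rw [mem_bot]
    have e1 : x = y * (y⁻¹ * x * y) * y⁻¹ := by group
    rw [e1, h4]
    group
  have hLH : L ≤ H := hLP.trans s.PH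
  -- `F₂ ≤ Λ`
  have hF : sSup Δ ⊓ centralizer (T : Set G) ≤ Λ := by
    rintro mu ⟨hmu, hmuT⟩
    have hc : ∀ x ∈ Z, ∀ w ∈ Λ, x * w = w * x := fun x hx w hw =>
      (mem_centralizer_iff.1 (s.PL (s.TP (s.UT (s.ZU hx)))) w hw).symm
    obtain ⟨x, hx, w, hw, rfl⟩ := mem_sup_comm hc (s.fix ⟨hDU hmu, hmuT⟩)
    have hx1 : x = 1 := by
      refine s.cent' hE a (s.ZN hx) (mem_centralizer_iff.2 fun l hl => ?_)
      have h1 := mem_centralizer_iff.1 (hDL hmu) l hl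
      have h2 := mem_centralizer_iff.1 (s.PL (hLP hl)) w hw
      have e1 : l * x = (l * (x * w)) * w⁻¹ := by group
      have e2 : x * w * l * w⁻¹ = x * (w * l) * w⁻¹ := by group
      rw [e1, h1, e2, h2]
      group
    rw [hx1, one_mul]
    exact hw
  -- `C_{F₂}(Y) = 1`
  have hFY : sSup Δ ⊓ centralizer (T : Set G) ⊓ centralizer (Y : Set G) = ⊥ := by
    rw [eq_bot_iff]
    rintro mu ⟨⟨hmu, -⟩, hmuY'⟩
    have hmuY : ∀ y ∈ Y, y * mu = mu * y := fun y hy => mem_centralizer_iff.1 hmuY' y hy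
    rw [mem_bot]
    by_contra hmu1
    obtain ⟨Γ, ⟨hΓ, hΓmu⟩, hmin⟩ := Set.exists_min_image {Γ : Set (Subgroup G) | Γ ⊆ Δ ∧ mu ∈ sSup Γ} Set.ncard
      (Set.toFinite _) ⟨Δ, le_rfl, hmu⟩
    have hne' : Γ.Nonempty := by
      rw [Set.nonempty_iff_ne_empty]
      rintro rfl
      rw [sSup_empty, mem_bot] at hΓmu
      exact hmu1 hΓmu
    obtain ⟨X1, hX1⟩ := hne'
    obtain ⟨y1, hy1, rfl⟩ := (hΓ hX1).1
    have hlt : (Γ \ {cj y1 Z}).ncard < Γ.ncard := Set.ncard_sdiff_singleton_lt_of_mem hX1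
    refine absurd (hmin (Γ \ {cj y1 Z}) ⟨Set.sdiff_subset.trans hΓ, ?_⟩) (not_le.2 hlt)
    have hsp : Γ = insert (cj y1 Z) (Γ \ {cj y1 Z}) := by
      rw [Set.insert_sdiff_singleton, Set.insert_eq_of_mem hX1]
    have hG1U : sSup (Γ \ {cj y1 Z}) ≤ U := (sSup_le_sSup (Set.sdiff_subset.trans hΓ)).trans hDU
    rw [hsp, sSup_insert] at hΓmu
    obtain ⟨x, hx, d, hd, hxd⟩ := mem_sup_comm (fun x hx d hd => s.U_mul (hDU' _ ⟨y1, hy1, rfl⟩ hx) (hG1U hd)) hΓmu
    have hd' : y1⁻¹ * d * y1 ∈ centralizer (L : Set G) := by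
      have h1 : cj y1⁻¹ (sSup (Γ \ {cj y1 Z})) ≤ sSup Δ := hcs _ _ _ fun X hX =>
        le_sSup ⟨hcj _ (inv_mem hy1) X (hΓ hX.1).1, fun h0 => hX.2 (by
          have h1 := congrArg (cj y1) h0
          rw [cj_cj_inv] at h1
          exact h1)⟩
      refine hDL (h1 ?_)
      rw [mem_cj]
      have e1 : y1⁻¹⁻¹ * (y1⁻¹ * d * y1) * y1⁻¹ = d := by group
      rwa [e1]
    have hx' : y1⁻¹ * x * y1 ∈ Z := mem_cj.1 hx
    have hmu' : mu = (y1⁻¹ * x * y1) * (y1⁻¹ * d * y1) := by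
      have h1 := hmuY y1⁻¹ (inv_mem hy1)
      have e1 : (y1⁻¹ * x * y1) * (y1⁻¹ * d * y1) = y1⁻¹ * (x * d) * y1 := by group
      rw [e1, ← hxd, h1, inv_mul_cancel_right]
    have hx1 : y1⁻¹ * x * y1 = 1 := by
      refine s.cent' hE a (s.ZN hx') ?_
      have h1 := mul_mem (hDL hmu) (inv_mem hd')
      rw [hmu', mul_inv_cancel_right] at h1
      exact h1
    have hx2 : x = 1 := by
      have e1 : x = y1 * (y1⁻¹ * x * y1) * y1⁻¹ := by group
      rw [e1, hx1]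
      group
    rw [hxd, hx2, one_mul]
    exact hd
  refine absurd (s.cnt _ hF hFY) (not_lt.2 ?_)
  -- `|F₂| ≥ |C_Z(T)|`
  obtain ⟨y0, hy0, hy0Z⟩ := SetLike.not_le_iff_exists.1 s.mv
  have hTNZ : Syl T (Y ⊓ normalizer (Z : Set G)) :=
    ⟨le_inf s.TY s.TZ, s.T2, fun R hR hR2 hTR => s.sylY.2.2 R (hR.trans inf_le_left) hR2 hTR⟩
  have hA : cj y0⁻¹ (T ⊓ normalizer (cj y0 Z : Set G)) ≤ Y ⊓ normalizer (Z : Set G) := by
    rw [cj_le_iff, inv_inv]
    intro t ht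
    refine mem_cj.2 (mem_inf.2 ⟨mul_mem (mul_mem (inv_mem hy0) (s.TY ht.1)) hy0, ?_⟩)
    refine mem_normalizer_iff_cj.2 ?_
    have h1 := mem_normalizer_iff_cj.1 ht.2
    have h2 : cj (y0⁻¹ * t * y0) Z = cj y0⁻¹ (cj t (cj y0 Z)) := by rw [cj_cj, cj_cj]
    rw [h2, h1, cj_inv_cj]
  have hA2 : IsPGroup 2 ↥(cj y0⁻¹ (T ⊓ normalizer (cj y0 Z : Set G))) := isPGroup_cj _ (s.T2.to_le inf_le_left)
  obtain ⟨R, hR, hAR⟩ := exists_syl hA2 hA
  obtain ⟨n, hn, hnR⟩ := syl_conj hR hTNZ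
  set y := y0 * n⁻¹ with hy
  have hyY : y ∈ Y := mul_mem hy0 (inv_mem hn.1)
  have hyZ : cj y Z = cj y0 Z := by
    rw [hy, ← cj_cj, cj_eq_of_mem_normalizer (inv_mem hn.2)]
  have hyT : cj y⁻¹ (T ⊓ normalizer (cj y Z : Set G)) ≤ T := by
    rw [hyZ, hy, mul_inv_rev, inv_inv, ← cj_cj]
    exact (cj_mono n hAR).trans hnR.le
  have hXne : cj y Z ≠ Z := fun h0 => hy0Z (mem_normalizer_iff_cj.2 (hyZ ▸ h0))
  rw [← card_cj y (Z ⊓ centralizer (T : Set G))]
  refine card_le_norm (U := U) (X := cj y Z) (R := sSup {X | X ∈ 𝒟 ∧ X ≠ cj y Z ∧ X ≠ Z})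
    (K := T ⊓ normalizer (cj y Z : Set G)) (fun x hx y hy => s.U_mul hx hy) s.TU (hDU' _ ⟨y, hyY, rfl⟩)
    (sSup_le fun X hX => hDU' X hX.1) (le_sSup ⟨⟨y, hyY, rfl⟩, hXne⟩) (sSup_le_sSup fun X hX => ⟨hX.1, hX.2.2⟩)
    (cj_mono y inf_le_left) ?_ ?_ ?_
  · rintro k hk _ ⟨w, hw, rfl⟩
    have h1 : y⁻¹ * k * y ∈ T := by
      have h2 := hyT ⟨k, hk, rfl⟩
      rwa [show (MulAut.conj y⁻¹).toMonoidHom k = y⁻¹ * k * y⁻¹⁻¹ from rfl, inv_inv] at h2
    have h2 := mem_centralizer_iff.1 hw.2 _ h1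
    show k * (y * w * y⁻¹) = y * w * y⁻¹ * k
    have e1 : k * (y * w * y⁻¹) = y * (y⁻¹ * k * y * w) * y⁻¹ := by group
    rw [e1, h2]
    group
  · intro t ht htK
    refine le_sSup ⟨hcj t (s.TY ht) _ ⟨y, hyY, rfl⟩, fun h0 => htK ⟨ht, mem_normalizer_iff_cj.2 h0⟩, fun h0 => hXne ?_⟩
    have h1 := congrArg (cj t⁻¹) h0
    rwa [cj_inv_cj, cj_eq_of_mem_normalizer (inv_mem (s.TZ ht))] at h1
  · refine le_bot_iff.1 (le_trans (inf_le_inf_left _ (sSup_le_sSup ?_)) (hind y hyY).le)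
    exact fun X hX => ⟨hX.1, hX.2.1⟩

end SitC

end Cfsg.Agent.Omega.CaseLQ

end

section


/-!
# CaseL, weird `Y`: an `E` in the extremal class outside `O₂(Y)` (step (α) of #24536 (ii))

* `Sit.toC` : `Sit` (`H ≤ C(Λ)`) gives `SitC`;
* `SitC.exists_E` : all members `≤ T` of the class `MaxMin U H` centralise `N`, and one of them is not in `O₂(Y)`.
-/

set_option autoImplicit false
set_option linter.unusedSectionVars false

namespace Cfsg.Agent.Omega.CaseLQ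

open Subgroup Cfsg Cfsg.Agent.ZN Cfsg.Agent.ZN.ChoiceBase Cfsg.Agent.ZN.ChoiceSit
open Cfsg.Agent.Omega.FFThm (OffM ElemM NoOverM)
open Cfsg.Agent.Omega.NO3S.RedC (MaxMin exists_maxMin)
open Cfsg.Agent.Omega.NO3b.EZero (cl cj_le_cl le_cl cl_le le_normalizer_cl cent_symm cj_cent)
open Cfsg.Agent.Omega.NO3S.NotFF (le_normalizer_of_forall)

universe u

variable {G : Type u} [Group G] [Finite G] {H U T Q N Z Λ P Y E : Subgroup G}

/-- `H ≤ C(Λ)` : (CNT) is void. -/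
theorem Sit.toC (s : Sit H U T Q N Z Λ P Y) (hY : Syl T Y) : SitC H U T Q N Z Λ P Y where
  Uc := s.Uc
  Us := s.Us
  HU := s.HU
  TH := s.TH
  T2 := s.T2
  QT := s.QT
  TZ := s.TZ
  UT := s.UT
  NU := s.NU
  QN := s.QN
  ZN := s.ZN
  Zne := s.Zne
  card := s.card
  PH := s.PH
  TP := s.TP
  PN := s.PN
  PQ := s.PQ
  PC := s.PC
  YH := s.YH
  TY := s.TY
  sylY := hY
  oY := s.oY
  mv := s.mv
  PL := s.PH.trans s.HL
  fix := s.fix
  cnt := fun F hF hFY => by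
    have h1 : F ≤ centralizer (Y : Set G) := hF.trans (cent_symm (s.YH.trans s.HL))
    rw [inf_eq_left.2 h1] at hFY
    subst hFY
    rw [card_bot]
    obtain ⟨z, hz, hz1, hfix⟩ := NO3S.OneLine.exists_fixed s.T2 (s.ZU.trans s.UT) s.TZ
      (fun h0 => s.Zne (le_bot_iff.1 h0) : ¬ Z ≤ (⊥ : Subgroup G))
    rw [mem_bot] at hz1
    have hzT : z ∈ Z ⊓ centralizer (T : Set G) := mem_inf.2 ⟨hz, mem_centralizer_iff.2 fun t ht => by
      have h1 := mem_bot.1 (hfix t ht)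
      have e1 : t * z = (t * z * t⁻¹ * z⁻¹) * z * t := by group
      rw [e1, h1, one_mul]⟩
    have hne : Nontrivial ↥(Z ⊓ centralizer (T : Set G)) := ⟨⟨⟨z, hzT⟩, 1, fun h0 => hz1 (congrArg Subtype.val h0)⟩⟩
    exact Finite.one_lt_card
  noN := s.noN
  lineN := s.lineN
  irrN := s.irrN
  oneY := s.oneY

/-- **Step (α).** -/
theorem SitC.exists_E (s : SitC H U T Q N Z Λ P Y) (hT : Syl T H) (hoff : ∃ A ≤ H, OffM U A)
    (gen : ∀ A ≤ T, A ≤ centralizer (N : Set G) → P ≤ normalizer (A : Set G) → Y ≤ normalizer (A : Set G) →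
      A ≤ centralizer (U : Set G)) :
    (∀ E, MaxMin U H E → E ≤ T → E ≤ centralizer (N : Set G)) ∧ ∃ E, MaxMin U H E ∧ E ≤ T ∧ ¬ E ≤ o2 Y := by
  have h0 : ∀ E, MaxMin U H E → E ≤ T → E ≤ centralizer (N : Set G) := fun E m hE => by
    by_contra hne
    exact s.false_of hE m hne
  refine ⟨h0, ?_⟩
  by_contra hcon
  push Not at hcon
  obtain ⟨E₀, m₀⟩ := exists_maxMin s.HU hoff
  obtain ⟨R, hR, hER⟩ := exists_syl m₀.pg m₀.le
  obtain ⟨x, hx, hxR⟩ := syl_conj hR hT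
  have m₁ : MaxMin U H (cj x E₀) := m₀.cj hx s.HU
  have h₁ : cj x E₀ ≤ T := hxR ▸ cj_mono x hER
  let 𝒜 : Set (Subgroup G) := {E | MaxMin U H E ∧ E ≤ T}
  have hcs : ∀ (g : G), (∀ E ∈ 𝒜, cj g E ∈ 𝒜) → g ∈ normalizer ((sSup 𝒜 : Subgroup G) : Set G) := by
    intro g h
    refine mem_normalizer_of_cj_le ?_
    rw [cj_le_iff]
    exact sSup_le fun E hE => cj_le_iff.1 (le_sSup (h E hE))
  have hmem : cj x E₀ ∈ 𝒜 := ⟨m₁, h₁⟩
  refine m₁.ne ((le_sSup hmem).trans (gen (sSup 𝒜) (sSup_le fun E hE => hE.2)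
    (sSup_le fun E hE => h0 E hE.1 hE.2) (fun p hp => hcs p fun E hE => ⟨hE.1.cj (s.PH hp) s.HU, ?_⟩)
    (fun y hy => hcs y fun E hE => ⟨hE.1.cj (s.YH hy) s.HU, ?_⟩)))
  · have h1 := cj_mono p (le_inf hE.2 (h0 E hE.1 hE.2))
    rw [cj_eq_of_mem_normalizer (s.PC hp)] at h1
    exact h1.trans inf_le_left
  · have h1 := cj_mono y (hcon E hE.1 hE.2)
    rw [cj_eq_of_mem_normalizer (MinSimple.VModule.le_normalizer_o2 Y hy)] at h1
    exact h1.trans s.oY

end Cfsg.Agent.Omega.CaseLQ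

end

section


/-!
# NoW and NoW+, `q ≥ 3`: step (ii) without `Y ≤ C(Λ)`, and the abstract end (helper952 #24536, helper509 #25180)

* `psi_false_mv` : `PsiYB.psi_false` with `Y ≤ C(Λ)`, `Λ ≤ U`, `Ω₁Z(T) ≤ Λ Z_j` replaced by: `Y` moves `C_{Z_j}(T)`;
* `mv_of_cent` : the latter from the former;
* **`now_false`** : `SitC` over `Bg` and the data of `Y` give `False`.
-/

set_option autoImplicit false
set_option linter.unusedSectionVars false

namespace Cfsg.Agent.Omega.CaseLQ.PsiYC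

open Subgroup Cfsg Cfsg.Agent.ZN Cfsg.Agent.ZN.ChoiceBase
open Cfsg.Agent.ZN.ChoiceSit (Syl)
open Cfsg.Agent.Omega.OM
open Cfsg.Agent.Omega.OM.GLev (GE)
open Cfsg.Agent.Omega.NO3S.EThree.Frame (Bg Fg)
open Cfsg.Agent.Omega.NO3S.RedC (MaxMin)
open Cfsg.Agent.Omega.NO3S.CaseLW.YBX (Xc mem_Xc Concl)
open Cfsg.Agent.Omega.FFThm (OffM ElemM NoOverM StmtM)
open Cfsg.Agent.MinSimple.MinParabolic (IsMinPar)
open Cfsg.Agent.Omega.CaseLQ.Psi
open Cfsg.Agent.Omega.CaseLQ.PsiYB (Fam bfam YS frN_of_yb)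
open Cfsg.Agent.Omega.CaseLQ.YBXs (ConclS exists_ybx_st)

universe u w

variable {G : Type u} [Group G] [Finite G]

/-- the blocks of `Y` on `C_U(⟨Fam⟩)`; for some `l` the vectors of `N l` fixed by `T` are fixed by `Y` -/
theorem exists_conclS {U H T Y : Subgroup G} (s : YS U H T Y) (hFF : StmtM.{u})
    (hex : ∃ E, E ≤ T ∧ MaxMin U H E ∧ ¬ E ≤ o2 Y) :
    ∃ (ι : Type) (_ : Finite ι) (Ni c : ι → Subgroup G), ConclS T Y U (Fam U H T) Ni c := by
  obtain ⟨ge, -⟩ := s.exists_concl hFF hex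
  obtain ⟨E, hET, hE, hEY⟩ := hex
  have hEF : E ∈ Fam U H T := ⟨hET, Or.inl hE⟩
  have hfam := bfam (U := U) (H := H) (T := T) (s.TY.trans s.YH)
  have hne : ¬ E ≤ centralizer (zl T Y : Set G) := fun h => hEY ((le_inf hET h).trans s.cap)
  obtain ⟨-, con⟩ := hFF G T Y s.syl s.min s.c2
    ⟨E, hET.trans s.TY, NO3S.OneLine.BFam.offM hfam s.U_mul s.VU hEF hne⟩
  exact exists_ybx_st ge s.UT con ⟨E, hEF, hEY⟩ s.mv

/-- `Y` moves `C_{Z_j}(T)`, if it centralises `Λ` and moves `Ω₁Z(T) ≤ Λ Z_j` -/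
theorem mv_of_cent {T Y Λ Z : Subgroup G} (TY : T ≤ Y) (mv : ¬ Y ≤ centralizer (zc T : Set G))
    (YΛ : Y ≤ centralizer (Λ : Set G)) (zT : zc T ≤ Λ ⊔ Z) (ΛZ : ∀ a ∈ Λ, ∀ b ∈ Z, a * b = b * a) :
    ¬ Y ≤ centralizer ((Z ⊓ centralizer (T : Set G) : Subgroup G) : Set G) := by
  intro hcon
  apply mv
  intro y hy
  rw [mem_centralizer_iff]
  intro z hz
  have hn : Λ ≤ normalizer (Z : Set G) := fun a ha => mem_normalizer_of_cj_le (by
    rintro _ ⟨b, hb, rfl⟩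
    have e : a * b * a⁻¹ = b := by rw [ΛZ a ha b hb]; group
    show a * b * a⁻¹ ∈ Z
    rw [e]; exact hb)
  have h1 : z ∈ Λ ⊔ Z := zT hz
  rw [← SetLike.mem_coe, Subgroup.coe_mul_of_left_le_normalizer_right _ _ hn] at h1
  obtain ⟨a, ha, b, hb, rfl⟩ := h1
  have haY : ∀ y ∈ Y, a * y = y * a := fun y hy => mem_centralizer_iff.1 (YΛ hy) a ha
  have hzT : ∀ t ∈ T, t * (a * b) = a * b * t := fun t ht => (ChoiceBase.mem_zc.1 hz).2.2 t ht
  have hbT : b ∈ Z ⊓ centralizer (T : Set G) := by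
    refine ⟨hb, mem_centralizer_iff.2 fun t ht => ?_⟩
    have h2 := hzT t ht
    have h3 := haY t (TY ht)
    have h4 : a * (t * b) = a * (b * t) := by
      rw [← mul_assoc, h3, mul_assoc, h2, mul_assoc]
    exact mul_left_cancel h4
  have h5 := mem_centralizer_iff.1 (hcon hy) b hbT
  show a * b * y = y * (a * b)
  rw [mul_assoc, h5, ← mul_assoc, haY y hy, mul_assoc]

section bg

variable {S : Sylow 2 G} {P B ZJ : Subgroup G} {ι : Type} {L W Z C : ι → Subgroup G} {q : ℕ}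
  (h : Bg S P B ZJ L W Z C q)
include h

/-- **NoW and NoW+, `q ≥ 3`, step (ii)**: if all maximal offenders of least rank `≤ T` centralise `W j`, one of them is not
in `O₂(Y)` and `Y` moves `C_{Z_j}(T)`: contradiction. -/
theorem psi_false_mv {j : ι} (hq : 3 ≤ q) {U H T Y : Subgroup G} (s : YS U H T Y) (hFF : StmtM.{u}) (BT : B ≤ T)
    (TS : T ≤ (S : Subgroup G)) (WU : W j ≤ U) (CQ : U ⊓ centralizer (o2 P : Set G) ≤ zl (S : Subgroup G) P)
    (cen : ∀ E ≤ T, MaxMin U H E → E ≤ centralizer (W j : Set G))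
    (hex : ∃ E, E ≤ T ∧ MaxMin U H E ∧ ¬ E ≤ o2 Y)
    (mvZ : ¬ Y ≤ centralizer ((Z j ⊓ centralizer (T : Set G) : Subgroup G) : Set G)) : False := by
  obtain ⟨κ, _, Ni, c, hc, l, hl⟩ := exists_conclS s hFF hex
  have WX : W j ≤ Xc U (Fam U H T) := by
    intro w hw
    refine mem_Xc.2 ⟨WU hw, fun A hA a ha => ?_⟩
    rcases hA.2 with h1 | h1
    · exact ((mem_centralizer_iff.1 (cen A hA.1 h1 ha)) w hw).symm
    · exact ((mem_centralizer_iff.1 (h1 ha)) w (WU hw)).symm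
  have nZ : ∃ i, ¬ Z j ≤ Ni i := by
    refine ⟨l, fun hZ => mvZ fun y hy => mem_centralizer_iff.2 fun z hz => ?_⟩
    have h1 := hl z (hZ hz.1) (fun t ht => mem_centralizer_singleton_iff.2 (mem_centralizer_iff.1 hz.2 t ht)) hy
    exact (mem_centralizer_singleton_iff.1 h1).symm
  exact (frN_of_yb h hq BT TS hc.yb WX ((inf_le_inf_right _ (NO3S.CaseLW.YBX.Xc_le _ _)).trans CQ) nZ).false

/-- **NoW and NoW+, `q ≥ 3`, abstract end.** -/
theorem now_false {j : ι} (hq : 3 ≤ q) {H U T Λ Pj Y : Subgroup G}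
    (s : SitC H U T (o2 P) (W j) (Z j) Λ Pj Y) (hFF : StmtM.{u}) (BT : B ≤ T) (TS : T ≤ (S : Subgroup G))
    (hT : Syl T H) (hoff : ∃ A ≤ H, OffM U A)
    (gen : ∀ A ≤ T, A ≤ centralizer (W j : Set G) → Pj ≤ normalizer (A : Set G) → Y ≤ normalizer (A : Set G) →
      A ≤ centralizer (U : Set G))
    (min : IsMinPar T Y) (c2 : Y ⊓ centralizer (o2 Y : Set G) ≤ o2 Y) (mv : ¬ Y ≤ centralizer (zc T : Set G))
    (VU : zl T Y ≤ U) (CQ : U ⊓ centralizer (o2 P : Set G) ≤ zl (S : Subgroup G) P)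
    (mvZ : ¬ Y ≤ centralizer ((Z j ⊓ centralizer (T : Set G) : Subgroup G) : Set G)) : False := by
  obtain ⟨h1, E, hE, hET, hEY⟩ := s.exists_E hT hoff gen
  exact psi_false_mv h hq ⟨s.Uc, s.Us, s.HU, s.UT, s.sylY, min, c2, mv, s.YH, VU⟩ hFF BT TS s.NU CQ
    (fun E hE m => h1 E m hE) ⟨E, hET, hE, hEY⟩ mvZ

end bg

end Cfsg.Agent.Omega.CaseLQ.PsiYC

end

section


/-!
# A 2-group acting semilinearly on a natural module: offenders

`NatT F N Z T e` : `N = F²` (coordinates `e`), `T` acts semilinearly on `N` and normalises the line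
`Z = {e v 1 = 0}`.

* `NatT.no` : no over-offender; `NatT.line` : an offender on `N` in `T` is the full root group of `Z`.
-/

set_option autoImplicit false
set_option linter.unusedSectionVars false

namespace Cfsg.Agent.Omega.CaseLQ

open Subgroup Cfsg
open Cfsg.Agent.Omega.FFThm (OffM ElemM)

universe u

variable {G : Type u} [Group G]

/-- `T` acts semilinearly on `N = F²` and normalises the line `Z`. -/
structure NatT (F : Type) [Field F] (N Z T : Subgroup G) (e : G → Fin 2 → F) : Prop where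
  mul : ∀ v ∈ N, ∀ w ∈ N, e (v * w) = e v + e w
  surj : ∀ x, ∃ v ∈ N, e v = x
  inj : ∀ v ∈ N, e v = 0 → v = 1
  TN : ∀ t ∈ T, ∀ v ∈ N, t * v * t⁻¹ ∈ N
  memZ : ∀ v, v ∈ Z ↔ v ∈ N ∧ e v 1 = 0
  semi : ∀ t ∈ T, ∃ τ : F ≃+* F, ∀ c : F, ∀ v ∈ N, ∀ w ∈ N, e w = c • e v →
    e (t * w * t⁻¹) = τ c • e (t * v * t⁻¹)
  line : ∀ t ∈ T, ∀ v ∈ N, e v 1 = 0 → e (t * v * t⁻¹) 1 = 0

namespace NatT

variable {F : Type} [Field F] {N Z T : Subgroup G} {e : G → Fin 2 → F} (h : NatT F N Z T e)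
include h

theorem e_one : e 1 = 0 := by
  have h1 := h.mul 1 (one_mem _) 1 (one_mem _)
  rw [one_mul] at h1
  exact left_eq_add.1 h1

theorem e_inv {v : G} (hv : v ∈ N) : e v⁻¹ = - e v := by
  have h1 := h.mul v hv v⁻¹ (inv_mem hv)
  rw [mul_inv_cancel, h.e_one] at h1
  exact (neg_eq_of_add_eq_zero_right h1.symm).symm

theorem ext {v w : G} (hv : v ∈ N) (hw : w ∈ N) (e1 : e v = e w) : v = w := by
  have h1 : e (v * w⁻¹) = 0 := by rw [h.mul v hv _ (inv_mem hw), h.e_inv hw, e1, add_neg_cancel]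
  exact mul_inv_eq_one.1 (h.inj _ (mul_mem hv (inv_mem hw)) h1)

theorem cm {v w : G} (hv : v ∈ N) (hw : w ∈ N) : v * w = w * v :=
  h.ext (mul_mem hv hw) (mul_mem hw hv) (by rw [h.mul v hv w hw, h.mul w hw v hv, add_comm])

theorem ZN : Z ≤ N := fun v hv => ((h.memZ v).1 hv).1

/-- `t` acts linearly -/
def Lin (_ : NatT F N Z T e) (t : G) : Prop :=
  ∀ c : F, ∀ v ∈ N, ∀ w ∈ N, e w = c • e v → e (t * w * t⁻¹) = c • e (t * v * t⁻¹)

theorem conj_mul {t v w : G} (ht : t ∈ T) (hv : v ∈ N) (hw : w ∈ N) :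
    e (t * (v * w) * t⁻¹) = e (t * v * t⁻¹) + e (t * w * t⁻¹) := by
  rw [show t * (v * w) * t⁻¹ = t * v * t⁻¹ * (t * w * t⁻¹) by group]
  exact h.mul _ (h.TN t ht v hv) _ (h.TN t ht w hw)

variable [CharP F 2]

/-- a linear element acting as an involution on `N` acts as an upper unitriangular matrix -/
theorem up_of_lin {t : G} (ht : t ∈ T) (hl : h.Lin t) (h2 : t ^ 2 ∈ centralizer (N : Set G)) :
    ∃ b : F, ∀ v ∈ N, e (t * v * t⁻¹) = ![e v 0 + b * e v 1, e v 1] := by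
  obtain ⟨v0, hv0, e0⟩ := h.surj ![1, 0]
  obtain ⟨v1, hv1, e1⟩ := h.surj ![0, 1]
  have key : ∀ v ∈ N, e (t * v * t⁻¹) = e v 0 • e (t * v0 * t⁻¹) + e v 1 • e (t * v1 * t⁻¹) := by
    intro v hv
    obtain ⟨w0, hw0, f0⟩ := h.surj (e v 0 • e v0)
    obtain ⟨w1, hw1, f1⟩ := h.surj (e v 1 • e v1)
    have h1 : v = w0 * w1 := by
      refine h.ext hv (mul_mem hw0 hw1) ?_
      rw [h.mul _ hw0 _ hw1, f0, f1, e0, e1]
      funext i
      fin_cases i <;> simp
    rw [h1, h.conj_mul ht hw0 hw1, hl _ v0 hv0 w0 hw0 f0, hl _ v1 hv1 w1 hw1 f1, ← h1]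
  set a := e (t * v0 * t⁻¹) 0 with ha
  have ha1 : e (t * v0 * t⁻¹) 1 = 0 := h.line t ht v0 hv0 (by rw [e0]; rfl)
  have ha' : e (t * v0 * t⁻¹) = ![a, 0] := by
    funext i; fin_cases i
    · rfl
    · exact ha1
  set b := e (t * v1 * t⁻¹) 0 with hb
  set d := e (t * v1 * t⁻¹) 1 with hd
  have hb' : e (t * v1 * t⁻¹) = ![b, d] := by
    funext i; fin_cases i <;> rfl
  have key2 : ∀ v ∈ N, e (t * v * t⁻¹) = ![a * e v 0 + b * e v 1, d * e v 1] := by
    intro v hv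
    rw [key v hv, ha', hb']
    funext i
    fin_cases i <;> simp [mul_comm]
  have hsq : ∀ v ∈ N, t * (t * v * t⁻¹) * t⁻¹ = v := by
    intro v hv
    have h3 := mem_centralizer_iff.1 h2 v hv
    rw [sq] at h3
    calc t * (t * v * t⁻¹) * t⁻¹ = t * t * v * (t * t)⁻¹ := by group
      _ = v := by rw [← h3]; group
  have hda : a * a = 1 := by
    have h3 := congrFun (congrArg e (hsq v0 hv0)) 0
    rw [key2 _ (h.TN t ht v0 hv0), ha', e0] at h3
    simpa using h3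
  have hdd : d * d = 1 := by
    have h3 := congrFun (congrArg e (hsq v1 hv1)) 1
    rw [key2 _ (h.TN t ht v1 hv1), hb', e1] at h3
    simpa using h3
  have hsq1 : ∀ x : F, x * x = 1 → x = 1 := by
    intro x hx
    have h4 : (x + 1) * (x + 1) = 0 := by
      have h5 : (x + 1) * (x + 1) = x * x + 1 + (x + x) := by ring
      rw [h5, hx, CharTwo.add_self_eq_zero x, add_zero, CharTwo.add_self_eq_zero]
    have h5 := mul_self_eq_zero.1 h4
    calc x = x + (1 + 1) := by rw [CharTwo.add_self_eq_zero, add_zero]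
      _ = (x + 1) + 1 := by ring
      _ = 1 := by rw [h5, zero_add]
  refine ⟨b, fun v hv => ?_⟩
  rw [key2 v hv, hsq1 a hda, hsq1 d hdd, one_mul, one_mul]

/-- the linear elements of `E` -/
def lin (E : Subgroup G) (hE : E ≤ T) : Subgroup G where
  carrier := {t | t ∈ E ∧ h.Lin t}
  mul_mem' := by
    rintro a b ⟨ha, ha'⟩ ⟨hb, hb'⟩
    refine ⟨mul_mem ha hb, fun c v hv w hw hc => ?_⟩
    have h1 := ha' c _ (h.TN b (hE hb) v hv) _ (h.TN b (hE hb) w hw) (hb' c v hv w hw hc)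
    rw [show a * b * w * (a * b)⁻¹ = a * (b * w * b⁻¹) * a⁻¹ by group,
      show a * b * v * (a * b)⁻¹ = a * (b * v * b⁻¹) * a⁻¹ by group]
    exact h1
  one_mem' := ⟨one_mem _, fun c v hv w hw hc => by rw [inv_one, mul_one, mul_one, one_mul, one_mul]; exact hc⟩
  inv_mem' := by
    rintro a ⟨ha, ha'⟩
    refine ⟨inv_mem ha, fun c v hv w hw hc => ?_⟩
    have hv' := h.TN a⁻¹ (inv_mem (hE ha)) v hv
    obtain ⟨u, hu, hu'⟩ := h.surj (c • e (a⁻¹ * v * a⁻¹⁻¹))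
    have h1 := ha' c _ hv' u hu hu'
    rw [show a * (a⁻¹ * v * a⁻¹⁻¹) * a⁻¹ = v by group, ← hc] at h1
    have h2 := h.ext (h.TN a (hE ha) u hu) hw h1
    rw [← hu', ← h2]
    congr 1
    group

theorem mem_lin {E : Subgroup G} {hE : E ≤ T} {t : G} : t ∈ h.lin E hE ↔ t ∈ E ∧ h.Lin t := Iff.rfl

/-- a vector fixed by a nonlinear element, times the scalar, is not fixed -/
theorem eq_one_of_fix {t : G} {τ : F ≃+* F}
    (hτ : ∀ c : F, ∀ v ∈ N, ∀ w ∈ N, e w = c • e v → e (t * w * t⁻¹) = τ c • e (t * v * t⁻¹)) {c : F} (hc : τ c ≠ c)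
    {v w : G} (hv : v ∈ N) (hw : w ∈ N) (hwv : e w = c • e v) (hv' : t * v * t⁻¹ = v) (hw' : t * w * t⁻¹ = w) :
    v = 1 := by
  have h1 := hτ c v hv w hw hwv
  rw [hv', hw', hwv] at h1
  have h2 : (τ c - c) • e v = 0 := by rw [sub_smul, ← h1, sub_self]
  rcases smul_eq_zero.1 h2 with h3 | h3
  · exact absurd (sub_eq_zero.1 h3) hc
  · exact h.inj v hv h3

/-- `|C|² ≤ |M|` for `C ≤ M` fixed by `t`, `M` closed under the scalar `c`. -/
theorem card_sq_le [Finite G] {t : G} (_ : t ∈ T) {τ : F ≃+* F}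
    (hτ : ∀ c : F, ∀ v ∈ N, ∀ w ∈ N, e w = c • e v → e (t * w * t⁻¹) = τ c • e (t * v * t⁻¹)) {c : F} (hc : τ c ≠ c)
    {C M : Subgroup G} (hCM : C ≤ M) (hMN : M ≤ N) (hM : ∀ v ∈ M, ∀ w ∈ N, e w = c • e v → w ∈ M)
    (hC : ∀ v ∈ C, t * v * t⁻¹ = v) : Nat.card C ^ 2 ≤ Nat.card M := by
  have hs : ∀ v : C, ∃ w ∈ N, e w = c • e (v : G) := fun v => h.surj _
  choose s hs1 hs2 using hs
  have hsM : ∀ v : C, s v ∈ M := fun v => hM _ (hCM v.2) _ (hs1 v) (hs2 v)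
  rw [sq, ← Nat.card_prod]
  refine Nat.card_le_card_of_injective (fun x : C × C => (⟨(x.1 : G) * s x.2, mul_mem (hCM x.1.2) (hsM x.2)⟩ : M)) ?_
  rintro ⟨x, y⟩ ⟨x', y'⟩ hxy
  have h1 : (x : G) * s y = x' * s y' := congrArg Subtype.val hxy
  have hx := hMN (hCM x.2)
  have hx' := hMN (hCM x'.2)
  have hy := hMN (hCM y.2)
  have hy' := hMN (hCM y'.2)
  -- `x'⁻¹ x = s y' (s y)⁻¹`
  have h2 : (x' : G)⁻¹ * x = s y' * (s y)⁻¹ := by
    rw [inv_mul_eq_iff_eq_mul, ← mul_assoc, eq_mul_inv_iff_mul_eq]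
    exact h1
  have h3 : e ((x' : G)⁻¹ * x) = c • e ((y' : G) * (y : G)⁻¹) := by
    rw [h2, h.mul _ (hs1 y') _ (inv_mem (hs1 y)), h.e_inv (hs1 y), hs2, hs2, h.mul _ hy' _ (inv_mem hy), h.e_inv hy,
      smul_add, smul_neg]
  have h4 := h.eq_one_of_fix hτ hc (mul_mem hy' (inv_mem hy)) (mul_mem (inv_mem hx') hx) h3
    (hC _ (mul_mem y'.2 (inv_mem y.2))) (hC _ (mul_mem (inv_mem x'.2) x.2))
  have h5 : y = y' := Subtype.ext (mul_inv_eq_one.1 h4).symm
  subst h5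
  exact Prod.ext (Subtype.ext (mul_right_cancel h1)) rfl

/-- the offset of a linear involution -/
theorem card_lin [Finite G] [Finite F] {E : Subgroup G} (hE : E ≤ T) (hm : ElemM N E) :
    ∃ X : AddSubgroup F, Nat.card (h.lin E hE) = Nat.card ↥(E ⊓ centralizer (N : Set G)) * Nat.card X ∧
      (∀ b ∈ X, ∃ t ∈ h.lin E hE, ∀ v ∈ N, e (t * v * t⁻¹) = ![e v 0 + b * e v 1, e v 1]) ∧
      ∀ t ∈ h.lin E hE, ∃ b ∈ X, ∀ v ∈ N, e (t * v * t⁻¹) = ![e v 0 + b * e v 1, e v 1] := by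
  have hb : ∀ t : h.lin E hE, ∃ b : F, ∀ v ∈ N, e ((t : G) * v * (t : G)⁻¹) = ![e v 0 + b * e v 1, e v 1] :=
    fun t => h.up_of_lin (hE t.2.1) t.2.2 (hm.sq _ t.2.1)
  choose b hb using hb
  obtain ⟨v1, hv1, e1⟩ := h.surj ![0, 1]
  have hbe : ∀ t : h.lin E hE, e ((t : G) * v1 * (t : G)⁻¹) 0 = b t := by
    intro t
    rw [hb t v1 hv1, e1]
    simp
  let β : h.lin E hE →* Multiplicative F :=
    { toFun := fun t => Multiplicative.ofAdd (b t)
      map_one' := by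
        rw [← hbe]
        simp only [OneMemClass.coe_one, one_mul, inv_one, mul_one]
        rw [e1]
        rfl
      map_mul' := fun s t => by
        rw [← ofAdd_add, ← hbe (s * t)]
        congr 1
        have h1 : ((s * t : h.lin E hE) : G) * v1 * ((s * t : h.lin E hE) : G)⁻¹ =
            (s : G) * ((t : G) * v1 * (t : G)⁻¹) * (s : G)⁻¹ := by
          rw [Subgroup.coe_mul]; group
        rw [h1, hb s _ (h.TN _ (hE t.2.1) v1 hv1), hb t v1 hv1, e1]
        simp [add_comm] }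
  have hβ : ∀ t, β t = Multiplicative.ofAdd (b t) := fun t => rfl
  have hker : ∀ t : h.lin E hE, t ∈ β.ker ↔ (t : G) ∈ centralizer (N : Set G) := by
    intro t
    rw [MonoidHom.mem_ker, hβ, ofAdd_eq_one]
    constructor
    · intro h0
      refine mem_centralizer_iff.2 fun v hv => ?_
      have h1 := hb t v hv
      rw [h0, zero_mul, add_zero] at h1
      have h2 := h.ext (h.TN _ (hE t.2.1) v hv) hv (h1.trans (by funext i; fin_cases i <;> rfl))
      exact (mul_inv_eq_iff_eq_mul.1 h2).symm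
    · intro hc
      have h1 : (t : G) * v1 * (t : G)⁻¹ = v1 := mul_inv_eq_iff_eq_mul.2 (mem_centralizer_iff.1 hc v1 hv1).symm
      rw [← hbe, h1, e1]
      rfl
  refine ⟨(Subgroup.toAddSubgroup β.range : AddSubgroup (Additive (Multiplicative F))), ?_, ?_, ?_⟩
  · have h1 : Nat.card (h.lin E hE) = Nat.card β.ker * Nat.card β.range := by
      rw [Subgroup.card_eq_card_quotient_mul_card_subgroup β.ker, mul_comm]
      congr 1
      exact Nat.card_congr (QuotientGroup.quotientKerEquivRange β).toEquiv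
    have h2 : Nat.card β.ker = Nat.card ↥(E ⊓ centralizer (N : Set G)) := by
      refine Nat.card_congr ⟨fun t => ⟨t.1, t.1.2.1, (hker _).1 t.2⟩, fun t => ⟨⟨t.1, t.2.1, ?_⟩, ?_⟩, fun t => rfl,
        fun t => rfl⟩
      · intro c v hv w hw hc
        have e1 : (t : G) * v * (t : G)⁻¹ = v := mul_inv_eq_iff_eq_mul.2 (mem_centralizer_iff.1 t.2.2 v hv).symm
        have e2 : (t : G) * w * (t : G)⁻¹ = w := mul_inv_eq_iff_eq_mul.2 (mem_centralizer_iff.1 t.2.2 w hw).symm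
        rw [e1, e2]
        exact hc
      · exact (hker _).2 t.2.2
    rw [h1, h2]
    rfl
  · rintro _ ⟨t, rfl⟩
    exact ⟨t, t.2, hb t⟩
  · intro t ht
    exact ⟨b ⟨t, ht⟩, ⟨⟨t, ht⟩, rfl⟩, hb ⟨t, ht⟩⟩

theorem card_N [Finite G] [Finite F] : Nat.card N = Nat.card F ^ 2 := by
  have h1 : Nat.card (Fin 2 → F) = Nat.card F ^ 2 := by rw [Nat.card_fun, Nat.card_fin]
  rw [← h1]
  refine Nat.card_congr (Equiv.ofBijective (fun v : N => e v) ⟨fun v w hvw => Subtype.ext (h.ext v.2 w.2 hvw), ?_⟩)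
  intro x
  obtain ⟨v, hv, hx⟩ := h.surj x
  exact ⟨⟨v, hv⟩, hx⟩

theorem card_Z [Finite G] [Finite F] : Nat.card Z = Nat.card F := by
  refine Nat.card_congr (Equiv.ofBijective (fun v : Z => e v 0) ⟨fun v w hvw => Subtype.ext ?_, ?_⟩)
  · refine h.ext (h.ZN v.2) (h.ZN w.2) ?_
    funext i
    fin_cases i
    · exact hvw
    · exact ((h.memZ _).1 v.2).2.trans ((h.memZ _).1 w.2).2.symm
  · intro x
    obtain ⟨v, hv, hx⟩ := h.surj ![x, 0]
    exact ⟨⟨v, (h.memZ v).2 ⟨hv, by rw [hx]; rfl⟩⟩, congrFun hx 0⟩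

/-- if a linear element of `E` moves `N` then `C_N(E) ≤ Z` -/
theorem cent_le_Z {E : Subgroup G} {t : G} (htE : t ∈ E) {b : F} (hb0 : b ≠ 0)
    (hb : ∀ v ∈ N, e (t * v * t⁻¹) = ![e v 0 + b * e v 1, e v 1]) : N ⊓ centralizer (E : Set G) ≤ Z := by
  rintro v ⟨hv, hvE⟩
  refine (h.memZ v).2 ⟨hv, ?_⟩
  have h1 : t * v * t⁻¹ = v := mul_inv_eq_iff_eq_mul.2 (mem_centralizer_iff.1 hvE t htE)
  have h2 := congrFun (hb v hv) 0
  rw [h1] at h2
  have h3 : b * e v 1 = 0 := by simpa using h2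
  exact (mul_eq_zero.1 h3).resolve_left hb0

/-- nonlinear elements: `|E| |C_N(E)| < |N| |C_E(N)|`. -/
theorem lt_of_nonlin [Finite G] [Finite F] {E : Subgroup G} (hE : E ≤ T) (hm : ElemM N E) {t : G} (htE : t ∈ E)
    (hnl : ¬ h.Lin t) : Nat.card E * Nat.card ↥(N ⊓ centralizer (E : Set G)) <
      Nat.card N * Nat.card ↥(E ⊓ centralizer (N : Set G)) := by
  obtain ⟨τ, hτ⟩ := h.semi t (hE htE)
  have hτ1 : ∃ c, τ c ≠ c := by
    by_contra hcon
    push Not at hcon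
    exact hnl fun c v hv w hw hc => by rw [hτ c v hv w hw hc, hcon c]
  obtain ⟨c, hc⟩ := hτ1
  obtain ⟨v1, hv1, e1⟩ := h.surj ![0, 1]
  have htv1 : e v1 ≠ 0 := fun h0 => by
    have h2 := congrFun (e1.symm.trans h0) 1
    simp at h2
  -- the automorphism of an element of `E` is an involution
  have hsqE : ∀ s ∈ E, ∀ v ∈ N, s * (s * v * s⁻¹) * s⁻¹ = v := by
    intro s hs v hv
    have h3 := mem_centralizer_iff.1 (hm.sq s hs) v hv
    rw [sq] at h3
    calc s * (s * v * s⁻¹) * s⁻¹ = s * s * v * (s * s)⁻¹ := by group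
      _ = v := by rw [← h3]; group
  have hinv : ∀ s ∈ E, ∀ σ : F ≃+* F, (∀ c : F, ∀ v ∈ N, ∀ w ∈ N, e w = c • e v →
      e (s * w * s⁻¹) = σ c • e (s * v * s⁻¹)) → σ * σ = 1 := by
    intro s hs σ hσ
    ext a
    obtain ⟨w, hw, hw'⟩ := h.surj (a • e v1)
    have h1 := hσ a v1 hv1 w hw hw'
    have h2 := hσ _ _ (h.TN s (hE hs) v1 hv1) _ (h.TN s (hE hs) w hw) h1
    rw [hsqE s hs w hw, hsqE s hs v1 hv1, hw'] at h2
    have h3 : (a - σ (σ a)) • e v1 = 0 := by rw [sub_smul, h2, sub_self]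
    rcases smul_eq_zero.1 h3 with h4 | h4
    · exact (sub_eq_zero.1 h4).symm
    · exact absurd h4 htv1
  have hone : ∀ s ∈ E, ∀ σ : F ≃+* F, (∀ c : F, ∀ v ∈ N, ∀ w ∈ N, e w = c • e v →
      e (s * w * s⁻¹) = σ c • e (s * v * s⁻¹)) → ¬ h.Lin s → σ ≠ 1 := by
    rintro s hs σ hσ hl rfl
    exact hl fun c v hv w hw hcw => hσ c v hv w hw hcw
  -- `|E| ≤ 2 |lin E|`
  have hE2 : Nat.card E ≤ 2 * Nat.card (h.lin E hE) := by
    have h1 : ∀ s ∈ E, ¬ h.Lin s → t * s ∈ h.lin E hE := by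
      intro s hs hsl
      obtain ⟨σ, hσ⟩ := h.semi s (hE hs)
      have h2 : σ = τ := Cfsg.Agent.Omega.NO3S.SLTwo.ringAut_involution_unique (hinv s hs σ hσ) (hinv t htE τ hτ)
        (hone s hs σ hσ hsl) (hone t htE τ hτ hnl)
      refine ⟨mul_mem htE hs, fun a v hv w hw haw => ?_⟩
      have h3 := hτ _ _ (h.TN s (hE hs) v hv) _ (h.TN s (hE hs) w hw) (hσ a v hv w hw haw)
      have h4 : τ (σ a) = a := by
        rw [h2]
        exact congrArg (fun x : F ≃+* F => x a) (hinv t htE τ hτ)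
      rw [h4] at h3
      rw [show t * s * w * (t * s)⁻¹ = t * (s * w * s⁻¹) * t⁻¹ by group,
        show t * s * v * (t * s)⁻¹ = t * (s * v * s⁻¹) * t⁻¹ by group]
      exact h3
    have h2 : Nat.card (Bool × h.lin E hE) = 2 * Nat.card (h.lin E hE) := by
      rw [Nat.card_prod]; simp
    rw [← h2]
    refine Nat.card_le_card_of_surjective (fun x : Bool × h.lin E hE =>
      (⟨cond x.1 (t⁻¹ * x.2) x.2, by
        cases x.1
        · exact x.2.2.1
        · exact mul_mem (inv_mem htE) x.2.2.1⟩ : E)) ?_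
    rintro ⟨s, hs⟩
    by_cases hsl : h.Lin s
    · exact ⟨(false, ⟨s, hs, hsl⟩), rfl⟩
    · exact ⟨(true, ⟨t * s, h1 s hs hsl⟩), Subtype.ext (by simp)⟩
  -- `|X| |C_N(E)| ≤ q`
  obtain ⟨X, hX, hX1, -⟩ := h.card_lin hE hm
  have hkey : Nat.card X * Nat.card ↥(N ⊓ centralizer (E : Set G)) ≤ Nat.card F := by
    have hfix : ∀ v ∈ N ⊓ centralizer (E : Set G), t * v * t⁻¹ = v := fun v hv =>
      mul_inv_eq_iff_eq_mul.2 (mem_centralizer_iff.1 hv.2 t htE)
    by_cases hX0 : ∀ b ∈ X, b = 0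
    · have h1 : Nat.card X = 1 := by
        have h2 : X = ⊥ := (AddSubgroup.eq_bot_iff_forall _).2 hX0
        rw [h2, AddSubgroup.card_bot]
      have h2 := h.card_sq_le (hE htE) hτ hc (C := N ⊓ centralizer (E : Set G)) (M := N) inf_le_left le_rfl
        (fun _ _ w hw _ => hw) hfix
      rw [h.card_N] at h2
      rw [h1, one_mul]
      exact (Nat.pow_le_pow_iff_left two_ne_zero).1 h2
    · push Not at hX0
      obtain ⟨b, hbX, hb0⟩ := hX0
      obtain ⟨r, hr, hrb⟩ := hX1 b hbX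
      have h1 := h.cent_le_Z hr.1 hb0 hrb
      have h2 := h.card_sq_le (hE htE) hτ hc (C := N ⊓ centralizer (E : Set G)) (M := Z) h1 h.ZN
        (fun v hv w hw hwv => (h.memZ w).2 ⟨hw, by rw [hwv, Pi.smul_apply, ((h.memZ v).1 hv).2, smul_zero]⟩) hfix
      rw [h.card_Z] at h2
      -- `a τ(b) = d b` for all `b ∈ X`
      obtain ⟨v0, hv0, e0⟩ := h.surj ![1, 0]
      set a := e (t * v0 * t⁻¹) 0 with ha
      set d := e (t * v1 * t⁻¹) 1 with hd
      have ha0 : a ≠ 0 := by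
        intro h3
        have h4 : e (t * v0 * t⁻¹) = 0 := by
          funext i
          fin_cases i
          · exact h3
          · exact h.line t (hE htE) v0 hv0 (by rw [e0]; rfl)
        have h5 := h.inj _ (h.TN t (hE htE) v0 hv0) h4
        have h6 : v0 = 1 := by
          have h7 := mul_inv_eq_one.1 h5
          exact mul_left_cancel (h7.trans (mul_one t).symm)
        rw [h6, h.e_one] at e0
        have h8 := congrFun e0 0
        simp at h8
      have hrel : ∀ b ∈ X, a * τ b = d * b := by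
        intro b hb
        obtain ⟨r, hr, hrb⟩ := hX1 b hb
        have h3 := mem_centralizer_iff.1 (hm.comm t htE r hr.1) v1 hv1
        -- `t r v1 r⁻¹ t⁻¹ = r t v1 t⁻¹ r⁻¹`
        have h4 : t * (r * v1 * r⁻¹) * t⁻¹ = r * (t * v1 * t⁻¹) * r⁻¹ := by
          have h5 := mem_centralizer_iff.1 (hm.comm t htE r hr.1) _ (h.TN r (hE hr.1) _ (h.TN t (hE htE) v1 hv1))
          have h6 : r * (t * v1 * t⁻¹) * r⁻¹ =
              t * r * t⁻¹ * r⁻¹ * (r * (t * v1 * t⁻¹) * r⁻¹) * (t * r * t⁻¹ * r⁻¹)⁻¹ := by rw [← h5]; group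
          rw [h6]; group
        obtain ⟨w, hw, hwb⟩ := h.surj (b • e v0)
        have h5 : r * v1 * r⁻¹ = w * v1 := by
          refine h.ext (h.TN r (hE hr.1) v1 hv1) (mul_mem hw hv1) ?_
          rw [hrb v1 hv1, h.mul w hw v1 hv1, hwb, e0, e1]
          funext i
          fin_cases i <;> simp
        have h6 := congrFun (congrArg e h4) 0
        rw [h5, h.conj_mul (hE htE) hw hv1, Pi.add_apply, hτ b v0 hv0 w hw hwb,
          hrb _ (h.TN t (hE htE) v1 hv1)] at h6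
        have h7 : τ b * a + e (t * v1 * t⁻¹) 0 = e (t * v1 * t⁻¹) 0 + b * d := by
          simpa using h6
        have h8 : τ b * a = b * d := by
          have h9 := h7.trans (add_comm _ _)
          exact add_right_cancel h9
        rw [mul_comm a, h8, mul_comm]
      have h3 : Nat.card X ^ 2 ≤ Nat.card F := by
        rw [sq, ← Nat.card_prod]
        refine Nat.card_le_card_of_injective (fun x : X × X => (x.1 : F) + c * x.2) ?_
        rintro ⟨x, y⟩ ⟨x', y'⟩ hxy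
        have h4 : (x : F) + c * y = x' + c * y' := hxy
        have h5 : (x : F) - x' = c * (y' - y) := by linear_combination h4
        have h6 := hrel _ (X.sub_mem x.2 x'.2)
        have h7 := hrel _ (X.sub_mem y'.2 y.2)
        rw [h5, map_mul] at h6
        have h8 : (τ c - c) * (a * τ ((y' : F) - y)) = 0 := by
          linear_combination h6 - c * h7
        have h9 : τ ((y' : F) - y) = 0 := by
          rcases mul_eq_zero.1 h8 with h9 | h9
          · exact absurd (sub_eq_zero.1 h9) hc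
          · exact (mul_eq_zero.1 h9).resolve_left ha0
        have h10 : (y' : F) - y = 0 := by
          apply τ.injective
          rw [h9, map_zero]
        rw [h10, mul_zero] at h5
        exact Prod.ext (Subtype.ext (sub_eq_zero.1 h5)) (Subtype.ext (sub_eq_zero.1 h10).symm)
      have h4 : (Nat.card X * Nat.card ↥(N ⊓ centralizer (E : Set G))) ^ 2 ≤ Nat.card F ^ 2 := by
        rw [mul_pow, sq (Nat.card F)]
        exact Nat.mul_le_mul h3 h2
      exact (Nat.pow_le_pow_iff_left two_ne_zero).1 h4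
  -- `q > 2`
  have hq : 2 < Nat.card F := by
    have hc0 : c ≠ 0 := fun h0 => hc (by rw [h0, map_zero])
    have hc1 : c ≠ 1 := fun h0 => hc (by rw [h0, map_one])
    have h1 : Nat.card (Fin 3) ≤ Nat.card F := Nat.card_le_card_of_injective ![0, 1, c] (by
      intro i j hij
      fin_cases i <;> fin_cases j <;> simp_all)
    rw [Nat.card_fin] at h1
    exact h1
  have hc0 : 0 < Nat.card ↥(E ⊓ centralizer (N : Set G)) := Nat.card_pos
  rw [h.card_N]
  calc Nat.card E * Nat.card ↥(N ⊓ centralizer (E : Set G))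
      ≤ 2 * (Nat.card ↥(E ⊓ centralizer (N : Set G)) * Nat.card X) * Nat.card ↥(N ⊓ centralizer (E : Set G)) := by
        rw [← hX]; exact Nat.mul_le_mul_right _ hE2
    _ = 2 * Nat.card ↥(E ⊓ centralizer (N : Set G)) *
        (Nat.card X * Nat.card ↥(N ⊓ centralizer (E : Set G))) := by ring
    _ ≤ 2 * Nat.card ↥(E ⊓ centralizer (N : Set G)) * Nat.card F := Nat.mul_le_mul_left _ hkey
    _ = 2 * (Nat.card F * Nat.card ↥(E ⊓ centralizer (N : Set G))) := by ring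
    _ < Nat.card F * (Nat.card F * Nat.card ↥(E ⊓ centralizer (N : Set G))) := by
        refine Nat.mul_lt_mul_of_pos_right hq ?_
        exact Nat.mul_pos (by omega) hc0
    _ = Nat.card F ^ 2 * Nat.card ↥(E ⊓ centralizer (N : Set G)) := by ring

/-- **No over-offender on `N`.** -/
theorem no [Finite G] [Finite F] {E : Subgroup G} (hE : E ≤ T) (hm : ElemM N E) (hne : ¬ E ≤ centralizer (N : Set G)) :
    Nat.card E * Nat.card ↥(N ⊓ centralizer (E : Set G)) ≤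
      Nat.card N * Nat.card ↥(E ⊓ centralizer (N : Set G)) := by
  by_cases hl : ∀ t ∈ E, h.Lin t
  · obtain ⟨X, hX, hX1, hX2⟩ := h.card_lin hE hm
    have h1 : h.lin E hE = E := le_antisymm (fun t ht => ht.1) fun t ht => ⟨ht, hl t ht⟩
    rw [h1] at hX
    obtain ⟨t, ht, htn⟩ := SetLike.not_le_iff_exists.1 hne
    obtain ⟨b, hb, hbt⟩ := hX2 t ⟨ht, hl t ht⟩
    have hb0 : b ≠ 0 := by
      rintro rfl
      refine htn (mem_centralizer_iff.2 fun v hv => ?_)
      have h2 := hbt v hv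
      rw [zero_mul, add_zero] at h2
      have h3 := h.ext (h.TN _ (hE ht) v hv) hv (h2.trans (by funext i; fin_cases i <;> rfl))
      exact (mul_inv_eq_iff_eq_mul.1 h3).symm
    have h2 := Subgroup.card_le_of_le (h.cent_le_Z ht hb0 hbt)
    rw [h.card_Z] at h2
    have h3 : Nat.card X ≤ Nat.card F := Nat.card_le_card_of_injective (fun x : X => (x : F)) Subtype.val_injective
    rw [hX, h.card_N]
    calc _ ≤ Nat.card ↥(E ⊓ centralizer (N : Set G)) * Nat.card F * Nat.card F :=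
          Nat.mul_le_mul (Nat.mul_le_mul_left _ h3) h2
      _ = _ := by ring
  · push Not at hl
    obtain ⟨t, ht, htl⟩ := hl
    exact (h.lt_of_nonlin hE hm ht htl).le

/-- **An offender is the full root group.** -/
theorem full [Finite G] [Finite F] {E : Subgroup G} (hE : E ≤ T) (ho : OffM N E) :
    (∀ t ∈ E, ∃ b : F, ∀ v ∈ N, e (t * v * t⁻¹) = ![e v 0 + b * e v 1, e v 1]) ∧
      ∀ b : F, ∃ t ∈ E, ∀ v ∈ N, e (t * v * t⁻¹) = ![e v 0 + b * e v 1, e v 1] := by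
  by_cases hl : ∀ t ∈ E, h.Lin t
  · obtain ⟨X, hX, hX1, hX2⟩ := h.card_lin hE ho.toElemM
    have h1 : h.lin E hE = E := le_antisymm (fun t ht => ht.1) fun t ht => ⟨ht, hl t ht⟩
    rw [h1] at hX
    obtain ⟨t, ht, htn⟩ := SetLike.not_le_iff_exists.1 ho.ne
    obtain ⟨b, hb, hbt⟩ := hX2 t ⟨ht, hl t ht⟩
    have hb0 : b ≠ 0 := by
      rintro rfl
      refine htn (mem_centralizer_iff.2 fun v hv => ?_)
      have h2 := hbt v hv
      rw [zero_mul, add_zero] at h2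
      have h3 := h.ext (h.TN _ (hE ht) v hv) hv (h2.trans (by funext i; fin_cases i <;> rfl))
      exact (mul_inv_eq_iff_eq_mul.1 h3).symm
    have h2 := Subgroup.card_le_of_le (h.cent_le_Z ht hb0 hbt)
    rw [h.card_Z] at h2
    have h3 := ho.le
    rw [hX, h.card_N] at h3
    have hc0 : 0 < Nat.card ↥(E ⊓ centralizer (N : Set G)) := Nat.card_pos
    have hF0 : 0 < Nat.card F := Nat.card_pos
    have h4 : Nat.card F ≤ Nat.card X := by
      have h5 : Nat.card F * (Nat.card F * Nat.card ↥(E ⊓ centralizer (N : Set G))) ≤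
          Nat.card X * (Nat.card F * Nat.card ↥(E ⊓ centralizer (N : Set G))) := by
        calc _ = Nat.card F ^ 2 * Nat.card ↥(E ⊓ centralizer (N : Set G)) := by ring
          _ ≤ _ := h3
          _ ≤ Nat.card ↥(E ⊓ centralizer (N : Set G)) * Nat.card X * Nat.card F := Nat.mul_le_mul_left _ h2
          _ = _ := by ring
      exact Nat.le_of_mul_le_mul_right h5 (Nat.mul_pos hF0 hc0)
    have hXt : X = ⊤ := AddSubgroup.eq_top_of_le_card X h4
    refine ⟨fun t ht => ?_, fun b => ?_⟩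
    · obtain ⟨b, -, hb⟩ := hX2 t ⟨ht, hl t ht⟩
      exact ⟨b, hb⟩
    · obtain ⟨t, ht, hb⟩ := hX1 b (hXt ▸ AddSubgroup.mem_top b)
      exact ⟨t, ht.1, hb⟩
  · push Not at hl
    obtain ⟨t, ht, htl⟩ := hl
    exact absurd ho.le (not_le.2 (h.lt_of_nonlin hE ho.toElemM ht htl))

/-- `C_N(E) = Z` for an offender `E`. -/
theorem cent_eq [Finite G] [Finite F] {E : Subgroup G} (hE : E ≤ T) (ho : OffM N E) :
    N ⊓ centralizer (E : Set G) = Z := by
  obtain ⟨h1, h2⟩ := h.full hE ho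
  refine le_antisymm ?_ fun v hv => ⟨h.ZN hv, ?_⟩
  · obtain ⟨t, ht, hb⟩ := h2 1
    exact h.cent_le_Z ht one_ne_zero hb
  · refine mem_centralizer_iff.2 fun t ht => ?_
    obtain ⟨b, hb⟩ := h1 t ht
    have hv' := (h.memZ v).1 hv
    have h3 := hb v hv'.1
    rw [hv'.2, mul_zero, add_zero] at h3
    have h4 := h.ext (h.TN t (hE ht) v hv'.1) hv'.1 (h3.trans (by
      funext i
      fin_cases i
      · rfl
      · exact hv'.2.symm))
    exact mul_inv_eq_iff_eq_mul.1 h4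

/-- `[N, E] = Z` for an offender `E` (the generation). -/
theorem comm [Finite G] [Finite F] {E : Subgroup G} (hE : E ≤ T) (ho : OffM N E) :
    (∀ t ∈ E, ∀ v ∈ N, t * v * t⁻¹ * v⁻¹ ∈ Z) ∧
      ∀ v ∈ N, v ∉ Z → ∀ z ∈ Z, ∃ t ∈ E, t * v * t⁻¹ * v⁻¹ = z := by
  obtain ⟨h1, h2⟩ := h.full hE ho
  refine ⟨fun t ht v hv => ?_, fun v hv hvZ z hz => ?_⟩
  · obtain ⟨b, hb⟩ := h1 t ht
    have h3 := h.TN t (hE ht) v hv
    refine (h.memZ _).2 ⟨mul_mem h3 (inv_mem hv), ?_⟩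
    rw [h.mul _ h3 _ (inv_mem hv), h.e_inv hv, hb v hv]
    simp
  · have hv1 : e v 1 ≠ 0 := fun h0 => hvZ ((h.memZ v).2 ⟨hv, h0⟩)
    obtain ⟨t, ht, hb⟩ := h2 (e z 0 * (e v 1)⁻¹)
    refine ⟨t, ht, ?_⟩
    have h3 := h.TN t (hE ht) v hv
    refine h.ext (mul_mem h3 (inv_mem hv)) (h.ZN hz) ?_
    rw [h.mul _ h3 _ (inv_mem hv), h.e_inv hv, hb v hv]
    funext i
    fin_cases i
    · simp [inv_mul_cancel₀ hv1, mul_assoc]
    · have h4 := ((h.memZ z).1 hz).2
      simp [h4]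

end NatT

end Cfsg.Agent.Omega.CaseLQ

end

section


/-!
# A subgroup of `S` outside `O₂(P)` moves `V_j` after conjugation in `S`

`Bg S P B ZJ L W Z C q` (several blocks).

* `le_Q_of` : a subgroup of `S` which centralises all `W l` lies in `O₂(P)`;
* `hN_of` : **`A ≤ S`, `A ≰ O₂(P)` : some `cj s A`, `s ∈ S`, moves `W j`**.
-/

set_option autoImplicit false
set_option linter.unusedSectionVars false

namespace Cfsg.Agent.Omega.CaseLQ.TwoN

open Subgroup Cfsg Cfsg.Agent.ZN Cfsg.Agent.ZN.ChoiceBase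
open Cfsg.Agent.Omega.OM
open Cfsg.Agent.Omega.NO3S.EThree.Frame (Bg Fg)
open Cfsg.Agent.Omega.CaseLQ.Psi

universe u

variable {G : Type u} [Group G] [Finite G] {S : Sylow 2 G} {P B ZJ : Subgroup G} {ι : Type}
  {L W Z C : ι → Subgroup G} {q : ℕ} (h : Bg S P B ZJ L W Z C q)
include h

theorem W_inj {i m : ι} (e : W i = W m) : i = m := by
  by_contra hne
  obtain ⟨v, hv, hvZ⟩ := exists_v h i
  have h1 : v ∈ C i := h.fr.WjC i m hne (e ▸ hv)
  have h2 : v ∈ W i ⊓ C i := ⟨hv, h1⟩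
  rw [h.fr.dir i, mem_bot] at h2
  exact hvZ (h2 ▸ one_mem _)

/-- a subgroup of `S` which centralises all `W l` lies in `O₂(P)` -/
theorem le_Q_of {A : Subgroup G} (hA : A ≤ (S : Subgroup G)) (hc : ∀ l, A ≤ centralizer (W l : Set G)) :
    A ≤ o2 P := by
  have hSP : (S : Subgroup G) ≤ P := h.hyp.toHyp.star.isLoc.le
  have hcV : A ≤ centralizer (zl (S : Subgroup G) P : Set G) := by
    intro a ha
    rw [mem_centralizer_iff]
    intro v hv
    obtain ⟨σ, hσ⟩ := h.perm a (hSP (hA ha))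
    have hW : ∀ i, cj a (W i) = W i := by
      intro i
      have h1 : a ∈ centralizer (W i : Set G) := hc i ha
      exact cj_eq_of_mem_normalizer (centralizer_le_normalizer _ h1)
    have hσi : ∀ i, σ i = i := fun i => W_inj h ((hσ i).1.symm.trans (hW i))
    have hC : ∀ i, cj a (C i) = C i := fun i => by
      have h1 := (hσ i).2
      rwa [hσi i] at h1
    have key : a * v * a⁻¹ * v⁻¹ = 1 := by
      have hVn : a * v * a⁻¹ ∈ zl (S : Subgroup G) P := by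
        have h1 := MinSimple.VModule.le_normalizer_zl (S : Subgroup G) P (hSP (hA ha))
        exact (mem_normalizer_iff.1 h1 v).1 hv
      refine h.fr.C0 _ (mul_mem hVn (inv_mem hv)) fun i => ?_
      obtain ⟨w, hw, c, hc', rfl⟩ := h.fr.WC i v hv
      have haw : w * a = a * w := mem_centralizer_iff.1 (hc i ha) w hw
      have hac : a * c * a⁻¹ ∈ C i := by
        rw [← hC i]
        exact ⟨c, hc', rfl⟩
      have hwV := h.fr.WV i hw
      have hcV := h.fr.CV i hc'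
      have hacV := h.fr.CV i hac
      have e1 : a * (w * c) * a⁻¹ * (w * c)⁻¹ = (a * w * a⁻¹) * (a * c * a⁻¹) * c⁻¹ * w⁻¹ := by group
      have e2 : a * w * a⁻¹ = w := by rw [← haw, mul_inv_cancel_right]
      have e3 : w * (a * c * a⁻¹) * c⁻¹ * w⁻¹ = (a * c * a⁻¹) * c⁻¹ := by
        rw [h.fr.Vc hwV hacV]
        have e4 : a * c * a⁻¹ * w * c⁻¹ * w⁻¹ = a * c * a⁻¹ * (w * c⁻¹) * w⁻¹ := by group
        rw [e4, h.fr.Vc hwV (inv_mem hcV)]
        group
      rw [e1, e2, e3]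
      exact mul_mem hac (inv_mem hc')
    have h2 : a * v * a⁻¹ = v := mul_inv_eq_one.1 key
    exact (mul_inv_eq_iff_eq_mul.1 h2).symm
  intro a ha
  have haB : a ∈ B := h.cent_le ⟨hA ha, hcV ha⟩
  exact (h.fr.mem_Q a haB).2 fun v hv => (mem_centralizer_iff.1 (hcV ha) v hv).symm

/-- **`A ≤ S`, `A ≰ O₂(P)` : some conjugate under `S` moves `W j`.** -/
theorem hN_of (j : ι) {A : Subgroup G} (hA : A ≤ (S : Subgroup G)) (hP : ¬ A ≤ o2 P) :
    ∃ s ∈ (S : Subgroup G), ¬ cj s A ≤ centralizer (W j : Set G) := by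
  by_contra hcon
  push Not at hcon
  refine hP (le_Q_of h hA fun l => ?_)
  obtain ⟨s, hs, e⟩ := h.trans l j
  have h1 := hcon s hs
  rw [← e, ← cj_centralizer, cj_le_iff, cj_inv_cj] at h1
  exact h1

end Cfsg.Agent.Omega.CaseLQ.TwoN

end

section


/-!
# NoW+, `q ≥ 3`, step (ii): the pointwise form of `psi_false` (helper509 #25180)

* `exists_ybp` : as `YBX.exists_ybx`, with an index `l` such that `z ∈ Ω₁Z(T) ∩ N l` implies `z ∈ C(H)`;
* **`psi_false_pt`** : as `PsiYB.psi_false`, with the input "some `z ∈ Z_j ∩ Ω₁Z(T)` is moved by `Y`" instead of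
  `Y ≤ C(Λ)`, `Ω₁Z(T) ≤ Λ Z_j`.
-/

set_option autoImplicit false
set_option linter.unusedSectionVars false

namespace Cfsg.Agent.Omega.CaseLQ.PsiPt

open Subgroup Cfsg Cfsg.Agent.ZN Cfsg.Agent.ZN.ChoiceBase Cfsg.Agent.ZN.ChoiceSit
open Cfsg.Agent.Omega.SQ1.FFOne (MinH)
open Cfsg.Agent.Omega.NO3S.OneLine (NatC natC_of BFam)
open Cfsg.Agent.Omega.OM.Lev.Nat (Wn mem_Wn Xn mem_Xn ap_z exists_up)
open Cfsg.Agent.Omega.OM
open Cfsg.Agent.Omega.OM.GNat (sl2_all exists_root cent_N)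
open Cfsg.Agent.Omega.OM.GLev
open Cfsg.Agent.Omega.OM.Lev.Low
open Cfsg.Agent.Omega.FFThm (NatK NatKM SymKM ActsSL OffM StmtM)
open Cfsg.Agent.Omega.SQ1.Bau (elem_comm elem_sq)
open Cfsg.Agent.Omega.FrameFF (cv)
open Cfsg.Agent.Omega.NO3S.CaseLW.YBX
open Cfsg.Agent.Omega.NO3S.EThree.Frame (Bg Fg)
open Cfsg.Agent.Omega.NO3S.RedC (MaxMin)
open Cfsg.Agent.MinSimple.MinParabolic (IsMinPar)
open Cfsg.Agent.Omega.CaseLQ.Psi Cfsg.Agent.Omega.CaseLQ.PsiYB

universe u w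

variable {G : Type u} [Group G] [Finite G] {T H X : Subgroup G} {AA : Set (Subgroup G)}

namespace Nat

variable {F : Type} [Field F] [Finite F] [CharP F 2] {k : ℕ}

/-- **`YB` on `C_X(⟨AA⟩)`, natural type, pointwise.** -/
theorem exists_ybp (h : GE T H X AA) (N : NatKM F T H (zl T H) (cv T H) k) (hk : 0 < k)
    (hex : ∃ A ∈ AA, ¬ A ≤ o2 H) (hZ : ¬ H ≤ centralizer (zc T : Set G)) :
    ∃ Ni c : Fin k → Subgroup G, Concl T H X AA Ni c ∧
      ∃ l, ∀ z ∈ zc T, z ∈ Ni l → z ∈ centralizer (H : Set G) := by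
  classical
  set M := natC_of h.hm hk N.toNatK with hM
  obtain ⟨A, hA, hAQ⟩ := hex
  obtain ⟨j, hroot⟩ := exists_root h N hk hA hAQ
  obtain ⟨L, hL, hsup, hgen⟩ := Nat.ld_of_root h N hk hA hroot
  have main : ∀ c : Fin k → Subgroup G, Co M c → YB T (Xc X AA) (Ni M (Xc X AA) L j) c := fun c hc =>
    hL.yb_aux hc fun i s hs t ht hsm htm => cyc_line h.hm N hk hs hsm ht htm
  have hpt : ∀ z ∈ zc T, z ∈ Ni M (Xc X AA) L j j → z ∈ centralizer (H : Set G) := by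
    intro z hz hzN
    have h0 : H ≤ centralizer ({z} : Set G) := by
      refine hsup.trans (sup_le ?_ ?_)
      · intro t ht
        rw [mem_centralizer_singleton_iff]
        exact (ChoiceBase.mem_zc.1 hz).2.2 t ht
      · intro l hl
        rw [mem_centralizer_singleton_iff]
        have h1 := (mem_Ni.1 hzN).2 1 (one_mem _) (MvI.one j) l hl
        simp only [inv_one, one_mul, mul_one] at h1
        exact h1
    exact mem_centralizer_iff.2 fun y hy => mem_centralizer_singleton_iff.1 (h0 hy)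
  have h2 : ∃ i, ¬ zc T ≤ Ni M (Xc X AA) L j i := by
    refine ⟨j, fun hcon => hZ fun y hy => mem_centralizer_iff.2 fun z hz => ?_⟩
    exact (mem_centralizer_iff.1 (hpt z hz (hcon hz)) y hy).symm
  have h3 : ∀ x ∈ Xc X AA, (∀ y ∈ H, cj y (sSup AA) ≤ centralizer ({x} : Set G)) → ∀ i, x ∈ Ni M (Xc X AA) L j i := by
    intro x hx hxc i
    refine mem_Ni.2 ⟨hx, fun t ht _ l hl => ?_⟩
    have h1 := hgen (centralizer ({t⁻¹ * x * t} : Set G)) fun y hy => ?_
    · exact mem_centralizer_singleton_iff.1 (h1 hl)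
    · rintro _ ⟨b, hb, rfl⟩
      rw [mem_centralizer_singleton_iff]
      have h2 := mem_centralizer_singleton_iff.1 (hxc (t * y) (mul_mem (h.TH ht) hy) ⟨b, hb, rfl⟩)
      have h2' : t * y * b * (t * y)⁻¹ * x = x * (t * y * b * (t * y)⁻¹) := h2
      have h4 := congrArg (fun z => t⁻¹ * z * t) h2'
      show y * b * y⁻¹ * (t⁻¹ * x * t) = t⁻¹ * x * t * (y * b * y⁻¹)
      simpa [mul_assoc] using h4
  by_cases hF : ∀ x : F, x = 0 ∨ x = 1
  · have hc := hL.co_two hF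
    refine ⟨_, _, ⟨main _ hc, h2, fun x hx hxc => h3 x (Xc_of hx hxc) (le_of hxc),
      fun A hA v hv z _ a haA => ?_⟩, j, hpt⟩
    have ha : a ∈ sSup AA := (le_sSup hA : A ≤ sSup AA) haA
    have hJV : ∀ a ∈ sSup AA, ∀ v ∈ zl T H, a * v * a⁻¹ ∈ zl T H := fun a ha v hv => M.Vn a (hL.TH (hL.BT ha)) v hv
    have hD : cv T H ≤ Nat.comS (zl T H) (sSup AA) (YB.Cp (fun i => closure {x | ∃ b ∈ sSup AA, ∃ w ∈ Wn M i,
        x = b * w * b⁻¹ * w⁻¹}) Set.univ) (fun x hx y hy => M.Vcomm hx hy) hJV := fun d hd =>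
      ⟨M.DV hd, fun a ha => by rw [Xc_comm (hL.DZ hd) ha, mul_inv_cancel_right, mul_inv_cancel]; exact one_mem _⟩
    exact (Nat.mem_of_comp M hD hv fun i u hu _ => ⟨hu.1, fun a ha =>
      YB.le_Cp (Set.mem_univ i) (subset_closure ⟨a, ha, u, hu, rfl⟩)⟩).2 a ha
  · push Not at hF
    obtain ⟨x, hx0, hx1⟩ := hF
    exact ⟨_, _, ⟨main _ (hL.co_tor hx0 hx1), h2, fun x hx hxc => h3 x (Xc_of hx hxc) (le_of hxc),
      fun A hA v hv z hz a ha => by
        rw [Nat.cent_of_two h N hk hx0 hx1 hA hv hz a ha]; exact one_mem _⟩, j, hpt⟩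

end Nat

namespace Sym

open Cfsg.Agent.Omega.OM.Lev.SIn
open Cfsg.Agent.Omega.SQ1.BauS (Sim)

variable {k m : ℕ}

/-- **`YB` on `C_X(⟨AA⟩)`, symmetric type, pointwise.** -/
theorem exists_ybp (h : GE T H X AA) (hXT : X ≤ T) (N : SymKM T H (zl T H) (cv T H) k m) (hk : 0 < k) (hm : 1 ≤ m)
    (hex : ∃ A ∈ AA, ¬ A ≤ o2 H) (hZ : ¬ H ≤ centralizer (zc T : Set G)) :
    ∃ (ι : Type) (_ : Finite ι) (Ni c : ι → Subgroup G), Concl T H X AA Ni c ∧
      ∃ l, ∀ z ∈ zc T, z ∈ Ni l → z ∈ centralizer (H : Set G) := by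
  have h0 := OM.Lev.Sym.syL_gen (Jg := sSup AA) h.hm hk hm N SQ1.FFOf.cv_le SQ1.FFOf.cv_norm h.fam.le
    (fun A hA hAQ => h.offM hA hAQ) hex (sSup_le h.fam.le) (OM.GSym.T_norm_AA h) (fun A hA => le_sSup hA) le_sup_left
  obtain ⟨ι, J, U, Y, t, r, c⟩ := h0.exists_ch
  obtain ⟨j, x, y, hTr⟩ := h0.exists_tr
  obtain ⟨i, -⟩ := c.ex j x y hTr
  have hin := Sym.in_of h hXT i (c.main h0 Cfsg.Agent.Omega.SQ1.SymCyc.exists_pow)
  have hp := c.permR h0
  obtain ⟨K, hK, hKc⟩ := hin.exists_blks hp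
  have hsup := ((hK i).sup_T hin le_sup_left le_sup_right : H ≤ T ⊔ K i)
  refine ⟨ι, hin.finite_index, _, _, ⟨YSym.yb hin hK hKc, ⟨i, fun hle => hZ ?_⟩, fun x hx hxc l => ?_,
    fun A hA v hv z _ a ha => Sym.comm_J hin ((le_sSup hA : A ≤ sSup AA) ha) hv⟩, i, fun z hz hzN => ?_⟩
  · exact hsup.trans
      (sup_le (NO3S.Level.le_centralizer_zc T) (le_centralizer_iff.1 hle))
  · have hxX := Xc_of hx hxc
    have hxj := le_of hxc
    obtain ⟨y, hy, hym⟩ := (hK l).mv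
    have h1 : K l ≤ centralizer ({x} : Set G) := by
      refine (hK l).gen_left hin hy hym (hin.t_bau l) (hin.t_not_QQ l) (fun b hb => ?_) ?_
      · exact mem_centralizer_singleton_iff.2 ((mem_BB.1 hb).2 x hxX).symm
      · exact hxj y ((hK l).LH hin hy) ⟨_, hin.tJ l, rfl⟩
    exact mem_centralizer_iff.2 fun z hz => mem_centralizer_singleton_iff.1 (h1 hz)
  · have h1 : H ≤ centralizer ({z} : Set G) := by
      refine hsup.trans (sup_le ?_ ?_)
      · intro t ht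
        rw [mem_centralizer_singleton_iff]
        exact (ChoiceBase.mem_zc.1 hz).2.2 t ht
      · intro l hl
        rw [mem_centralizer_singleton_iff]
        exact mem_centralizer_iff.1 hzN l hl
    exact mem_centralizer_iff.2 fun y hy => mem_centralizer_singleton_iff.1 (h1 hy)

end Sym

/-- **`YB` on `C_X(⟨AA⟩)`, pointwise.** -/
theorem exists_ybp (h : GE T H X AA) (hXT : X ≤ T) (hN : FFThm.ConclM T H) (hex : ∃ A ∈ AA, ¬ A ≤ o2 H)
    (hZ : ¬ H ≤ centralizer (zc T : Set G)) :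
    ∃ (ι : Type) (_ : Finite ι) (Ni c : ι → Subgroup G), Concl T H X AA Ni c ∧
      ∃ l, ∀ z ∈ zc T, z ∈ Ni l → z ∈ centralizer (H : Set G) := by
  rcases hN with ⟨F, _, _, _, k, hk, ⟨N⟩⟩ | ⟨k, m, hk, hm, ⟨N⟩⟩
  · obtain ⟨Ni, c, hc⟩ := Nat.exists_ybp h N hk hex hZ
    exact ⟨Fin k, inferInstance, Ni, c, hc⟩
  · exact Sym.exists_ybp h hXT N hk (by omega) hex hZ

/-- the blocks of `Y` on `C_U(⟨Fam⟩)`, pointwise -/
theorem exists_conclp {U Y : Subgroup G} (s : YS U H T Y) (hFF : StmtM.{u})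
    (hex : ∃ E, E ≤ T ∧ MaxMin U H E ∧ ¬ E ≤ o2 Y) :
    GE T Y U (Fam U H T) ∧ ∃ (ι : Type) (_ : Finite ι) (Ni c : ι → Subgroup G), Concl T Y U (Fam U H T) Ni c ∧
      ∃ l, ∀ z ∈ zc T, z ∈ Ni l → z ∈ centralizer (Y : Set G) := by
  obtain ⟨E, hET, hE, hEY⟩ := hex
  have hfam := bfam (U := U) (H := H) (T := T) (s.TY.trans s.YH)
  have hEF : E ∈ Fam U H T := ⟨hET, Or.inl hE⟩
  have hne : ¬ E ≤ centralizer (zl T Y : Set G) := fun h => hEY ((le_inf hET h).trans s.cap)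
  obtain ⟨noV, con⟩ := hFF G T Y s.syl s.min s.c2
    ⟨E, hET.trans s.TY, NO3S.OneLine.BFam.offM hfam s.U_mul s.VU hEF hne⟩
  have ge : GE T Y U (Fam U H T) :=
    { hm := s.hm
      fam := hfam
      elem := Cfsg.Agent.PLocal.ThompsonJ.isElementaryAbelian_iff.2 ⟨s.U_mul, s.Us⟩
      norm := s.YH.trans s.HU
      VX := s.VU
      QC := s.cap
      noOver := noV }
  exact ⟨ge, exists_ybp ge s.UT con ⟨E, hEF, hEY⟩ s.mv⟩

/-- **NoW+, `q ≥ 3`, step (ii)**: if all maximal offenders of least rank `≤ T` centralise `W j`, one of them is not in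
`O₂(Y)`, and `Y` moves an element of `Z_j ∩ Ω₁Z(T)`: contradiction. -/
theorem psi_false_pt {S : Sylow 2 G} {P B ZJ : Subgroup G} {ι : Type} {L W Z C : ι → Subgroup G} {q : ℕ}
    (h : Bg S P B ZJ L W Z C q) {j : ι} (hq : 3 ≤ q) {U Y : Subgroup G} (s : YS U H T Y) (hFF : StmtM.{u})
    (BT : B ≤ T) (TS : T ≤ (S : Subgroup G)) (WU : W j ≤ U)
    (CQ : U ⊓ centralizer (o2 P : Set G) ≤ zl (S : Subgroup G) P)
    (cen : ∀ E ≤ T, MaxMin U H E → E ≤ centralizer (W j : Set G))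
    (hex : ∃ E, E ≤ T ∧ MaxMin U H E ∧ ¬ E ≤ o2 Y)
    (hz : ∃ z ∈ Z j, z ∈ zc T ∧ z ∉ centralizer (Y : Set G)) : False := by
  obtain ⟨ge, κ, _, Ni, c, hc, l, hl⟩ := exists_conclp s hFF hex
  have WX : W j ≤ Xc U (Fam U H T) := by
    intro w hw
    refine mem_Xc.2 ⟨WU hw, fun A hA a ha => ?_⟩
    rcases hA.2 with h1 | h1
    · exact ((mem_centralizer_iff.1 (cen A hA.1 h1 ha)) w hw).symm
    · exact ((mem_centralizer_iff.1 (h1 ha)) w (WU hw)).symm
  obtain ⟨z, hz, hzT, hzY⟩ := hz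
  have nZ : ∃ i, ¬ Z j ≤ Ni i := ⟨l, fun hZ => hzY (hl z hzT (hZ hz))⟩
  exact (frN_of_yb h hq BT TS hc.yb WX ((inf_le_inf_right _ (Xc_le _ _)).trans CQ) nZ).false

end Cfsg.Agent.Omega.CaseLQ.PsiPt

end
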