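import Cfsg.Agent.Mrg.Omega.CaseLQ.PartI
import Cfsg.Agent.Mrg.Omega.NO3S.OneLine.Nat
import Cfsg.Agent.Mrg.Omega.NO3S.OneLine.Sym
import Cfsg.Agent.Mrg.Omega.SQ1.FFKNat
import Cfsg.Agent.Mrg.Omega.NO3S.WY.Tor.Frame
import Cfsg.Agent.Omega.CaseLQ.Psi

section


/-!
# CaseL, weird `Y`, (i2): the hypothesis `oneY` of `PartI.lean` from the FF theorem for `Y`

`T` a Sylow 2-subgroup of the minimal parabolic `Y` of characteristic 2, `V = ⟨Ω₁(Z(T))^Y⟩ ≤ U`; `E ≤ T` a maximal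
offender of least rank on `U` (`MaxMin U H E`) with `[U, E] = Z`, `Z` normalised by `T`, `E ≰ O₂(Y)`; `Q ≤ T` centralises
`Z`, `Q ≰ O₂(Y)`.

* `OY H U T Q Z Y E` : this situation;
* `OY.oneY`, `oneY_of` : `1 ≠ [u, c] ∈ Z` for some `c ∈ Q`, `u ∈ U`.
-/

set_option autoImplicit false
set_option linter.unusedSectionVars false

namespace Cfsg.Agent.Omega.CaseLQ

open Subgroup Cfsg Cfsg.Agent.ZN Cfsg.Agent.ZN.ChoiceBase
open Cfsg.Agent.ZN.ChoiceSit (Syl)
open Cfsg.Agent.MinSimple.MinParabolic (IsMinPar)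
open Cfsg.Agent.MinSimple.VModule (oddGen oddGen_le mem_oddGen)
open Cfsg.Agent.Omega.FFThm (OffM ElemM NoOverM NatK NatKM SymKM ActsSL ActsSym StmtM)
open Cfsg.Agent.Omega.FrameFF (cv)
open Cfsg.Agent.Omega.NO3S.RedC (MaxMin)
open Cfsg.Agent.Omega.NO3S.Level (MinOff)
open Cfsg.Agent.Omega.NO3b.EZero (cl cj_le_cl le_cl cl_le le_normalizer_cl cent_symm cj_cent)
open Cfsg.Agent.Omega.NO3b.K0 (conj_mem' cj_of_le cj_self min_or)
open Cfsg.Agent.Omega.NO3S.NotFF (le_normalizer_of_forall)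
open Cfsg.Agent.Omega.SQ1.Bau (mem_sup_comm card_sup_comm mem_sup_norm)
open Cfsg.Agent.Omega.SQ1.FFOne (MinH)
open Cfsg.Agent.Omega.NO3S.Fld (kmod mem_kmod norm_kmod kmod_le relIndex_mul_card relIndex_le_of_map relIndex_mul_of)
open Cfsg.Agent.Omega.NatPair (ap ap_zero' ap_one' ap_one ap_mul ap_add ext2 ap_inv_ap ap_inj)
open Cfsg.Agent.Omega.NO3S.OneLine (NatC natC_of)
open Cfsg.Agent.Lib.SL2Mat

universe u

/-! ### Additive maps of `F²` -/

section lin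

variable {F : Type*} [Field F]

/-- An additive map of `F²` which fixes the line `{(x, 0)}` pointwise, normalises `SL₂(F)` and has 2-power order
(copy of `NOThreeL/RA/FromNat.lean`). -/
theorem exists_up_of_fix [CharP F 2] (φ : (Fin 2 → F) → Fin 2 → F) (hadd : ∀ x y, φ (x + y) = φ x + φ y)
    (hfix : ∀ x : F, φ ![x, 0] = ![x, 0])
    (hnorm : ∀ A : Matrix.SpecialLinearGroup (Fin 2) F, ∃ B : Matrix.SpecialLinearGroup (Fin 2) F,
      ∀ x, φ (ap A x) = ap B (φ x))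
    (h2 : ∃ n : ℕ, ∀ x, φ^[2 ^ n] x = x) : ∃ b, ∀ x, φ x = ap (up b) x := by
  -- the second coordinate
  obtain ⟨B, hB⟩ := hnorm (up 1)
  have hup0 : ∀ (b : F) (x : Fin 2 → F), ap (up b) x 0 = x 0 + b * x 1 := by
    intro b x
    rw [ap_zero', up_00, up_01, one_mul]
  have hup1 : ∀ (b : F) (x : Fin 2 → F), ap (up b) x 1 = x 1 := by
    intro b x
    rw [ap_one', up_10, up_11, zero_mul, one_mul, zero_add]
  have hB1 : ap B ![1, 0] = ![1, 0] := by
    have h := hB ![1, 0]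
    rw [hfix] at h
    rw [← h]
    have h3 : ap (up (1 : F)) ![1, 0] = ![1, 0] := by
      apply ext2
      · rw [hup0]; simp
      · rw [hup1]
    rw [h3, hfix]
  have hB00 : ent B 0 0 = 1 := by
    have h := congrFun hB1 0
    rw [ap_zero'] at h
    simpa using h
  have h1 : ∀ x, x 1 = ent B 0 1 * φ x 1 := by
    intro x
    have h := congrFun (hB x) 0
    have h3 : ap (up (1 : F)) x = x + ![x 1, 0] := by
      apply ext2
      · rw [hup0, one_mul]; rfl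
      · rw [hup1]; simp
    rw [h3, hadd, hfix, ap_zero', hB00, one_mul] at h
    change φ x 0 + x 1 = _ at h
    exact add_left_cancel h
  have hne : ent B 0 1 ≠ 0 := by
    intro h
    have h3 := h1 ![0, 1]
    rw [h, zero_mul] at h3
    exact one_ne_zero h3
  set d := (ent B 0 1)⁻¹ with hd
  have h3 : ∀ x, φ x 1 = d * x 1 := by
    intro x
    rw [h1 x, hd, inv_mul_cancel_left₀ hne]
  have h4 : ∀ n : ℕ, ∀ x, φ^[n] x 1 = d ^ n * x 1 := by
    intro n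
    induction n with
    | zero => intro x; simp
    | succ n ih =>
      intro x
      rw [Function.iterate_succ_apply', h3, ih x, pow_succ]
      ring
  have hd1 : d = 1 := by
    obtain ⟨n, hn⟩ := h2
    have h5 := h4 (2 ^ n) ![0, 1]
    rw [hn] at h5
    have h6 : d ^ 2 ^ n = 1 := by simpa using h5.symm
    have h7 : (d - 1) ^ 2 ^ n = 0 := by
      rw [sub_pow_char_pow, one_pow, h6, sub_self]
    have h8 := eq_zero_of_pow_eq_zero h7
    exact sub_eq_zero.mp h8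
  have h5 : ∀ x, φ x 1 = x 1 := fun x => by rw [h3, hd1, one_mul]
  -- the first coordinate
  obtain ⟨C, hC⟩ := hnorm (lo 1)
  have h6 : ∀ x : F, φ ![0, x] 0 = (ent C 0 0 - 1) * x := by
    intro x
    have h := congrFun (hC ![x, 0]) 0
    have h7 : ap (lo (1 : F)) ![x, 0] = ![x, 0] + ![0, x] := by
      apply ext2
      · rw [ap_zero', lo_00, lo_01]; simp
      · rw [ap_one', lo_10, lo_11]; simp
    rw [h7, hadd, hfix, ap_zero'] at h
    change x + φ ![0, x] 0 = ent C 0 0 * x + ent C 0 1 * 0 at h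
    rw [mul_zero, add_zero] at h
    rw [sub_mul, one_mul, ← h, add_sub_cancel_left]
  refine ⟨ent C 0 0 - 1, fun x => ?_⟩
  have h7 : x = ![x 0, 0] + ![0, x 1] := by
    apply ext2
    · simp
    · simp
  apply ext2
  · rw [hup0]
    conv_lhs => rw [h7]
    rw [hadd, hfix]
    change x 0 + φ ![0, x 1] 0 = _
    rw [h6]
  · rw [hup1, h5]

end lin

variable {G : Type u} [Group G] [Finite G] {H U T Q Z Y E V D : Subgroup G}

/-- **The situation** of (i2). -/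
structure OY (H U T Q Z Y E : Subgroup G) : Prop where
  Uc : U ≤ centralizer (U : Set G)
  Us : ∀ u ∈ U, u ^ 2 = 1
  HU : H ≤ normalizer (U : Set G)
  syl : Syl T Y
  min : IsMinPar T Y
  c2 : Y ⊓ centralizer (o2 Y : Set G) ≤ o2 Y
  mv : ¬ Y ≤ centralizer (zc T : Set G)
  YH : Y ≤ H
  VU : zl T Y ≤ U
  QT : Q ≤ T
  QZ : Q ≤ centralizer (Z : Set G)
  QY : ¬ Q ≤ o2 Y
  TZ : T ≤ normalizer (Z : Set G)
  ET : E ≤ T
  m : MaxMin U H E
  EY : ¬ E ≤ o2 Y
  com : CommIn E U Z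
  mn : ∀ Z' : Subgroup G, CommIn E U Z' → Z ≤ Z'

namespace OY

variable (o : OY H U T Q Z Y E)
include o

theorem TY : T ≤ Y := o.syl.1

theorem T2 : IsPGroup 2 T := o.syl.2.1

theorem hm : MinH Y T := SQ1.FFOne.minH_of o.syl o.min o.c2

theorem YV : Y ≤ normalizer (zl T Y : Set G) := MinSimple.VModule.le_normalizer_zl T Y

theorem V_comm : ∀ v ∈ zl T Y, ∀ w ∈ zl T Y, v * w = w * v := SQ1.VOf.MinH.comm o.hm

theorem odd_not : ¬ oddGen Y ≤ centralizer (zl T Y : Set G) := by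
  intro h0
  apply o.mv
  have h1 := NO3b.EZero.oddGen_sup_syl o.syl
  rw [← h1]
  refine sup_le (h0.trans (centralizer_le SQ1.VOf.zc_le_zl)) (cent_symm ?_)
  intro z hz
  exact mem_centralizer_iff.2 fun t ht => (ChoiceBase.mem_zc.1 hz).2.2 t ht

/-- `C_T(V) ≤ O₂(Y)` -/
theorem cap : T ⊓ centralizer (zl T Y : Set G) ≤ o2 Y := by
  have hYY : Y ≤ normalizer ((Y ⊓ centralizer (zl T Y : Set G) : Subgroup G) : Set G) :=
    NO3b.EZero.le_normalizer_inf_cent o.YV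
  rcases min_or o.syl o.min (K := Y ⊓ centralizer (zl T Y : Set G)) inf_le_left hYY with h2 | h2
  · exact absurd (h2.trans inf_le_right) o.odd_not
  · exact (le_inf inf_le_left (le_inf (inf_le_left.trans o.TY) inf_le_right)).trans h2

/-- `C_T(V / C_V(O²(Y))) ≤ O₂(Y)` -/
theorem cap' {x : G} (hx : x ∈ T) (h : ∀ v ∈ zl T Y, x * v * x⁻¹ * v⁻¹ ∈ cv T Y) : x ∈ o2 Y := by
  have hD : Y ≤ normalizer (cv T Y : Set G) := le_normalizer_of_forall fun g hg d hd => SQ1.FFOf.cv_norm g hg d hd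
  rcases min_or o.syl o.min (K := kmod Y (zl T Y) (cv T Y) o.YV hD) kmod_le (norm_kmod _ _) with h2 | h2
  · refine absurd ?_ o.odd_not
    have hcl : oddGen Y = closure {x : G | x ∈ Y ∧ Odd (orderOf x)} := rfl
    rw [hcl, closure_le]
    rintro g ⟨hg, ho⟩
    have hgo : g ∈ oddGen Y := mem_oddGen hg ho
    refine mem_centralizer_iff.2 fun v hv => ?_
    have h3 := (mem_kmod.1 (h2 hgo)).2 v hv
    set d := g * v * g⁻¹ * v⁻¹ with hd
    have hgd : g * d = d * g := mem_centralizer_iff.1 h3.2 g hgo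
    have h4 : ∀ n : ℕ, g ^ n * v * (g ^ n)⁻¹ = d ^ n * v := by
      intro n
      induction n with
      | zero => simp
      | succ n ih =>
        have e1 : g ^ (n + 1) * v * (g ^ (n + 1))⁻¹ = g * (g ^ n * v * (g ^ n)⁻¹) * g⁻¹ := by
          rw [pow_succ']; group
        have e2 : g * (d ^ n * v) * g⁻¹ = (g * d ^ n * g⁻¹) * (g * v * g⁻¹) := by group
        have e3 : g * d ^ n * g⁻¹ = d ^ n := by
          have : Commute g (d ^ n) := (show Commute g d from hgd).pow_right n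
          rw [this.eq, mul_inv_cancel_right]
        have e4 : g * v * g⁻¹ = d * v := by rw [hd]; group
        rw [e1, ih, e2, e3, e4, pow_succ, ← mul_assoc]
    have h5 := h4 (orderOf g)
    rw [pow_orderOf_eq_one, one_mul, inv_one, mul_one] at h5
    have h6 : d ^ orderOf g = 1 := (mul_eq_right.1 h5.symm)
    have h7 : d ^ 2 = 1 := SQ1.VOf.MinH.sq o.hm d h3.1
    obtain ⟨r, hr⟩ := ho
    rw [hr, pow_succ, pow_mul, h7, one_pow, one_mul] at h6
    have e5 : g * v = d * v * g := by rw [hd]; group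
    rw [e5, h6, one_mul]
  · exact h2 ⟨hx, mem_kmod.2 ⟨o.TY hx, h⟩⟩

theorem ne : ¬ E ≤ centralizer (zl T Y : Set G) := fun h => o.EY ((le_inf o.ET h).trans o.cap)

theorem off : OffM (zl T Y) E where
  sq := fun a ha => centralizer_le o.VU (o.m.elem.sq a ha)
  comm := fun a ha b hb => centralizer_le o.VU (o.m.elem.comm a ha b hb)
  ne := o.ne
  le := FFThm.relIndex_le_iff.2 (o.m.off o.Uc o.VU)

theorem U_mul {x y : G} (hx : x ∈ U) (hy : y ∈ U) : x * y = y * x := mem_centralizer_iff.1 (o.Uc hy) x hx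

/-- `U = V C_U(E)` -/
theorem split (noV : NoOverM (zl T Y) Y) : ∀ u ∈ U, ∃ v ∈ zl T Y, ∃ c ∈ U ⊓ centralizer (E : Set G), u = v * c := by
  have hno := noV E (o.ET.trans o.TY) o.off.toElemM
  obtain ⟨no, mo⟩ := o.m.minOff o.HU o.VU hno o.ne
  have hcut := mo.cut o.VU hno o.ne
  set N := zl T Y with hN
  have i0 : (centralizer (U : Set G)).relIndex E = (centralizer (E : Set G)).relIndex U :=
    le_antisymm (FFThm.relIndex_le_iff.1 (no E o.m.le o.m.elem)) (o.m.off o.Uc le_rfl)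
  have i1 : (centralizer (N : Set G)).relIndex E ≤ (centralizer (E : Set G)).relIndex N :=
    FFThm.relIndex_le_iff.1 hno
  have e1 : (centralizer (N : Set G)).relIndex E = (centralizer (U : Set G)).relIndex E := by
    rw [← inf_relIndex_right, ← inf_relIndex_right (centralizer (U : Set G))]
    congr 1
    refine le_antisymm (le_inf ?_ inf_le_right) (inf_le_inf_right _ (centralizer_le o.VU))
    rw [inf_comm]
    exact hcut
  have i2 : (centralizer (E : Set G)).relIndex U ≤ (centralizer (E : Set G)).relIndex N := by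
    rw [← i0, ← e1]
    exact i1
  set K := U ⊓ centralizer (E : Set G) with hK
  have hcom' : ∀ x ∈ N, ∀ y ∈ K, x * y = y * x := fun x hx y hy => o.U_mul (o.VU hx) hy.1
  have e2 : N ⊓ K = N ⊓ centralizer (E : Set G) := by
    rw [hK, ← inf_assoc, inf_eq_left.2 o.VU]
  have c1 := card_sup_comm hcom'
  rw [e2] at c1
  have c2 := relIndex_mul_card N (centralizer (E : Set G))
  have c3 := relIndex_mul_card U (centralizer (E : Set G))
  have hsup : N ⊔ K = U := by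
    refine Subgroup.eq_of_le_of_card_ge (sup_le o.VU inf_le_left) ?_
    have p1 : 0 < Nat.card ↥(N ⊓ centralizer (E : Set G)) := Nat.card_pos
    refine Nat.le_of_mul_le_mul_right (c := Nat.card ↥(N ⊓ centralizer (E : Set G))) ?_ p1
    calc Nat.card U * Nat.card ↥(N ⊓ centralizer (E : Set G))
        = (centralizer (E : Set G)).relIndex U * (Nat.card K * Nat.card ↥(N ⊓ centralizer (E : Set G))) := by
          rw [← c3, ← hK]; ring
      _ ≤ (centralizer (E : Set G)).relIndex N * (Nat.card K * Nat.card ↥(N ⊓ centralizer (E : Set G))) :=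
          Nat.mul_le_mul_right _ i2
      _ = Nat.card N * Nat.card K := by rw [← c2]; ring
      _ = _ := c1.symm
  intro u hu
  exact mem_sup_comm hcom' (hsup ▸ hu : u ∈ N ⊔ K)

/-- `[e, vc] = [e, v]` -/
theorem comm_split {e v c : G} (he : e ∈ E) (hc : c ∈ U ⊓ centralizer (E : Set G)) :
    e * (v * c) * e⁻¹ * (v * c)⁻¹ = e * v * e⁻¹ * v⁻¹ := by
  have e3 : e * (v * c) * e⁻¹ * (v * c)⁻¹ = e * v * (c * e⁻¹ * c⁻¹) * v⁻¹ := by group
  have e4 : c * e⁻¹ * c⁻¹ = e⁻¹ := by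
    have h2 := mem_centralizer_iff.1 hc.2 e⁻¹ (inv_mem he)
    rw [← h2]
    group
  rw [e3, e4]

/-- the output from one subgroup `X` of `V` with `[V, E] ≤ X` -/
theorem Z_le (noV : NoOverM (zl T Y) Y) {X : Subgroup G} (hX : ∀ e ∈ E, ∀ v ∈ zl T Y, e * v * e⁻¹ * v⁻¹ ∈ X) :
    Z ≤ X := o.mn X fun e he u hu => by
  obtain ⟨v, hv, c, hc, rfl⟩ := o.split noV u hu
  rw [o.comm_split he hc]
  exact hX e he v hv

/-- the output -/
theorem out {c e : G} (hc : c ∈ Q) (hcY : c ∉ o2 Y) (he : e ∈ E) (h : e⁻¹ * c ∈ o2 Y) :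
    ∃ c ∈ Q, ∃ u ∈ U, c * u * c⁻¹ * u⁻¹ ∈ Z ∧ c * u * c⁻¹ * u⁻¹ ≠ 1 := by
  have h1 : ∃ v ∈ zl T Y, c * v ≠ v * c := by
    by_contra hcon
    push Not at hcon
    exact hcY (o.cap ⟨o.QT hc, mem_centralizer_iff.2 fun v hv => (hcon v hv).symm⟩)
  obtain ⟨v, hv, hcv⟩ := h1
  refine ⟨c, hc, v, o.VU hv, ?_, fun h2 => hcv ?_⟩
  · have h3 := SQ1.VOf.MinH.o2_cent o.hm _ h v hv
    have e1 : c * v * c⁻¹ * v⁻¹ = e * (e⁻¹ * c * v) * (e⁻¹ * c)⁻¹ * e⁻¹ * v⁻¹ := by group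
    have e2 : e * (v * (e⁻¹ * c)) * (e⁻¹ * c)⁻¹ * e⁻¹ * v⁻¹ = e * v * e⁻¹ * v⁻¹ := by group
    rw [e1, h3, e2]
    exact o.com e he v (o.VU hv)
  · have e1 : c * v = (c * v * c⁻¹ * v⁻¹) * v * c := by group
    rw [e1, h2, one_mul]

section nat

variable {F : Type} [Field F] [Finite F] [CharP F 2] {k : ℕ}

/-- **natural blocks** -/
theorem nat (noV : NoOverM (zl T Y) Y) (N : NatKM F T Y (zl T Y) (cv T Y) k) (hk : 0 < k) :
    ∃ c ∈ Q, ∃ u ∈ U, c * u * c⁻¹ * u⁻¹ ∈ Z ∧ c * u * c⁻¹ * u⁻¹ ≠ 1 := by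
  classical
  set M := natC_of o.hm hk N.toNatK with hM
  obtain ⟨I, h1, h2⟩ := N.offM E o.ET o.off
  have hV : ∀ g ∈ Y, ∀ v ∈ zl T Y, g * v * g⁻¹ ∈ zl T Y := fun g hg v hv => conj_mem' o.YV hg hv
  have hEY : E ≤ Y := o.ET.trans o.TY
  -- `I` is not empty
  obtain ⟨i₀, hi₀⟩ : I.Nonempty := by
    by_contra hcon
    rw [Set.not_nonempty_iff_eq_empty] at hcon
    apply o.ne
    intro a ha
    obtain ⟨b, hb0, hb⟩ := h1 a ha
    have hb1 : b = 0 := by
      funext l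
      exact hb0 l (by rw [hcon]; simp)
    subst hb1
    have hs : a ∈ M.stab := by
      refine ⟨hEY ha, fun w hw l => ?_, hb.2⟩
      have h5 : N.e (a * w * a⁻¹) l = ap (up ((0 : Fin k → F) l)) (N.e w l) := hb.1 w hw l
      rw [Pi.zero_apply, up_zero] at h5
      exact h5
    exact mem_centralizer_iff.2 fun w hw => (M.cent_of_stab o.hm hs hw).symm
  -- the elements of `Z` on the lines
  have hz : ∀ i ∈ I, ∀ x : F, ∃ z ∈ Z, z ∈ zl T Y ∧ N.e z i = ![x, 0] ∧ ∀ j, j ≠ i → N.e z j = 0 := by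
    intro i hi x
    obtain ⟨a, ha, hact⟩ := h2 (Pi.single i x) fun l hl => by
      rw [Pi.single_eq_of_ne]
      rintro rfl
      exact hl hi
    obtain ⟨v, hv, hev⟩ := N.surj fun _ => ![0, 1]
    have hav := hV a (hEY ha) v hv
    refine ⟨a * v * a⁻¹ * v⁻¹, o.com a ha v (o.VU hv), mul_mem hav (inv_mem hv), ?_, fun j hj => ?_⟩
    · have h3 := congrFun (M.map_div hav hv) i
      have h4 : M.nat.e (a * v * a⁻¹) i = ap (up ((Pi.single i x : Fin k → F) i)) (M.nat.e v i) := hact.1 v hv i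
      rw [Pi.sub_apply, h4, Pi.single_eq_same] at h3
      change N.e (a * v * a⁻¹ * v⁻¹) i = ap (up x) (N.e v i) - N.e v i at h3
      rw [h3, hev]
      apply ext2
      · rw [Pi.sub_apply, ap_zero', up_00, up_01]; simp
      · rw [Pi.sub_apply, ap_one', up_10, up_11]; simp
    · have h3 := congrFun (M.map_div hav hv) j
      have h4 : M.nat.e (a * v * a⁻¹) j = ap (up ((Pi.single i x : Fin k → F) j)) (M.nat.e v j) := hact.1 v hv j
      rw [Pi.sub_apply, h4, Pi.single_eq_of_ne hj, up_zero, ap_one, sub_self] at h3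
      exact h3
  -- `Z` has coordinates in `I`
  let X : Subgroup G :=
    { carrier := {w | w ∈ zl T Y ∧ ∀ i, i ∉ I → N.e w i = 0}
      mul_mem' := by
        rintro x y ⟨hx, hx'⟩ ⟨hy, hy'⟩
        refine ⟨mul_mem hx hy, fun i hi => ?_⟩
        rw [N.mul x hx y hy, Pi.add_apply, hx' i hi, hy' i hi, add_zero]
      one_mem' := ⟨one_mem _, fun i _ => by
        have h3 : M.nat.e 1 = 0 := M.map_one
        change N.e 1 = 0 at h3
        rw [h3]; rfl⟩
      inv_mem' := by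
        rintro x ⟨hx, hx'⟩
        refine ⟨inv_mem hx, fun i hi => ?_⟩
        have h3 : M.nat.e x⁻¹ = - M.nat.e x := M.map_inv hx
        change N.e x⁻¹ = - N.e x at h3
        rw [h3, Pi.neg_apply, hx' i hi, neg_zero] }
  have hZX : Z ≤ X := o.Z_le noV fun e he v hv => by
    have hav := hV e (hEY he) v hv
    refine ⟨mul_mem hav (inv_mem hv), fun i hi => ?_⟩
    obtain ⟨b, hb, hact⟩ := h1 e he
    have h3 := congrFun (M.map_div hav hv) i
    have h4 : M.nat.e (e * v * e⁻¹) i = ap (up (b i)) (M.nat.e v i) := hact.1 v hv i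
    rw [Pi.sub_apply, h4, hb i hi, up_zero, ap_one, sub_self] at h3
    exact h3
  -- `I` is everything
  have hI : ∀ j, j ∈ I := by
    intro j
    by_contra hj
    obtain ⟨t, ht, htr⟩ := N.trans i₀ j
    obtain ⟨z, hzZ, hzV, hz1, -⟩ := hz i₀ hi₀ 1
    have h3 : t * z * t⁻¹ ∈ Z := conj_mem' o.TZ ht hzZ
    have h4 := (hZX h3).2 j hj
    rw [htr z hzV, hz1] at h4
    have h5 := congrFun h4 0
    simp at h5
  -- the elements of `Q`
  obtain ⟨c, hc, hcY⟩ := SetLike.not_le_iff_exists.1 o.QY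
  have hcT := o.QT hc
  have hcH := o.TY hcT
  obtain ⟨σ, hσ⟩ := N.perm c hcH
  have hcz : ∀ z ∈ Z, c * z * c⁻¹ = z := fun z hz => by
    have h3 := mem_centralizer_iff.1 (o.QZ hc) z hz
    rw [← h3, mul_inv_cancel_right]
  have hσi : ∀ i, σ i = i := by
    intro i
    obtain ⟨z, hzZ, hzV, hz1, hz2⟩ := hz i (hI i) 1
    by_contra hne
    have h3 := (hσ z hzV i).1 (by rw [hcz z hzZ]; exact hz2 _ hne)
    rw [hz1] at h3
    have h5 := congrFun h3 0
    simp at h5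
  have hcV : ∀ v ∈ zl T Y, c * v * c⁻¹ ∈ zl T Y := hV c hcH
  -- the maps
  have hs : ∀ i (x : Fin 2 → F), ∃ v ∈ zl T Y, N.e v i = x := fun i x => by
    obtain ⟨v, hv, hev⟩ := N.surj fun _ => x
    exact ⟨v, hv, by rw [hev]⟩
  choose r hr hrx using hs
  have hdiv : ∀ v ∈ zl T Y, ∀ w ∈ zl T Y, N.e (v * w⁻¹) = N.e v - N.e w := fun v hv w hw => M.map_div hv hw
  have hφ : ∀ i, ∀ v ∈ zl T Y, N.e (c * v * c⁻¹) i = N.e (c * r i (N.e v i) * c⁻¹) i := by
    intro i v hv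
    have hw := hr i (N.e v i)
    have h3 : N.e (v * (r i (N.e v i))⁻¹) i = 0 := by
      rw [hdiv v hv _ hw, Pi.sub_apply, hrx, sub_self]
    have h4 := (hσ _ (mul_mem hv (inv_mem hw)) i).2 h3
    rw [hσi] at h4
    have e1 : c * (v * (r i (N.e v i))⁻¹) * c⁻¹ = (c * v * c⁻¹) * (c * r i (N.e v i) * c⁻¹)⁻¹ := by group
    rw [e1, hdiv _ (hcV v hv) _ (hcV _ hw), Pi.sub_apply] at h4
    exact sub_eq_zero.1 h4
  have hb : ∀ i, ∃ b : F, ∀ x, N.e (c * r i x * c⁻¹) i = ap (up b) x := by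
    intro i
    refine exists_up_of_fix (fun x => N.e (c * r i x * c⁻¹) i) ?_ ?_ ?_ ?_
    · intro x y
      have h3 := hφ i _ (mul_mem (hr i x) (hr i y))
      rw [N.mul _ (hr i x) _ (hr i y), Pi.add_apply, hrx, hrx] at h3
      show N.e (c * r i (x + y) * c⁻¹) i = _
      rw [← h3]
      have e1 : c * (r i x * r i y) * c⁻¹ = (c * r i x * c⁻¹) * (c * r i y * c⁻¹) := by group
      rw [e1, N.mul _ (hcV _ (hr i x)) _ (hcV _ (hr i y))]
      rfl
    · intro x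
      obtain ⟨z, hzZ, hzV, hz1, -⟩ := hz i (hI i) x
      have h3 := hφ i z hzV
      rw [hz1, hcz z hzZ, hz1] at h3
      exact h3.symm
    · intro A
      obtain ⟨g, hg, hgA⟩ := N.lift fun _ => A
      obtain ⟨B, hB⟩ := N.norm c hcH g hg (fun _ => A) hgA.1
      refine ⟨B i, fun x => ?_⟩
      have h3 := hgA.1 (r i x) (hr i x) i
      rw [hrx] at h3
      have hgr := hV g hg _ (hr i x)
      have h4 := hφ i _ hgr
      rw [h3] at h4
      show N.e (c * r i (ap A x) * c⁻¹) i = ap (B i) (N.e (c * r i x * c⁻¹) i)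
      have e1 : c * (g * r i x * g⁻¹) * c⁻¹ = c * g * c⁻¹ * (c * r i x * c⁻¹) * (c * g * c⁻¹)⁻¹ := by group
      rw [← h4, ← hB _ (hcV _ (hr i x)) i, e1]
    · obtain ⟨n, hn⟩ := o.T2 ⟨c, hcT⟩
      have hn' : c ^ 2 ^ n = 1 := congrArg Subtype.val hn
      have hit : ∀ l : ℕ, ∀ v ∈ zl T Y, (fun x => N.e (c * r i x * c⁻¹) i)^[l] (N.e v i) =
          N.e (c ^ l * v * (c ^ l)⁻¹) i := by
        intro l
        induction l with
        | zero => intro v _; simp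
        | succ l ih =>
          intro v hv
          have h5 := hV _ (pow_mem hcH l) v hv
          have e1 : c * (c ^ l * v * (c ^ l)⁻¹) * c⁻¹ = c ^ (l + 1) * v * (c ^ (l + 1))⁻¹ := by
            rw [pow_succ']
            group
          rw [Function.iterate_succ_apply', ih v hv]
          show N.e (c * r i (N.e (c ^ l * v * (c ^ l)⁻¹) i) * c⁻¹) i = _
          rw [← hφ i _ h5, e1]
      refine ⟨n, fun x => ?_⟩
      have h3 := hit (2 ^ n) (r i x) (hr i x)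
      rw [hn', one_mul, inv_one, mul_one, hrx] at h3
      exact h3
  choose b hb using hb
  obtain ⟨e0, he0, hact⟩ := h2 b fun i hi => absurd (hI i) hi
  refine o.out hc hcY he0 (o.cap' (mul_mem (inv_mem (o.ET he0)) hcT) fun v hv => ?_)
  have hxY : e0⁻¹ * c ∈ Y := mul_mem (inv_mem (hEY he0)) hcH
  have hw := hV _ hxY v hv
  rw [← N.ker _ (mul_mem hw (inv_mem hv)), hdiv _ hw _ hv, sub_eq_zero]
  funext i
  have h3 := hact.1 _ hw i
  have e1 : e0 * (e0⁻¹ * c * v * (e0⁻¹ * c)⁻¹) * e0⁻¹ = c * v * c⁻¹ := by group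
  rw [e1, hφ i v hv, hb] at h3
  have h4 := congrArg (ap (up (b i))⁻¹) h3
  rw [ap_inv_ap, ap_inv_ap] at h4
  exact h4.symm

end nat

section sym

open Cfsg.Agent.Omega.SQ1.FFSym (Gd Sy u)

variable {k m : ℕ}

/-- **symmetric blocks** : impossible -/
theorem sym (noV : NoOverM (zl T Y) Y) (N : SymKM T Y (zl T Y) (cv T Y) k m) (hk : 0 < k) (hm : 2 ≤ m) : False := by
  classical
  have h := NO3S.OneLine.sy_of o.hm N.toSymK hk (by omega) SQ1.FFOf.cv_le SQ1.FFOf.cv_norm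
  have hTH := o.TY
  have hET := o.ET
  have hno := noV E (o.ET.trans o.TY) o.off.toElemM
  obtain ⟨no, mo⟩ := o.m.minOff o.HU o.VU hno o.ne
  -- a transposition in `E`
  obtain ⟨i, x, y, hxy, t, ht, htg⟩ : ∃ i x y, x ≠ y ∧ ∃ t ∈ E,
      Gd Y (zl T Y) (cv T Y) N.e (Pi.mulSingle i (Equiv.swap x y)) t := by
    obtain ⟨hD, h2⟩ := N.offM E hET o.off
    by_contra hcon
    push Not at hcon
    apply o.ne
    intro a ha
    obtain ⟨τ, hτ, hτ'⟩ := h2 a ha
    have h1 : τ = 1 := by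
      funext i
      ext x
      by_contra hx
      have hx' : τ i x ≠ x := fun e => hx (by rw [e]; rfl)
      obtain ⟨-, b, hb, hb'⟩ := hτ' i x hx'
      exact hcon i x (τ i x) hx'.symm b hb ⟨hTH (hET hb), hD b hb, hb'⟩
    subst h1
    refine mem_centralizer_iff.2 fun v hv => ?_
    have h2 := h.gd_sim ⟨hTH (hET ha), hD a ha, hτ⟩ h.gd_one v hv
    symm
    calc a * v = (a * v * a⁻¹) * a := by group
      _ = v * a := by rw [h2]; group
  have hx0 : x ≠ 0 := by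
    rintro rfl
    have h4 := N.fix0 t (hET ht) _ _ htg.act i
    rw [Pi.mulSingle_eq_same, Equiv.swap_apply_left] at h4
    exact hxy h4.symm
  set d := u Y (zl T Y) (cv T Y) N.e i x y with hd
  have hdV : d ∈ zl T Y := h.u_mem i x y
  have hdd : d * d = 1 := h.u_sq i x y
  have hd1 : d ≠ 1 := h.u_ne hxy
  -- `[t, U] ≤ {1, d}`
  have htU : ∀ w ∈ U, t * w * t⁻¹ * w⁻¹ = 1 ∨ t * w * t⁻¹ * w⁻¹ = d := by
    intro w hw
    obtain ⟨v, hv, c, hc, rfl⟩ := o.split noV w hw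
    rw [o.comm_split ht hc]
    rcases h.swap_comm htg v hv with h3 | h3
    · left; rw [h3, mul_inv_cancel]
    · right; rw [h3, mul_inv_cancel_right]
  have htne : t ∉ centralizer (U : Set G) := by
    intro h0
    obtain ⟨v, hv, hev⟩ := h.exists_pair i x 0
    have h1 := htg.act v hv i y
    have h2 : t * v * t⁻¹ = v := by
      have h3 := mem_centralizer_iff.1 h0 v (o.VU hv)
      rw [← h3, mul_inv_cancel_right]
    rw [h2, Pi.mulSingle_eq_same, Equiv.swap_apply_right, Equiv.Perm.one_apply, hev] at h1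
    have hy0 : y ≠ 0 := by
      rintro rfl
      have h4 := N.fix0 t (hET ht) _ _ htg.act i
      rw [Pi.mulSingle_eq_same, Equiv.swap_apply_right] at h4
      exact hxy h4
    simp only [Pi.add_apply] at h1
    rw [SQ1.FFSym.E_self,
      SQ1.FFSym.E_ne (fun h5 => hx0 h5.2), SQ1.FFSym.E_ne (fun h5 => hxy h5.2.symm),
      SQ1.FFSym.E_ne (fun h5 => hy0 h5.2)] at h1
    simp at h1
  have hUn : E ≤ normalizer (U : Set G) := hET.trans (hTH.trans (o.YH.trans o.HU))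
  have hCn : ∀ g ∈ E, ∀ z ∈ centralizer (U : Set G), g⁻¹ * z * g ∈ centralizer (U : Set G) := by
    intro g hg z hz
    rw [mem_centralizer_iff]
    intro w hw
    have h1 : g * w * g⁻¹ ∈ U := conj_mem' hUn hg hw
    have h2 := mem_centralizer_iff.1 hz _ h1
    have e1 : w * (g⁻¹ * z * g) = g⁻¹ * (g * w * g⁻¹ * z) * g := by group
    rw [e1, h2]
    group
  -- the subgroup `⟨t⟩ C_E(U)`
  let E₁ : Subgroup G :=
    { carrier := {g | g ∈ E ∧ (g ∈ centralizer (U : Set G) ∨ t⁻¹ * g ∈ centralizer (U : Set G))}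
      one_mem' := ⟨one_mem _, Or.inl (one_mem _)⟩
      mul_mem' := by
        rintro a b ⟨ha, ha'⟩ ⟨hb, hb'⟩
        refine ⟨mul_mem ha hb, ?_⟩
        rcases ha' with ha' | ha' <;> rcases hb' with hb' | hb'
        · exact Or.inl (mul_mem ha' hb')
        · right
          have h1 := hCn t ht a ha'
          have e1 : t⁻¹ * (a * b) = (t⁻¹ * a * t) * (t⁻¹ * b) := by group
          rw [e1]
          exact mul_mem h1 hb'
        · right
          have e1 : t⁻¹ * (a * b) = t⁻¹ * a * b := by group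
          rw [e1]
          exact mul_mem ha' hb'
        · left
          have h1 := o.m.elem.sq t ht
          have h2 := hCn t ht _ ha'
          have e1 : a * b = t ^ 2 * (t⁻¹ * (t⁻¹ * a) * t) * (t⁻¹ * b) := by rw [pow_two]; group
          rw [e1]
          exact mul_mem (mul_mem h1 h2) hb'
      inv_mem' := by
        rintro a ⟨ha, ha'⟩
        refine ⟨inv_mem ha, ?_⟩
        rcases ha' with ha' | ha'
        · exact Or.inl (inv_mem ha')
        · right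
          have h1 := o.m.elem.sq t ht
          have h2 := hCn t⁻¹ (inv_mem ht) _ (inv_mem ha')
          have h3 := hCn t ht _ h2
          have e1 : t⁻¹ * a⁻¹ = (t ^ 2)⁻¹ * (t * (t⁻¹ * a)⁻¹ * t⁻¹) := by rw [pow_two]; group
          rw [e1]
          refine mul_mem (inv_mem h1) ?_
          have e2 : t * (t⁻¹ * a)⁻¹ * t⁻¹ = t⁻¹⁻¹ * (t⁻¹ * a)⁻¹ * t⁻¹ := by group
          rw [e2]
          exact h2 }
  have hE₁E : E₁ ≤ E := fun g hg => hg.1
  have htE₁ : t ∈ E₁ := ⟨ht, Or.inr (by rw [inv_mul_cancel]; exact one_mem _)⟩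
  have hcz : ∀ w ∈ U, t * w * t⁻¹ * w⁻¹ = 1 → w ∈ centralizer (E₁ : Set G) := by
    intro w hw h1
    refine mem_centralizer_iff.2 fun g hg => ?_
    have htw : t * w = w * t := by
      have e1 : t * w = (t * w * t⁻¹ * w⁻¹) * w * t := by group
      rw [e1, h1, one_mul]
    rcases hg.2 with h2 | h2
    · exact (mem_centralizer_iff.1 h2 w hw).symm
    · have h3 := mem_centralizer_iff.1 h2 w hw
      have e1 : g * w = t * (t⁻¹ * g * w) := by group
      have e2 : t * (w * (t⁻¹ * g)) = t * w * (t⁻¹ * g) := by group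
      rw [e1, ← h3, e2, htw]
      group
  have k1 : (centralizer (E₁ : Set G)).relIndex U ≤ 2 := by
    have hc2 : Nat.card ↥(zpowers d) ≤ 2 := by
      rw [Nat.card_zpowers]
      exact Nat.le_of_dvd (by norm_num) (orderOf_dvd_of_pow_eq_one (by rw [pow_two]; exact hdd))
    refine le_trans ?_ hc2
    rw [← relIndex_bot_left (zpowers d)]
    refine relIndex_le_of_map (fun w => t * w * t⁻¹ * w⁻¹) (fun w hw => ?_) ?_
    · rcases htU w hw with h1 | h1
      · simp only [h1]; exact one_mem _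
      · simp only [h1]; exact mem_zpowers d
    · intro w hw w' hw' hww
      rw [mem_bot, inv_mul_eq_one] at hww
      refine hcz _ (mul_mem (inv_mem hw) hw') ?_
      have htn : t ∈ normalizer (U : Set G) := hUn ht
      have a1 : t * w * t⁻¹ ∈ U := conj_mem' hUn ht hw
      have e1 : t * (w⁻¹ * w') * t⁻¹ * (w⁻¹ * w')⁻¹ = (t * w * t⁻¹)⁻¹ * (t * w' * t⁻¹) * w'⁻¹ * w := by group
      have e2 : t * w * t⁻¹ = (t * w * t⁻¹ * w⁻¹) * w := by group
      have e3 : t * w' * t⁻¹ = (t * w' * t⁻¹ * w'⁻¹) * w' := by group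
      rw [e1, e2, e3, hww]
      have hq : t * w' * t⁻¹ * w'⁻¹ ∈ U := mul_mem (conj_mem' hUn ht hw') (inv_mem hw')
      generalize t * w' * t⁻¹ * w'⁻¹ = q
      group
  have k2 : 2 ≤ (centralizer (U : Set G)).relIndex E₁ := NO3S.Fld.two_le_relIndex htE₁ htne
  have hoff₁ : OffM U E₁ :=
    ⟨⟨fun a ha => o.m.elem.sq a (hE₁E ha), fun a ha b hb => o.m.elem.comm a (hE₁E ha) b (hE₁E hb)⟩,
      fun h0 => htne (h0 htE₁), FFThm.relIndex_le_iff.2 (k1.trans k2)⟩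
  have k3 := mo.min E₁ (hE₁E.trans mo.le) (mo.pg.to_le hE₁E) hoff₁
  have hEE : E ≤ E₁ := by
    have hle : E ⊓ centralizer (U : Set G) ≤ E₁ := fun g hg => ⟨hg.1, Or.inl hg.2⟩
    have k4 := relIndex_mul_of (H := centralizer (U : Set G)) hle hE₁E
    have p0 : 0 < (centralizer (U : Set G)).relIndex E₁ := by omega
    have k5 : E₁.relIndex E ≤ 1 := by
      refine Nat.le_of_mul_le_mul_left (c := (centralizer (U : Set G)).relIndex E₁) ?_ p0
      rw [k4, mul_one]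
      exact k3
    have p1 : 0 < E₁.relIndex E := Nat.pos_of_ne_zero index_ne_zero_of_finite
    exact relIndex_eq_one.1 (by omega)
  -- `Z = {1, d}`
  have hZd : Z ≤ zpowers d := o.mn _ fun e he w hw => by
    rcases (hEE he).2 with h1 | h1
    · have h2 := mem_centralizer_iff.1 h1 w hw
      rw [← h2, mul_inv_cancel_right, mul_inv_cancel]
      exact one_mem _
    · have h2 := mem_centralizer_iff.1 h1 w hw
      have e1 : e * w * e⁻¹ * w⁻¹ = t * (t⁻¹ * e * w) * (t⁻¹ * e)⁻¹ * t⁻¹ * w⁻¹ := by group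
      have e2 : t * (w * (t⁻¹ * e)) * (t⁻¹ * e)⁻¹ * t⁻¹ * w⁻¹ = t * w * t⁻¹ * w⁻¹ := by group
      rw [e1, ← h2, e2]
      rcases htU w hw with h3 | h3
      · rw [h3]; exact one_mem _
      · rw [h3]; exact mem_zpowers d
  have hdZ : d ∈ Z := by
    by_contra hcon
    apply htne
    refine mem_centralizer_iff.2 fun w hw => ?_
    rcases htU w hw with h3 | h3
    · have e1 : t * w = (t * w * t⁻¹ * w⁻¹) * w * t := by group
      rw [e1, h3, one_mul]
    · exact absurd (h3 ▸ o.com t ht w hw) hcon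
  have hTd : ∀ g ∈ T, g * d * g⁻¹ = d := by
    intro g hg
    have h1 := hZd (conj_mem' o.TZ hg hdZ)
    obtain ⟨n, hn⟩ := mem_zpowers_iff.1 h1
    rcases Int.even_or_odd n with ⟨r, hr⟩ | ⟨r, hr⟩
    · exfalso
      have h2 : g * d * g⁻¹ = 1 := by
        rw [← hn, hr, ← two_mul, zpow_mul]
        have : d ^ (2 : ℤ) = 1 := by rw [zpow_ofNat, pow_two]; exact hdd
        rw [this, one_zpow]
      apply hd1
      have e1 : d = g⁻¹ * (g * d * g⁻¹) * g := by group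
      rw [e1, h2]
      group
    · rw [← hn, hr, zpow_add, zpow_mul, zpow_one]
      have : d ^ (2 : ℤ) = 1 := by rw [zpow_ofNat, pow_two]; exact hdd
      rw [this, one_zpow, one_mul]
  -- a fourth point
  obtain ⟨z, hz0, hzx, hzy⟩ : ∃ z : Fin (2 ^ m + 1), z ≠ 0 ∧ z ≠ x ∧ z ≠ y := by
    by_contra hcon
    push Not at hcon
    have h1 : (Finset.univ : Finset (Fin (2 ^ m + 1))) ⊆ {0, x, y} := by
      intro w _
      by_cases hw0 : w = 0
      · simp [hw0]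
      by_cases hwx : w = x
      · simp [hwx]
      · have := hcon w hw0 hwx
        simp [this]
    have h2 := Finset.card_le_card h1
    rw [Finset.card_univ, Fintype.card_fin] at h2
    have h3 : ({0, x, y} : Finset (Fin (2 ^ m + 1))).card ≤ 3 := Finset.card_le_three
    have h4 : 2 ^ 2 ≤ 2 ^ m := Nat.pow_le_pow_right (by norm_num) hm
    omega
  obtain ⟨g, hg, π, hgd, hπ⟩ := NO3S.OneLine.cyc_T' o.hm N.toSymK h (by omega) i hx0 hz0
  have h1 := h.u_conj (hTH hg) hgd.act i x y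
  rw [Equiv.Perm.one_apply, Pi.mulSingle_eq_same, hπ, ← hd, hTd g hg] at h1
  rcases (h.u_inj hxy (hd ▸ h1)).2 with ⟨h4, -⟩ | ⟨-, h4⟩
  · exact hzx h4.symm
  · exact hzy h4.symm

end sym

/-- **(i2)** -/
theorem oneY (hFF : StmtM.{u}) : ∃ c ∈ Q, ∃ u ∈ U, c * u * c⁻¹ * u⁻¹ ∈ Z ∧ c * u * c⁻¹ * u⁻¹ ≠ 1 := by
  obtain ⟨noV, con⟩ := hFF G T Y o.syl o.min o.c2 ⟨E, o.ET.trans o.TY, o.off⟩
  rcases con with ⟨F, _, _, _, k, hk, ⟨N⟩⟩ | ⟨k, m, hk, hm, ⟨N⟩⟩
  · exact o.nat noV N hk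
  · exact (o.sym noV N hk hm).elim

end OY

/-- **the field `oneY` of `Sit`** -/
theorem oneY_of (hFF : StmtM.{u}) (Uc : U ≤ centralizer (U : Set G)) (Us : ∀ u ∈ U, u ^ 2 = 1)
    (HU : H ≤ normalizer (U : Set G)) (syl : Syl T Y) (min : IsMinPar T Y)
    (c2 : Y ⊓ centralizer (o2 Y : Set G) ≤ o2 Y) (mv : ¬ Y ≤ centralizer (zc T : Set G)) (YH : Y ≤ H)
    (VU : zl T Y ≤ U) (QT : Q ≤ T) (QZ : Q ≤ centralizer (Z : Set G)) (QY : ¬ Q ≤ o2 Y)
    (TZ : T ≤ normalizer (Z : Set G)) : ∀ E ≤ T, MaxMin U H E → ¬ E ≤ o2 Y → CommIn E U Z →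
      (∀ Z' : Subgroup G, CommIn E U Z' → Z ≤ Z') →
        ∃ c ∈ Q, ∃ u ∈ U, c * u * c⁻¹ * u⁻¹ ∈ Z ∧ c * u * c⁻¹ * u⁻¹ ≠ 1 :=
  fun E hE m hEY com mn => OY.oneY (E := E)
    { Uc := Uc, Us := Us, HU := HU, syl := syl, min := min, c2 := c2, mv := mv, YH := YH, VU := VU, QT := QT, QZ := QZ,
      QY := QY, TZ := TZ, ET := hE, m := m, EY := hEY, com := com, mn := mn } hFF

end Cfsg.Agent.Omega.CaseLQ

end

section


/-!
# THEOREM TOR: the frame `TY` from coordinates of `⟨Ω₁(Z(B))^Y⟩`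

* `Co F S B Q M X L V z 𝓦 j Y` : the frame `Cx`, `Off`, and `N : NatKM F B Y (zl B Y) (cv B Y) 1`, `|F| = 4`, `V j` is the
  line fixed by `B`, `Q` acts inside the root group, a member of `𝓦` in `S` is not in `O₂(Y)`;
* `Co.cap`, `Co.cap'` : `C_B(U) = C_B(U / C_U(O²(Y))) = O₂(Y)`; `Co.full` : `Q` induces the full root group;
  `Co.exists_d` : `d ∈ N_Y(Q)` of odd order, `diag(a, a⁻¹)`, `a ≠ 1`; `Co.VW` : `V j ≤ ⟨z_j^Y⟩`;
  `Co.cent_V` : `C_B(V j) ≤ Q O₂(Y)`; `Co.F_le` : `F ≤ Λ_j`.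
-/

set_option autoImplicit false
set_option linter.unusedSectionVars false
set_option linter.dupNamespace false

namespace Cfsg.Agent.Omega.NO3S.WY.Tor

open Subgroup Cfsg Cfsg.Agent.ZN Cfsg.Agent.ZN.ChoiceBase
open Cfsg.Agent.ZN.ChoiceSit (Syl exists_syl syl_conj syl_not_dvd)
open Cfsg.Agent.MinSimple.MinParabolic (IsMinPar)
open Cfsg.Agent.MinSimple.VModule (oddGen oddGen_le mem_oddGen)
open Cfsg.Agent.Omega.FFThm (OffM ElemM NatK NatKM ActsSL)
open Cfsg.Agent.Omega.FrameFF (cv)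
open Cfsg.Agent.Omega.NO3b.EZero (cl cj_le_cl le_cl cl_le le_normalizer_cl cent_symm cj_cent)
open Cfsg.Agent.Omega.NO3b.K0 (conj_mem' cj_of_le cj_self min_or)
open Cfsg.Agent.Omega.NO3S.NotFF (le_normalizer_of_forall)
open Cfsg.Agent.Omega.SQ1.Bau (mem_sup_comm card_sup_comm mem_sup_norm)
open Cfsg.Agent.Omega.SQ1.FFOne (MinH)
open Cfsg.Agent.Omega.NO3S.Fld (kmod mem_kmod norm_kmod kmod_le)
open Cfsg.Agent.Omega.NatPair (ap ap_zero' ap_one' ap_one ap_mul ap_add ext2 ap_inv_ap ap_inj)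
open Cfsg.Agent.Omega.NO3S.OneLine (NatC natC_of card_of_hom card_le_of_hom)
open Cfsg.Agent.Lib.SL2Mat

universe u

variable {G : Type u} [Group G] {ι : Type}

/-- **Coordinates of `⟨Ω₁(Z(B))^Y⟩`.** -/
structure Co (F : Type) [Field F] (S B Q M X L : Subgroup G) (V : ι → Subgroup G) (z : ι → G)
    (𝓦 : Set (Subgroup G)) (j : ι) (Y : Subgroup G) where
  cx : Cx S B Q M X L V z
  syl : Syl B Y
  min : IsMinPar B Y
  c2 : Y ⊓ centralizer (o2 Y : Set G) ≤ o2 Y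
  YM : Y ≤ M
  cen : ∀ y ∈ Y, ∀ i, i ≠ j → y * z i = z i * y
  zcB : zc B = ⨆ i, zpowers (z i)
  zX : zc B ≤ X
  nat : NatKM F B Y (zl B Y) (cv B Y) 1
  c4 : Nat.card F = 4
  line : ∀ v ∈ zl B Y, nat.e v 0 1 = 0 ↔ v ∈ V j ⊔ cv B Y
  rt : ∀ q ∈ Q, ∃ b : F, ActsSL nat.e (zl B Y) (cv B Y) q fun _ => up b
  act : ∃ A ∈ 𝓦, A ≤ S ∧ A ≤ Q ∧ ¬ A ≤ o2 Y
  /-- the member of `𝓦` is a best offender on the subgroups of `X ∩ O₂(C_G(Λ_j))` -/
  best : ∀ A ∈ 𝓦, A ≤ S → ∀ U : Subgroup G, U ≤ X → U ≤ o2 (centralizer (Lam z j : Set G)) → ∀ A' ≤ A,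
    Nat.card A' * Nat.card ↥(U ⊓ centralizer (A' : Set G)) ≤ Nat.card A * Nat.card ↥(U ⊓ centralizer (A : Set G))
  two : ∃ i, i ≠ j

namespace Co

variable [Finite G] {F : Type} [Field F] {S B Q M X L : Subgroup G} {V : ι → Subgroup G} {z : ι → G}
  {𝓦 : Set (Subgroup G)} {j : ι} {Y : Subgroup G} (o : Co F S B Q M X L V z 𝓦 j Y)

theorem BY (o : Co F S B Q M X L V z 𝓦 j Y) : B ≤ Y := o.syl.1

theorem QY (o : Co F S B Q M X L V z 𝓦 j Y) : Q ≤ Y := o.cx.QB.trans o.BY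

theorem B2 (o : Co F S B Q M X L V z 𝓦 j Y) : IsPGroup 2 B := o.syl.2.1

theorem hm (o : Co F S B Q M X L V z 𝓦 j Y) : MinH Y B := SQ1.FFOne.minH_of o.syl o.min o.c2

/-- coordinates with the elementary facts -/
def nc (o : Co F S B Q M X L V z 𝓦 j Y) : NatC F B Y (zl B Y) (cv B Y) 1 := natC_of o.hm one_pos o.nat.toNatK

theorem YU (_o : Co F S B Q M X L V z 𝓦 j Y) : Y ≤ normalizer (zl B Y : Set G) :=
  MinSimple.VModule.le_normalizer_zl B Y

theorem Un (o : Co F S B Q M X L V z 𝓦 j Y) {y v : G} (hy : y ∈ Y) (hv : v ∈ zl B Y) : y * v * y⁻¹ ∈ zl B Y :=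
  conj_mem' o.YU hy hv

theorem U_comm (o : Co F S B Q M X L V z 𝓦 j Y) : ∀ v ∈ zl B Y, ∀ w ∈ zl B Y, v * w = w * v :=
  SQ1.VOf.MinH.comm o.hm

theorem U_sq (o : Co F S B Q M X L V z 𝓦 j Y) : ∀ v ∈ zl B Y, v ^ 2 = 1 := SQ1.VOf.MinH.sq o.hm

theorem o2_cent (o : Co F S B Q M X L V z 𝓦 j Y) {x v : G} (hx : x ∈ o2 Y) (hv : v ∈ zl B Y) : x * v = v * x :=
  SQ1.VOf.MinH.o2_cent o.hm x hx v hv

theorem odd_not (o : Co F S B Q M X L V z 𝓦 j Y) : ¬ oddGen Y ≤ centralizer (zl B Y : Set G) := by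
  intro h0
  obtain ⟨v, hv, he⟩ := o.nat.surj fun _ => ![1, 0]
  have h1 : v ∈ cv B Y := ⟨hv, cent_symm h0 hv⟩
  have h2 := (o.nat.ker v hv).2 h1
  rw [h2] at he
  have h3 := congrFun (congrFun he 0) 0
  simp at h3

/-- `C_B(U) ≤ O₂(Y)` -/
theorem cap (o : Co F S B Q M X L V z 𝓦 j Y) : B ⊓ centralizer (zl B Y : Set G) ≤ o2 Y := by
  have hYY : Y ≤ normalizer ((Y ⊓ centralizer (zl B Y : Set G) : Subgroup G) : Set G) :=
    NO3b.EZero.le_normalizer_inf_cent o.YU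
  rcases min_or o.syl o.min (K := Y ⊓ centralizer (zl B Y : Set G)) inf_le_left hYY with h2 | h2
  · exact absurd (h2.trans inf_le_right) o.odd_not
  · exact (le_inf inf_le_left (le_inf (inf_le_left.trans o.BY) inf_le_right)).trans h2

theorem Dn (_o : Co F S B Q M X L V z 𝓦 j Y) : Y ≤ normalizer (cv B Y : Set G) :=
  le_normalizer_of_forall fun g hg d hd => SQ1.FFOf.cv_norm g hg d hd

/-- `C_B(U / C_U(O²(Y))) ≤ O₂(Y)` -/
theorem cap' (o : Co F S B Q M X L V z 𝓦 j Y) {x : G} (hx : x ∈ B)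
    (h : ∀ v ∈ zl B Y, x * v * x⁻¹ * v⁻¹ ∈ cv B Y) : x ∈ o2 Y := by
  rcases min_or o.syl o.min (K := kmod Y (zl B Y) (cv B Y) o.YU o.Dn) kmod_le (norm_kmod _ _) with h2 | h2
  · refine absurd ?_ o.odd_not
    have hcl : oddGen Y = closure {x : G | x ∈ Y ∧ Odd (orderOf x)} := rfl
    rw [hcl, closure_le]
    rintro g ⟨hg, ho⟩
    have hgo : g ∈ oddGen Y := mem_oddGen hg ho
    refine mem_centralizer_iff.2 fun v hv => ?_
    have h3 := (mem_kmod.1 (h2 hgo)).2 v hv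
    set d := g * v * g⁻¹ * v⁻¹ with hd
    have hgd : g * d = d * g := (mem_centralizer_iff.1 h3.2 g hgo)
    have h4 : ∀ n : ℕ, g ^ n * v * (g ^ n)⁻¹ = d ^ n * v := by
      intro n
      induction n with
      | zero => simp
      | succ n ih =>
        have e1 : g ^ (n + 1) * v * (g ^ (n + 1))⁻¹ = g * (g ^ n * v * (g ^ n)⁻¹) * g⁻¹ := by
          rw [pow_succ']; group
        have e2 : g * (d ^ n * v) * g⁻¹ = (g * d ^ n * g⁻¹) * (g * v * g⁻¹) := by group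
        have e3 : g * d ^ n * g⁻¹ = d ^ n := by
          have : Commute g (d ^ n) := (show Commute g d from hgd).pow_right n
          rw [this.eq, mul_inv_cancel_right]
        have e4 : g * v * g⁻¹ = d * v := by rw [hd]; group
        rw [e1, ih, e2, e3, e4, pow_succ, ← mul_assoc]
    have h5 := h4 (orderOf g)
    rw [pow_orderOf_eq_one, one_mul, inv_one, mul_one] at h5
    have h6 : d ^ orderOf g = 1 := (mul_eq_right.1 h5.symm)
    have h7 : d ^ 2 = 1 := o.U_sq d h3.1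
    obtain ⟨r, hr⟩ := ho
    rw [hr, pow_succ, pow_mul, h7, one_pow, one_mul] at h6
    have e5 : g * v = d * v * g := by rw [hd]; group
    rw [e5, h6, one_mul]
  · exact h2 ⟨hx, mem_kmod.2 ⟨o.BY hx, h⟩⟩

/-- the coordinates -/
def e (o : Co F S B Q M X L V z 𝓦 j Y) (v : G) : Fin 2 → F := o.nat.e v 0

theorem e_mul (o : Co F S B Q M X L V z 𝓦 j Y) {v w : G} (hv : v ∈ zl B Y) (hw : w ∈ zl B Y) :
    o.e (v * w) = o.e v + o.e w := congrFun (o.nat.mul v hv w hw) 0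

theorem e_one (o : Co F S B Q M X L V z 𝓦 j Y) : o.e 1 = 0 := congrFun o.nc.map_one 0

theorem e_inv (o : Co F S B Q M X L V z 𝓦 j Y) {v : G} (hv : v ∈ zl B Y) : o.e v⁻¹ = - o.e v :=
  congrFun (o.nc.map_inv hv) 0

theorem e_div (o : Co F S B Q M X L V z 𝓦 j Y) {v w : G} (hv : v ∈ zl B Y) (hw : w ∈ zl B Y) :
    o.e (v * w⁻¹) = o.e v - o.e w := congrFun (o.nc.map_div hv hw) 0

theorem e_ker (o : Co F S B Q M X L V z 𝓦 j Y) {v : G} (hv : v ∈ zl B Y) : o.e v = 0 ↔ v ∈ cv B Y := by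
  rw [← o.nat.ker v hv]
  refine ⟨fun h => ?_, fun h => congrFun h 0⟩
  funext i
  rw [Subsingleton.elim i 0]
  exact h

theorem e_surj (o : Co F S B Q M X L V z 𝓦 j Y) (x : Fin 2 → F) : ∃ v ∈ zl B Y, o.e v = x := by
  obtain ⟨v, hv, h⟩ := o.nat.surj fun _ => x
  exact ⟨v, hv, congrFun h 0⟩

theorem e_lift (o : Co F S B Q M X L V z 𝓦 j Y) (A : Matrix.SpecialLinearGroup (Fin 2) F) :
    ∃ g ∈ Y, ∀ v ∈ zl B Y, o.e (g * v * g⁻¹) = ap A (o.e v) := by
  obtain ⟨g, hg, h⟩ := o.nat.lift fun _ => A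
  exact ⟨g, hg, fun v hv => h.1 v hv 0⟩

theorem e_norm (o : Co F S B Q M X L V z 𝓦 j Y) {g h : G} (hg : g ∈ Y) (hh : h ∈ Y)
    {A : Matrix.SpecialLinearGroup (Fin 2) F} (hA : ∀ v ∈ zl B Y, o.e (h * v * h⁻¹) = ap A (o.e v)) :
    ∃ A' : Matrix.SpecialLinearGroup (Fin 2) F,
      ∀ v ∈ zl B Y, o.e (g * h * g⁻¹ * v * (g * h * g⁻¹)⁻¹) = ap A' (o.e v) := by
  obtain ⟨A', h1⟩ := o.nat.norm g hg h hh (fun _ => A) fun v hv i => by
    rw [Subsingleton.elim i 0]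
    exact hA v hv
  exact ⟨A' 0, fun v hv => h1 v hv 0⟩

theorem cv_le (_o : Co F S B Q M X L V z 𝓦 j Y) : cv B Y ≤ zl B Y := inf_le_left

/-- `z j` and `Λ_j` -/
theorem z_zc (o : Co F S B Q M X L V z 𝓦 j Y) (i : ι) : z i ∈ zc B := by
  rw [o.zcB]
  exact mem_iSup_of_mem i (mem_zpowers _)

theorem z_U (o : Co F S B Q M X L V z 𝓦 j Y) (i : ι) : z i ∈ zl B Y := ZN.zc_le_zl (o.z_zc i)

theorem Lam_le (o : Co F S B Q M X L V z 𝓦 j Y) : Lam z j ≤ zc B :=
  iSup_le fun i => iSup_le fun _ => (zpowers_le).2 (o.z_zc i)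

theorem YLam (o : Co F S B Q M X L V z 𝓦 j Y) : Y ≤ centralizer (Lam z j : Set G) := by
  rw [le_centralizer_iff]
  refine iSup_le fun i => iSup_le fun hi => (zpowers_le).2 ?_
  exact mem_centralizer_iff.2 fun y hy => o.cen y hy i hi

theorem Lam_cv (o : Co F S B Q M X L V z 𝓦 j Y) : Lam z j ≤ cv B Y :=
  le_inf (o.Lam_le.trans ZN.zc_le_zl) (le_centralizer_iff.1 ((oddGen_le Y).trans o.YLam))

/-- `W = ⟨z_j^Y⟩` -/
def Wj (_o : Co F S B Q M X L V z 𝓦 j Y) : Subgroup G := cl (zpowers (z j)) Y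

theorem YW (o : Co F S B Q M X L V z 𝓦 j Y) : Y ≤ normalizer (o.Wj : Set G) := le_normalizer_cl _ _

theorem z_W (o : Co F S B Q M X L V z 𝓦 j Y) : z j ∈ o.Wj := le_cl _ _ (mem_zpowers _)

theorem gen (o : Co F S B Q M X L V z 𝓦 j Y) {U : Subgroup G} (h1 : z j ∈ U) (h2 : Y ≤ normalizer (U : Set G)) :
    o.Wj ≤ U := cl_le fun y hy => by
  rw [← cj_eq_of_mem_normalizer (h2 hy)]
  exact cj_mono y ((zpowers_le).2 h1)

theorem W_le (o : Co F S B Q M X L V z 𝓦 j Y) : o.Wj ≤ zl B Y := o.gen (o.z_U j) o.YU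

theorem zc_le_sup (o : Co F S B Q M X L V z 𝓦 j Y) {U : Subgroup G} (h1 : z j ∈ U) (h2 : Lam z j ≤ U) : zc B ≤ U := by
  rw [o.zcB]
  refine iSup_le fun i => ?_
  by_cases hi : i = j
  · subst hi
    exact (zpowers_le).2 h1
  · exact le_trans (le_trans (le_iSup (fun _ : i ≠ j => zpowers (z i)) hi)
      (le_iSup (fun i => ⨆ (_ : i ≠ j), zpowers (z i)) i)) h2

theorem U_le (o : Co F S B Q M X L V z 𝓦 j Y) : zl B Y ≤ o.Wj ⊔ Lam z j := by
  refine ZN.zl_le (o.zc_le_sup (mem_sup_left o.z_W) le_sup_right) fun y hy => ?_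
  rw [mem_normalizer_iff_cj]
  have h1 : cj y (o.Wj ⊔ Lam z j) = cj y o.Wj ⊔ cj y (Lam z j) := Subgroup.map_sup _ _ _
  rw [h1, cj_eq_of_mem_normalizer (o.YW hy), cj_eq_of_mem_normalizer (centralizer_le_normalizer _ (o.YLam hy))]

theorem exists_W (o : Co F S B Q M X L V z 𝓦 j Y) {u : G} (hu : u ∈ zl B Y) : ∃ w ∈ o.Wj, ∃ l ∈ Lam z j, u = w * l :=
  mem_sup_comm (fun w hw l hl => o.U_comm w (o.W_le hw) l (o.cv_le (o.Lam_cv hl))) (o.U_le hu)

theorem e_W (o : Co F S B Q M X L V z 𝓦 j Y) (x : Fin 2 → F) : ∃ w ∈ o.Wj, o.e w = x := by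
  obtain ⟨v, hv, rfl⟩ := o.e_surj x
  obtain ⟨w, hw, l, hl, rfl⟩ := o.exists_W hv
  refine ⟨w, hw, ?_⟩
  rw [o.e_mul (o.W_le hw) (o.cv_le (o.Lam_cv hl)), (o.e_ker (o.cv_le (o.Lam_cv hl))).2 (o.Lam_cv hl), add_zero]

theorem z_cv (o : Co F S B Q M X L V z 𝓦 j Y) : z j ∉ cv B Y := by
  intro h
  have h1 : zl B Y ≤ cv B Y := o.U_le.trans (sup_le (o.gen h o.Dn) o.Lam_cv)
  exact o.odd_not (cent_symm (h1.trans inf_le_right))

/-- `C_B(W) ≤ O₂(Y)` -/
theorem capW (o : Co F S B Q M X L V z 𝓦 j Y) {x : G} (hx : x ∈ B)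
    (h : ∀ w ∈ o.Wj, x * w * x⁻¹ * w⁻¹ ∈ cv B Y) : x ∈ o2 Y := by
  refine o.cap' hx fun v hv => ?_
  obtain ⟨w, hw, l, hl, rfl⟩ := o.exists_W hv
  have h1 : x * l = l * x := (mem_centralizer_iff.1 (o.YLam (o.BY hx)) l hl).symm
  have e1 : x * (w * l) * x⁻¹ * (w * l)⁻¹ = x * w * x⁻¹ * w⁻¹ := by
    have h2 : l * x⁻¹ = x⁻¹ * l := by
      calc l * x⁻¹ = x⁻¹ * (x * l) * x⁻¹ := by group
        _ = x⁻¹ * (l * x) * x⁻¹ := by rw [h1]
        _ = x⁻¹ * l := by group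
    calc x * (w * l) * x⁻¹ * (w * l)⁻¹ = x * w * (l * x⁻¹) * l⁻¹ * w⁻¹ := by group
      _ = x * w * (x⁻¹ * l) * l⁻¹ * w⁻¹ := by rw [h2]
      _ = _ := by group
  rw [e1]
  exact h w hw

theorem o2W (o : Co F S B Q M X L V z 𝓦 j Y) {x : G} (hx : x ∈ B) :
    x ∈ o2 Y ↔ ∀ w ∈ o.Wj, x * w = w * x := by
  refine ⟨fun h w hw => o.o2_cent h (o.W_le hw), fun h => o.capW hx fun w hw => ?_⟩
  rw [h w hw, mul_inv_cancel_right, mul_inv_cancel]
  exact one_mem _

theorem cardW [Finite F] (o : Co F S B Q M X L V z 𝓦 j Y) :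
    Nat.card o.Wj = 16 * Nat.card ↥(o.Wj ⊓ cv B Y) := by
  rw [card_of_hom (L := o.Wj ⊓ cv B Y) inf_le_left o.e
    (fun v hv w hw => o.e_mul (o.W_le hv) (o.W_le hw)) o.e_W
    (fun v hv => (o.e_ker (o.W_le hv)).trans ⟨fun h => ⟨hv, h⟩, fun h => h.2⟩)]
  rw [Nat.card_fun, o.c4]
  simp
  ring

/-! ### The root group -/

theorem up_of (o : Co F S B Q M X L V z 𝓦 j Y) {q : G} (hq : q ∈ Q) :
    ∃ b : F, (∀ v ∈ zl B Y, o.e (q * v * q⁻¹) = ap (up b) (o.e v)) ∧ ∀ d ∈ cv B Y, q * d = d * q := by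
  obtain ⟨b, h1, h2⟩ := o.rt q hq
  exact ⟨b, fun v hv => h1 v hv 0, h2⟩

theorem e_comm (o : Co F S B Q M X L V z 𝓦 j Y) {q : G} (hq : q ∈ Y) {b : F}
    (h : ∀ v ∈ zl B Y, o.e (q * v * q⁻¹) = ap (up b) (o.e v)) {v : G} (hv : v ∈ zl B Y) :
    o.e (q * v * q⁻¹ * v⁻¹) = ![b * o.e v 1, 0] := by
  rw [o.e_div (o.Un hq hv) hv, h v hv]
  apply ext2
  · rw [Pi.sub_apply, ap_zero', up_00, up_01]; simp
  · rw [Pi.sub_apply, ap_one', up_10, up_11]; simp

/-- a vector with coordinates `(0, 1)` -/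
theorem exists_w1 (o : Co F S B Q M X L V z 𝓦 j Y) : ∃ w ∈ o.Wj, o.e w = ![0, 1] := o.e_W _

open Classical in
/-- the coordinate of `q` in the root group -/
noncomputable def bb (o : Co F S B Q M X L V z 𝓦 j Y) (q : G) : F :=
  o.e (q * o.exists_w1.choose * q⁻¹) 0

theorem bb_eq (o : Co F S B Q M X L V z 𝓦 j Y) {q : G} {b : F}
    (h : ∀ v ∈ zl B Y, o.e (q * v * q⁻¹) = ap (up b) (o.e v)) : o.bb q = b := by
  have h1 := o.exists_w1.choose_spec
  unfold bb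
  rw [h _ (o.W_le h1.1), h1.2, ap_zero', up_00, up_01]
  simp

theorem bb_spec (o : Co F S B Q M X L V z 𝓦 j Y) {q : G} (hq : q ∈ Q) :
    ∀ v ∈ zl B Y, o.e (q * v * q⁻¹) = ap (up (o.bb q)) (o.e v) := by
  obtain ⟨b, h1, -⟩ := o.up_of hq
  rw [o.bb_eq h1]
  exact h1

theorem bb_mul (o : Co F S B Q M X L V z 𝓦 j Y) {p q : G} (hp : p ∈ Q) (hq : q ∈ Q) :
    o.bb (p * q) = o.bb p + o.bb q := by
  refine o.bb_eq fun v hv => ?_
  have e1 : p * q * v * (p * q)⁻¹ = p * (q * v * q⁻¹) * p⁻¹ := by group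
  rw [e1, o.bb_spec hp _ (o.Un (o.QY hq) hv), o.bb_spec hq v hv, ← ap_mul, up_mul]

theorem bb_ker (o : Co F S B Q M X L V z 𝓦 j Y) {q : G} (hq : q ∈ Q) : o.bb q = 0 ↔ q ∈ o2 Y := by
  constructor
  · intro h
    refine o.cap' (o.cx.QB hq) fun v hv => ?_
    rw [← o.e_ker (mul_mem (o.Un (o.QY hq) hv) (inv_mem hv)), o.e_comm (o.QY hq) (o.bb_spec hq) hv, h]
    simp
  · intro h
    refine o.bb_eq fun v hv => ?_
    rw [o.o2_cent h hv, mul_inv_cancel_right, up_zero, ap_one]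

end Co

/-- a homomorphism with small kernel is onto -/
theorem surj_of_card {G : Type*} [Group G] [Finite G] {B : Type*} [AddCommGroup B] [Finite B] {K L : Subgroup G}
    (f : G → B) (hf : ∀ v ∈ K, ∀ w ∈ K, f (v * w) = f v + f w) (hk : ∀ v ∈ K, f v = 0 → v ∈ L)
    (hc : Nat.card L * Nat.card B ≤ Nat.card K) (c : B) : ∃ v ∈ K, f v = c := by
  let φ : K →* Multiplicative B := MonoidHom.mk' (fun v => Multiplicative.ofAdd (f v)) (by
    rintro ⟨v, hv⟩ ⟨w, hw⟩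
    exact congrArg Multiplicative.ofAdd (hf v hv w hw))
  have hfin : Finite (Multiplicative B) := inferInstanceAs (Finite B)
  have h1 : Nat.card φ.ker * Nat.card φ.range = Nat.card K := by
    rw [← Subgroup.index_ker, Subgroup.card_mul_index]
  have h3 : Nat.card φ.ker ≤ Nat.card L := by
    refine Nat.card_le_card_of_injective (fun v : φ.ker => (⟨v.1.1, hk v.1.1 v.1.2 ?_⟩ : L)) ?_
    · exact congrArg Multiplicative.toAdd (MonoidHom.mem_ker.1 v.2)
    · intro v w h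
      have h0 : v.1.1 = w.1.1 := congrArg (fun x : L => (x : G)) h
      exact Subtype.ext (Subtype.ext h0)
  have h4 : Nat.card B ≤ Nat.card φ.range := by
    have h5 : Nat.card L * Nat.card B ≤ Nat.card L * Nat.card φ.range := by
      rw [← h1] at hc
      exact hc.trans (Nat.mul_le_mul_right _ h3)
    exact Nat.le_of_mul_le_mul_left h5 Nat.card_pos
  have h6 : φ.range = ⊤ := by
    refine Subgroup.eq_top_of_le_card _ ?_
    exact h4
  obtain ⟨v, hv⟩ := (MonoidHom.range_eq_top.1 h6) (Multiplicative.ofAdd c)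
  exact ⟨v.1, v.2, congrArg Multiplicative.toAdd hv⟩

namespace Co

variable [Finite G] {F : Type} [Field F] {S B Q M X L : Subgroup G} {V : ι → Subgroup G} {z : ι → G}
  {𝓦 : Set (Subgroup G)} {j : ι} {Y : Subgroup G} (o : Co F S B Q M X L V z 𝓦 j Y)

theorem BYLam (o : Co F S B Q M X L V z 𝓦 j Y) : B ≤ centralizer (Lam z j : Set G) := o.BY.trans o.YLam

theorem sylC (o : Co F S B Q M X L V z 𝓦 j Y) : Syl B (centralizer (Lam z j : Set G)) := by
  refine ⟨o.BYLam, o.B2, fun T hT h2 hBT => le_antisymm (o.cx.sylB j T h2 hBT fun i hi x hx => ?_) hBT⟩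
  refine (mem_centralizer_iff.1 (hT hx) (z i) ?_).symm
  exact le_trans (le_iSup (fun _ : i ≠ j => zpowers (z i)) hi)
      (le_iSup (fun i => ⨆ (_ : i ≠ j), zpowers (z i)) i) (mem_zpowers _)

/-- `W ≤ O₂(C_G(Λ_j))` -/
theorem W_o2 (o : Co F S B Q M X L V z 𝓦 j Y) : o.Wj ≤ o2 (centralizer (Lam z j : Set G)) := by
  have hB : o2 (centralizer (Lam z j : Set G)) ≤ B := ChoiceSit.o2_le_syl o.sylC
  refine o.gen ?_ (o.YLam.trans (MinSimple.VModule.le_normalizer_o2 _))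
  have h2 : IsPGroup 2 (Lam z j) := o.B2.to_le (o.Lam_le.trans (ZN.zc_le _))
  have h1 : Lam z j ≠ ⊥ := by
    obtain ⟨i, hi⟩ := o.two
    intro h
    have h3 : z i ∈ Lam z j := le_trans (le_iSup (fun _ : i ≠ j => zpowers (z i)) hi)
      (le_iSup (fun i => ⨆ (_ : i ≠ j), zpowers (z i)) i) (mem_zpowers _)
    rw [h, mem_bot] at h3
    exact o.cx.z1 i h3
  refine NOne.LemmaT.char2_centralizer o.cx.char2 h2 h1 ⟨?_, ?_⟩
  · exact o.BYLam (ZN.zc_le _ (o.z_zc j))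
  · exact mem_centralizer_iff.2 fun x hx => (ChoiceBase.mem_zc.1 (o.z_zc j)).2.2 x (hB hx)

theorem U_X (o : Co F S B Q M X L V z 𝓦 j Y) : zl B Y ≤ X := ZN.zl_le o.zX (o.YM.trans o.cx.MX)

theorem W_X (o : Co F S B Q M X L V z 𝓦 j Y) : o.Wj ≤ X := o.W_le.trans o.U_X

/-- **`Q` induces the full root group.** -/
theorem full [Finite F] (o : Co F S B Q M X L V z 𝓦 j Y) (b : F) : ∃ q ∈ Q, o.bb q = b := by
  obtain ⟨A, hA, hAS, hAQ, hAY⟩ := o.act
  have h1 := o.best A hA hAS o.Wj o.W_X o.W_o2 (A ⊓ centralizer (o.Wj : Set G)) inf_le_left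
  have e1 : o.Wj ⊓ centralizer ((A ⊓ centralizer (o.Wj : Set G) : Subgroup G) : Set G) = o.Wj :=
    inf_eq_left.2 (le_centralizer_iff.1 inf_le_right)
  rw [e1] at h1
  -- the line
  let ℓ : Subgroup G :=
    { carrier := {w | w ∈ o.Wj ∧ o.e w 1 = 0}
      mul_mem' := by
        rintro x y ⟨hx, hx'⟩ ⟨hy, hy'⟩
        refine ⟨mul_mem hx hy, ?_⟩
        rw [o.e_mul (o.W_le hx) (o.W_le hy), Pi.add_apply, hx', hy', add_zero]
      one_mem' := ⟨one_mem _, by rw [o.e_one]; rfl⟩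
      inv_mem' := by
        rintro x ⟨hx, hx'⟩
        refine ⟨inv_mem hx, ?_⟩
        rw [o.e_inv (o.W_le hx), Pi.neg_apply, hx', neg_zero] }
  have c1 : Nat.card o.Wj = Nat.card ℓ * Nat.card F := by
    refine card_of_hom (fun w hw => hw.1) (fun w => o.e w 1) (fun v hv w hw => ?_) (fun x => ?_) fun v hv => ?_
    · rw [o.e_mul (o.W_le hv) (o.W_le hw)]; rfl
    · obtain ⟨w, hw, e⟩ := o.e_W ![0, x]
      exact ⟨w, hw, by rw [e]; rfl⟩
    · exact ⟨fun h => ⟨hv, h⟩, fun h => h.2⟩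
  obtain ⟨a, ha, haY⟩ := SetLike.not_le_iff_exists.1 hAY
  have hle : o.Wj ⊓ centralizer (A : Set G) ≤ ℓ := by
    rintro w ⟨hw, hwA⟩
    refine ⟨hw, ?_⟩
    have h2 := o.e_comm (o.QY (hAQ ha)) (o.bb_spec (hAQ ha)) (o.W_le hw)
    have h3 : a * w * a⁻¹ * w⁻¹ = 1 := by
      rw [mem_centralizer_iff.1 hwA a ha]; group
    rw [h3, o.e_one] at h2
    have h4 := congrFun h2 0
    have h5 : o.bb a * o.e w 1 = 0 := by simpa using h4.symm
    rcases mul_eq_zero.1 h5 with h6 | h6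
    · exact absurd ((o.bb_ker (hAQ ha)).1 h6) haY
    · exact h6
  have c2 : Nat.card ↥(A ⊓ centralizer (o.Wj : Set G)) * Nat.card F ≤ Nat.card A := by
    have p1 : 0 < Nat.card ℓ := Nat.card_pos
    refine Nat.le_of_mul_le_mul_right (c := Nat.card ℓ) ?_ p1
    calc _ = Nat.card ↥(A ⊓ centralizer (o.Wj : Set G)) * Nat.card o.Wj := by rw [c1]; ring
      _ ≤ _ := h1
      _ ≤ _ := Nat.mul_le_mul_left _ (Subgroup.card_le_of_le hle)
  obtain ⟨q, hq, h2⟩ := surj_of_card (K := A) (L := A ⊓ centralizer (o.Wj : Set G)) o.bb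
    (fun v hv w hw => o.bb_mul (hAQ hv) (hAQ hw))
    (fun v hv h0 => ⟨hv, mem_centralizer_iff.2 fun w hw =>
      (o.o2_cent ((o.bb_ker (hAQ hv)).1 h0) (o.W_le hw)).symm⟩) c2 b
  exact ⟨q, hAQ hq, h2⟩

theorem cardQ [Finite F] (o : Co F S B Q M X L V z 𝓦 j Y) :
    Nat.card Q = 4 * Nat.card ↥(Q ⊓ centralizer (o.Wj : Set G)) := by
  rw [card_of_hom (L := Q ⊓ centralizer (o.Wj : Set G)) inf_le_left o.bb (fun v hv w hw => o.bb_mul hv hw) o.full
    (fun v hv => (o.bb_ker hv).trans ⟨fun h => ⟨hv, mem_centralizer_iff.2 fun w hw =>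
      (o.o2_cent h (o.W_le hw)).symm⟩, fun h => (o.o2W (o.cx.QB hv)).2 fun w hw =>
        (mem_centralizer_iff.1 h.2 w hw).symm⟩), o.c4, mul_comm]

/-! ### The torus -/

/-- `Y ∩ C(U / C_U(O²(Y)))` -/
def Kr (o : Co F S B Q M X L V z 𝓦 j Y) : Subgroup G := kmod Y (zl B Y) (cv B Y) o.YU o.Dn

theorem mem_Kr (o : Co F S B Q M X L V z 𝓦 j Y) {x : G} : x ∈ o.Kr ↔ x ∈ Y ∧ ∀ v ∈ zl B Y, o.e (x * v * x⁻¹) = o.e v := by
  unfold Kr
  rw [mem_kmod]
  refine and_congr_right fun hx => forall₂_congr fun v hv => ?_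
  rw [← o.e_ker (mul_mem (o.Un hx hv) (inv_mem hv)), o.e_div (o.Un hx hv) hv, sub_eq_zero]

theorem Kr_le (o : Co F S B Q M X L V z 𝓦 j Y) : o.Kr ≤ Y := kmod_le

theorem Kr_norm (o : Co F S B Q M X L V z 𝓦 j Y) : Y ≤ normalizer (o.Kr : Set G) := norm_kmod _ _

/-- `B ∩ C(U / C_U(O²(Y))) = O₂(Y)` -/
theorem B_Kr (o : Co F S B Q M X L V z 𝓦 j Y) : B ⊓ o.Kr ≤ o2 Y := by
  rintro x ⟨hx, hk⟩
  exact o.cap' hx (mem_kmod.1 hk).2

theorem o2_Kr (o : Co F S B Q M X L V z 𝓦 j Y) : o2 Y ≤ o.Kr := fun x hx =>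
  o.mem_Kr.2 ⟨MinSimple.VModule.o2_le Y hx, fun v hv => by rw [o.o2_cent hx hv, mul_inv_cancel_right]⟩

theorem o2_B (o : Co F S B Q M X L V z 𝓦 j Y) : o2 Y ≤ B := ChoiceSit.o2_le_syl o.syl

/-- `Q O₂(Y)` is a Sylow 2-subgroup of `Q O₂(Y) Kr` -/
theorem sylR (o : Co F S B Q M X L V z 𝓦 j Y) : Syl (Q ⊔ o2 Y) ((Q ⊔ o2 Y) ⊔ o.Kr) := by
  have hRB : Q ⊔ o2 Y ≤ B := sup_le o.cx.QB o.o2_B
  have hs : Syl (B ⊓ o.Kr) o.Kr := SQ1.FFOne.syl_inf o.syl o.Kr_le fun h hh n hn => conj_mem' o.Kr_norm hh hn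
  refine ⟨le_sup_left, o.B2.to_le hRB, fun T hT h2 hRT => le_antisymm (fun t ht => ?_) hRT⟩
  have hTK : T ⊓ o.Kr = B ⊓ o.Kr := hs.2.2 _ inf_le_right (h2.to_le inf_le_left)
    (le_inf ((o.B_Kr.trans le_sup_right).trans hRT) inf_le_right)
  obtain ⟨r, hr, κ, hκ, rfl⟩ := mem_sup_norm (fun r hr => o.Kr_norm (o.BY (hRB hr))) (hT ht)
  have h3 : κ ∈ T ⊓ o.Kr := by
    refine ⟨?_, hκ⟩
    have h4 := mul_mem (inv_mem (hRT hr)) ht
    rwa [inv_mul_cancel_left] at h4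
  rw [hTK] at h3
  exact mul_mem hr ((o.B_Kr.trans le_sup_right) h3)

/-- **`d ∈ N_Y(Q)` of odd order, acting as `diag(a, a⁻¹)`** -/
theorem exists_d [Finite F] [CharP F 2] (o : Co F S B Q M X L V z 𝓦 j Y) : ∃ d ∈ Y, d ∈ normalizer (Q : Set G) ∧ Odd (orderOf d) ∧
    ∃ a : F, a ≠ 0 ∧ a ≠ 1 ∧ ∀ v ∈ zl B Y, o.e (d * v * d⁻¹) = ![a * o.e v 0, a⁻¹ * o.e v 1] := by
  classical
  have hRB : Q ⊔ o2 Y ≤ B := sup_le o.cx.QB o.o2_B
  have hRY := hRB.trans o.BY
  -- `a`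
  obtain ⟨a, ha0, ha1⟩ : ∃ a : F, a ≠ 0 ∧ a ≠ 1 := by
    have := Fintype.ofFinite F
    have h4 : Fintype.card F = 4 := by rw [← Nat.card_eq_fintype_card]; exact o.c4
    by_contra hcon
    push Not at hcon
    have h5 : (Finset.univ : Finset F) ⊆ {0, 1} := fun x _ => by
      by_cases hx : x = 0
      · simp [hx]
      · simp [hcon x hx]
    have h6 := Finset.card_le_card h5
    rw [Finset.card_univ, h4] at h6
    have h7 : ({0, 1} : Finset F).card ≤ 2 := Finset.card_le_two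
    omega
  have ha3 : a ^ 3 = 1 := by
    have := Fintype.ofFinite F
    have h4 : Fintype.card F = 4 := by rw [← Nat.card_eq_fintype_card]; exact o.c4
    have h5 := FiniteField.pow_card_sub_one_eq_one a ha0
    rwa [h4] at h5
  obtain ⟨g, hg, hga⟩ := o.e_lift (dg a ha0)
  have hga' : ∀ v ∈ zl B Y, o.e (g * v * g⁻¹) = ![a * o.e v 0, a⁻¹ * o.e v 1] := by
    intro v hv
    rw [hga v hv]
    apply ext2
    · rw [ap_zero', dg_00, dg_01]; simp
    · rw [ap_one', dg_10, dg_11]; simp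
  set H : Subgroup G := (Q ⊔ o2 Y) ⊔ o.Kr with hH
  -- `g` normalises `H`
  have hgH : cj g H = H := by
    refine cj_eq_of_mem_normalizer (mem_normalizer_of_cj_le ?_)
    have h1 : cj g H = (cj g Q ⊔ cj g (o2 Y)) ⊔ cj g o.Kr := by
      rw [hH]
      unfold cj
      rw [Subgroup.map_sup, Subgroup.map_sup]
    rw [h1, cj_eq_of_mem_normalizer (MinSimple.VModule.le_normalizer_o2 Y hg), cj_eq_of_mem_normalizer (o.Kr_norm hg)]
    refine sup_le (sup_le ?_ (le_sup_of_le_left le_sup_right)) le_sup_right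
    rintro _ ⟨q, hq, rfl⟩
    change g * q * g⁻¹ ∈ H
    obtain ⟨q', hq', hb⟩ := o.full (a ^ 2 * o.bb q)
    have hgq : g * q * g⁻¹ ∈ Y := mul_mem (mul_mem hg (o.QY hq)) (inv_mem hg)
    have h2 : (g * q * g⁻¹) * q'⁻¹ ∈ o.Kr := by
      refine o.mem_Kr.2 ⟨mul_mem hgq (inv_mem (o.QY hq')), fun v hv => ?_⟩
      have hv1 : q'⁻¹ * v * q' ∈ zl B Y := by
        have := o.Un (inv_mem (o.QY hq')) hv
        rwa [inv_inv] at this
      have hv2 : g⁻¹ * (q'⁻¹ * v * q') * g ∈ zl B Y := by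
        have := o.Un (inv_mem hg) hv1
        rwa [inv_inv] at this
      set u := g⁻¹ * (q'⁻¹ * v * q') * g with hu
      have e1 : g * q * g⁻¹ * q'⁻¹ * v * (g * q * g⁻¹ * q'⁻¹)⁻¹ = g * (q * u * q⁻¹) * g⁻¹ := by
        rw [hu]; group
      have e2 : v = q' * (g * u * g⁻¹) * q'⁻¹ := by rw [hu]; group
      have h3 := hga' _ (o.Un (o.QY hq) hv2)
      rw [e1, h3, o.bb_spec hq u hv2]
      conv_rhs => rw [e2]
      rw [o.bb_spec hq' _ (o.Un hg hv2), hb, hga' u hv2]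
      apply ext2
      · rw [ap_zero', ap_zero']
        simp only [up_00, up_01, Matrix.cons_val_zero, Matrix.cons_val_one, Matrix.cons_val_fin_one]
        field_simp
      · rw [ap_one', ap_one', up_10, up_11]
        simp
    have h3 : g * q * g⁻¹ = (g * q * g⁻¹ * q'⁻¹) * q' := by group
    rw [h3]
    exact mul_mem (mem_sup_right h2) (mem_sup_left (mem_sup_left hq'))
  -- Frattini
  have hs := o.sylR
  rw [← hH] at hs
  have hs' : Syl (cj g (Q ⊔ o2 Y)) H := by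
    refine ⟨by rw [← hgH]; exact cj_mono g hs.1, isPGroup_cj g hs.2.1, fun T hT h2 hle => ?_⟩
    have h3 : cj g⁻¹ T = Q ⊔ o2 Y := by
      refine hs.2.2 _ ?_ (isPGroup_cj _ h2) ?_
      · have := cj_mono g⁻¹ hT
        rwa [← hgH, cj_inv_cj] at this
      · have := cj_mono g⁻¹ hle
        rwa [cj_inv_cj] at this
    rw [← h3, cj_cj_inv]
  obtain ⟨x, hx, hxR⟩ := syl_conj hs' hs
  obtain ⟨r, hr, κ, hκ, rfl⟩ := mem_sup_norm (fun r hr => o.Kr_norm (hRY hr)) hx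
  set d₀ := κ * g with hd₀
  have hd₀Y : d₀ ∈ Y := mul_mem (o.Kr_le hκ) hg
  have hd₀R : cj d₀ (Q ⊔ o2 Y) = Q ⊔ o2 Y := by
    have h1 : cj r (cj d₀ (Q ⊔ o2 Y)) = Q ⊔ o2 Y := by
      rw [cj_cj, hd₀, ← mul_assoc, ← cj_cj]
      exact hxR
    have h2 := congrArg (cj r⁻¹) h1
    rw [cj_inv_cj] at h2
    rw [h2]
    exact cj_eq_of_mem_normalizer (inv_mem (Subgroup.le_normalizer hr))
  have hd₀Q : d₀ ∈ normalizer (Q : Set G) := by
    rw [mem_normalizer_iff_cj]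
    refine o.cx.wc d₀ ?_
    refine (cj_mono d₀ (le_sup_left : Q ≤ Q ⊔ o2 Y)).trans ?_
    rw [hd₀R]
    exact hRB.trans o.cx.BS
  have hd₀e : ∀ v ∈ zl B Y, o.e (d₀ * v * d₀⁻¹) = ![a * o.e v 0, a⁻¹ * o.e v 1] := by
    intro v hv
    have e1 : d₀ * v * d₀⁻¹ = κ * (g * v * g⁻¹) * κ⁻¹ := by rw [hd₀]; group
    rw [e1, (o.mem_Kr.1 hκ).2 _ (o.Un hg hv), hga' v hv]
  have hpow : ∀ n : ℕ, ∀ v ∈ zl B Y, o.e (d₀ ^ n * v * (d₀ ^ n)⁻¹) = ![a ^ n * o.e v 0, (a ^ n)⁻¹ * o.e v 1] := by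
    intro n
    induction n with
    | zero =>
      intro v hv
      apply ext2 <;> simp
    | succ n ih =>
      intro v hv
      have e1 : d₀ ^ (n + 1) * v * (d₀ ^ (n + 1))⁻¹ = d₀ ^ n * (d₀ * v * d₀⁻¹) * (d₀ ^ n)⁻¹ := by
        rw [pow_succ]; group
      rw [e1, ih _ (o.Un hd₀Y hv), hd₀e v hv]
      apply ext2
      · simp only [Matrix.cons_val_zero]
        rw [pow_succ]; ring
      · simp only [Matrix.cons_val_one, Matrix.cons_val_fin_one]
        rw [pow_succ, mul_inv]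
        ring
  obtain ⟨m, r', hr', hm⟩ := Nat.exists_eq_two_pow_mul_odd (isOfFinOrder_of_finite d₀).orderOf_pos.ne'
  refine ⟨d₀ ^ 2 ^ m, pow_mem hd₀Y _, pow_mem hd₀Q _, ?_, a ^ 2 ^ m, pow_ne_zero _ ha0, fun h => ?_, hpow _⟩
  · have h1 : orderOf (d₀ ^ 2 ^ m) = r' := by
      rw [orderOf_pow_of_dvd (by positivity) ⟨r', hm⟩, hm]
      exact Nat.mul_div_cancel_left _ (by positivity)
    rw [h1]
    exact hr'
  · have h4 : orderOf a ∣ 2 ^ m := orderOf_dvd_of_pow_eq_one h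
    have h5 : orderOf a ∣ 3 := orderOf_dvd_of_pow_eq_one ha3
    have h6 : Nat.Coprime (2 ^ m) 3 := Nat.Coprime.pow_left _ (by norm_num)
    have h7 : orderOf a = 1 := Nat.eq_one_of_dvd_coprimes h6 h4 h5
    exact ha1 (orderOf_eq_one_iff.1 h7)

end Co

end Cfsg.Agent.Omega.NO3S.WY.Tor

end

section


/-!
# The torus on the product of the lines (helper425 #26033, the linear half)

`M : NatC F T H V D k`. `X0 M = {v ∈ V | ∀ i, e v i 1 = 0}` (the full preimage of the product of the lines), `D ≤ X0`.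

* `acts_one_of_comm` : a 2-element `q ∈ H` which normalises `X0` and commutes on `X0` with elements inducing all
  `diag(a_i)` acts trivially on `X0 / D`;
* `Ct M τ = {[τ,x] | x ∈ X0}` : for `τ` inducing `diag(c,c⁻¹)`, `c ≠ 1`, on every block: `Ct ⊓ D = ⊥`, `X0 = Ct ⊔ D`,
  `|Ct| = |F|^k`; `Ct_norm` : `T` normalises `Ct`; `cent_Ct` : such a `q` centralises `Ct`.
-/

set_option autoImplicit false
set_option linter.unusedSectionVars false
set_option linter.unusedVariables false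

namespace Cfsg.Agent.Omega.CaseLQ.TorLin

open Subgroup Cfsg Cfsg.Agent.ZN Cfsg.Agent.ZN.ChoiceBase Cfsg.Agent.ZN.ChoiceSit
open Cfsg.Agent.Omega.NatPair Cfsg.Agent.Lib.SL2Mat
open Cfsg.Agent.Omega.NO3S.OneLine (NatC)
open Cfsg.Agent.Omega.NO3S.OneLine.NatC (acts_mul acts_inv acts_one acts_unique)
open Cfsg.Agent.Omega.FFThm (ActsSL)

universe u

variable {G : Type u} [Group G] {F : Type} [Field F] {T H V D : Subgroup G} {k : ℕ} (M : NatC F T H V D k)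

/-- the full preimage of the product of the lines -/
def X0 : Subgroup G where
  carrier := {v | v ∈ V ∧ ∀ i, M.nat.e v i 1 = 0}
  mul_mem' := by
    rintro x y ⟨hx, hx'⟩ ⟨hy, hy'⟩
    refine ⟨mul_mem hx hy, fun i => ?_⟩
    rw [M.nat.mul x hx y hy, Pi.add_apply, Pi.add_apply, hx' i, hy' i, add_zero]
  one_mem' := ⟨one_mem _, fun i => by rw [M.map_one]; rfl⟩
  inv_mem' := by
    rintro x ⟨hx, hx'⟩
    refine ⟨inv_mem hx, fun i => ?_⟩
    rw [M.map_inv hx, Pi.neg_apply, Pi.neg_apply, hx' i, neg_zero]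

variable {M}

theorem mem_X0 {v : G} : v ∈ X0 M ↔ v ∈ V ∧ ∀ i, M.nat.e v i 1 = 0 := Iff.rfl

theorem X0_le : X0 M ≤ V := fun _ h => h.1

theorem D_le_X0 : D ≤ X0 M := fun d hd => ⟨M.DV hd, fun i => by
  rw [(M.nat.ker d (M.DV hd)).2 hd]; rfl⟩

/-- `T` normalises `X0` -/
theorem X0_of_T {t : G} (ht : t ∈ T) (htH : t ∈ H) {x : G} (hx : x ∈ X0 M) : t * x * t⁻¹ ∈ X0 M := by
  obtain ⟨σ, hσ⟩ := M.nat.line t ht
  refine ⟨M.Vn t htH x hx.1, fun i => ?_⟩
  have := (hσ x hx.1 (σ.symm i)).2 (hx.2 _)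
  rwa [σ.apply_symm_apply] at this

/-- elements of `X0` with given coordinates -/
theorem exists_X0 (y : Fin k → F) : ∃ x ∈ X0 M, ∀ i, M.nat.e x i 0 = y i := by
  obtain ⟨x, hx, hxe⟩ := M.nat.surj fun i => ![y i, 0]
  exact ⟨x, ⟨hx, fun i => by rw [hxe]; rfl⟩, fun i => by rw [hxe]; rfl⟩

theorem mem_D_of {x : G} (hx : x ∈ X0 M) (h : ∀ i, M.nat.e x i 0 = 0) : x ∈ D := by
  refine (M.nat.ker x hx.1).1 (funext fun i => ?_)
  funext j
  fin_cases j
  · exact h i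
  · exact hx.2 i

/-- `τ` induces `diag(a i, (a i)⁻¹)` on the lines and centralises `D`. -/
def Dg (M : NatC F T H V D k) (τ : G) (a : Fin k → F) : Prop :=
  (∀ x ∈ X0 M, τ * x * τ⁻¹ ∈ X0 M) ∧ (∀ x ∈ X0 M, ∀ i, M.nat.e (τ * x * τ⁻¹) i 0 = a i * M.nat.e x i 0) ∧
    ∀ d ∈ D, τ * d = d * τ

theorem comm_of {τ q : G} (hτX : ∀ x ∈ X0 M, τ * x * τ⁻¹ ∈ X0 M) (hqX : ∀ x ∈ X0 M, q * x * q⁻¹ ∈ X0 M)
    (h : ∀ x ∈ X0 M, (τ * q * τ⁻¹ * q⁻¹) * x = x * (τ * q * τ⁻¹ * q⁻¹)) {x : G} (hx : x ∈ X0 M) :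
    τ * (q * x * q⁻¹) * τ⁻¹ = q * (τ * x * τ⁻¹) * q⁻¹ := by
  have h1 := h _ (hqX _ (hτX x hx))
  have h2 : τ * q * τ⁻¹ * q⁻¹ * (q * (τ * x * τ⁻¹) * q⁻¹) = τ * (q * x * q⁻¹) * τ⁻¹ * (τ * q * τ⁻¹ * q⁻¹) := by group
  rw [h2] at h1
  exact mul_right_cancel h1

/-- **(a)** -/
theorem acts_one_of_comm [CharP F 2] {q : G} (hqH : q ∈ H) (hqX : ∀ x ∈ X0 M, q * x * q⁻¹ ∈ X0 M)
    (hq2 : ∃ n : ℕ, q ^ 2 ^ n = 1) {c : F} (hc0 : c ≠ 0) (hc1 : c ≠ 1)
    (h : ∀ a : Fin k → F, (∀ i, a i ≠ 0) → ∃ τ, Dg M τ a ∧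
      ∀ x ∈ X0 M, (τ * q * τ⁻¹ * q⁻¹) * x = x * (τ * q * τ⁻¹ * q⁻¹)) :
    ∀ x ∈ X0 M, q * x * q⁻¹ * x⁻¹ ∈ D := by
  classical
  obtain ⟨σ, hσ⟩ := M.nat.perm q hqH
  have key : ∀ a : Fin k → F, (∀ i, a i ≠ 0) → ∀ x ∈ X0 M, ∀ x' ∈ X0 M,
      (∀ i, M.nat.e x' i 0 = a i * M.nat.e x i 0) → ∀ i, M.nat.e (q * x' * q⁻¹) i 0 = a i * M.nat.e (q * x * q⁻¹) i 0 := by
    intro a ha x hx x' hx' hxx i
    obtain ⟨τ, ⟨hτX, hτ, hτD⟩, hτq⟩ := h a ha
    have h1 := comm_of hτX hqX hτq hx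
    have h2 : x' * (τ * x * τ⁻¹)⁻¹ ∈ D := by
      refine mem_D_of (mul_mem hx' (inv_mem (hτX x hx))) fun l => ?_
      rw [M.map_div hx'.1 (hτX x hx).1, Pi.sub_apply, Pi.sub_apply, hτ x hx l, hxx l, sub_self]
    have h3 := M.Dn q hqH _ h2
    have h4 : q * (x' * (τ * x * τ⁻¹)⁻¹) * q⁻¹ = (q * x' * q⁻¹) * (q * (τ * x * τ⁻¹) * q⁻¹)⁻¹ := by group
    rw [h4] at h3
    have h5 := (M.nat.ker _ (M.DV h3)).2 h3
    rw [M.map_div (hqX x' hx').1 (hqX _ (hτX x hx)).1, sub_eq_zero] at h5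
    rw [h5, ← h1, hτ _ (hqX x hx) i]
  -- `σ = 1`
  have hσ1 : ∀ i, σ i = i := by
    intro i
    by_contra hne
    obtain ⟨x, hx, hxe⟩ := exists_X0 (M := M) (Pi.single i 1)
    have h1 := key (Function.update 1 (σ i) c) (fun l => by
      by_cases hl : l = σ i
      · rw [hl, Function.update_self]; exact hc0
      · rw [Function.update_of_ne hl]; exact one_ne_zero) x hx x hx (fun l => by
        by_cases hl : l = σ i
        · rw [hl, hxe, Pi.single_eq_of_ne hne, mul_zero]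
        · rw [Function.update_of_ne hl, Pi.one_apply, one_mul]) (σ i)
    rw [Function.update_self] at h1
    have h2 : M.nat.e (q * x * q⁻¹) (σ i) 0 = 0 := by
      have h3 : (c - 1) * M.nat.e (q * x * q⁻¹) (σ i) 0 = 0 := by rw [sub_mul, one_mul, ← h1, sub_self]
      exact (mul_eq_zero.1 h3).resolve_left (sub_ne_zero.2 hc1)
    have h3 : M.nat.e (q * x * q⁻¹) (σ i) = 0 := by
      funext j
      fin_cases j
      · exact h2
      · exact (hqX x hx).2 _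
    have h4 := congrFun ((hσ x hx.1 i).1 h3) 0
    rw [hxe, Pi.single_eq_same] at h4
    exact one_ne_zero h4
  -- the scalar on each block
  have hsc : ∀ i, ∃ μ : F, ∀ x ∈ X0 M, M.nat.e (q * x * q⁻¹) i 0 = μ * M.nat.e x i 0 := by
    intro i
    obtain ⟨x₁, hx₁, hx₁e⟩ := exists_X0 (M := M) (fun _ => (1 : F))
    refine ⟨M.nat.e (q * x₁ * q⁻¹) i 0, fun x hx => ?_⟩
    -- reduce to vectors with `i`-th coordinate only
    have hred : ∀ x ∈ X0 M, ∀ x' ∈ X0 M, M.nat.e x i 0 = M.nat.e x' i 0 →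
        M.nat.e (q * x * q⁻¹) i 0 = M.nat.e (q * x' * q⁻¹) i 0 := by
      intro x hx x' hx' he
      have h1 : M.nat.e (x * x'⁻¹) i = 0 := by
        funext j
        rw [M.map_div hx.1 hx'.1, Pi.sub_apply, Pi.sub_apply]
        fin_cases j
        · exact sub_eq_zero.2 he
        · show M.nat.e x i 1 - M.nat.e x' i 1 = 0
          rw [hx.2, hx'.2, sub_zero]
      have h2 := (hσ _ (mul_mem hx.1 (inv_mem hx'.1)) i).2 h1
      rw [hσ1] at h2
      have h3 : q * (x * x'⁻¹) * q⁻¹ = (q * x * q⁻¹) * (q * x' * q⁻¹)⁻¹ := by group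
      rw [h3, M.map_div (hqX x hx).1 (hqX x' hx').1, Pi.sub_apply, sub_eq_zero] at h2
      rw [h2]
    by_cases h0 : M.nat.e x i 0 = 0
    · rw [h0, mul_zero, hred x hx 1 (one_mem _) (by rw [h0, M.map_one]; rfl)]
      rw [mul_one, mul_inv_cancel, M.map_one]; rfl
    · obtain ⟨x', hx', hx'e⟩ := exists_X0 (M := M) (fun _ => M.nat.e x i 0)
      rw [hred x hx x' hx' (hx'e i).symm, key (fun _ => M.nat.e x i 0) (fun _ => h0) x₁ hx₁ x' hx'
        (fun l => by rw [hx'e, hx₁e, mul_one]) i, mul_comm]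
  choose μ hμ using hsc
  have hμ1 : ∀ i, μ i = 1 := by
    intro i
    obtain ⟨n, hn⟩ := hq2
    obtain ⟨x₁, hx₁, hx₁e⟩ := exists_X0 (M := M) (fun _ => (1 : F))
    have hpow : ∀ m : ℕ, q ^ m * x₁ * (q ^ m)⁻¹ ∈ X0 M ∧ M.nat.e (q ^ m * x₁ * (q ^ m)⁻¹) i 0 = μ i ^ m := by
      intro m
      induction m with
      | zero =>
        rw [pow_zero, one_mul, inv_one, mul_one, pow_zero]
        exact ⟨hx₁, hx₁e i⟩
      | succ m ih =>
        have e1 : q ^ (m + 1) * x₁ * (q ^ (m + 1))⁻¹ = q * (q ^ m * x₁ * (q ^ m)⁻¹) * q⁻¹ := by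
          rw [pow_succ']; group
        rw [e1]
        exact ⟨hqX _ ih.1, by rw [hμ i _ ih.1, ih.2, pow_succ']⟩
    have h1 := (hpow (2 ^ n)).2
    rw [hn, one_mul, inv_one, mul_one, hx₁e] at h1
    have h2 : (μ i - 1) ^ 2 ^ n = 0 := by
      rw [sub_pow_char_pow, one_pow, ← h1, sub_self]
    exact sub_eq_zero.1 (pow_eq_zero_iff (pow_ne_zero n two_ne_zero) |>.1 h2)
  intro x hx
  refine mem_D_of (mul_mem (hqX x hx) (inv_mem hx)) fun i => ?_
  rw [M.map_div (hqX x hx).1 hx.1, Pi.sub_apply, Pi.sub_apply, hμ i x hx, hμ1 i, one_mul, sub_self]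

/-! ### `[X0, τ]` -/

theorem X0_comm {x y : G} (hx : x ∈ X0 M) (hy : y ∈ X0 M) : x * y = y * x := M.Vcomm hx.1 hy.1

variable (M) in
/-- `{[τ,x] | x ∈ X0}` -/
def Ct (τ : G) : Subgroup G where
  carrier := {y | ∃ x ∈ X0 M, τ * x * τ⁻¹ ∈ X0 M ∧ τ * x * τ⁻¹ * x⁻¹ = y}
  mul_mem' := by
    rintro _ _ ⟨x, hx, hx', rfl⟩ ⟨y, hy, hy', rfl⟩
    refine ⟨x * y, mul_mem hx hy, ?_, ?_⟩
    · have e : τ * (x * y) * τ⁻¹ = (τ * x * τ⁻¹) * (τ * y * τ⁻¹) := by group
      rw [e]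
      exact mul_mem hx' hy'
    · have h1 := X0_comm (mul_mem hy' (inv_mem hy)) (inv_mem hx)
      have e : τ * (x * y) * τ⁻¹ * (x * y)⁻¹ = (τ * x * τ⁻¹) * ((τ * y * τ⁻¹ * y⁻¹) * x⁻¹) := by group
      rw [e, h1]; group
  one_mem' := ⟨1, one_mem _, by rw [mul_one, mul_inv_cancel]; exact one_mem _, by group⟩
  inv_mem' := by
    rintro _ ⟨x, hx, hx', rfl⟩
    refine ⟨x⁻¹, inv_mem hx, ?_, ?_⟩
    · have e : τ * x⁻¹ * τ⁻¹ = (τ * x * τ⁻¹)⁻¹ := by group
      rw [e]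
      exact inv_mem hx'
    · have h1 := X0_comm (inv_mem hx') hx
      have e : τ * x⁻¹ * τ⁻¹ * x⁻¹⁻¹ = (τ * x * τ⁻¹)⁻¹ * x := by group
      rw [e, h1]; group

theorem Ct_le {τ : G} : Ct M τ ≤ X0 M := by
  rintro _ ⟨x, hx, hx', rfl⟩
  exact mul_mem hx' (inv_mem hx)

section tau

variable {τ : G} {a : Fin k → F} (hτ : Dg M τ a) (ha : ∀ i, a i ≠ 1)
include hτ

theorem mem_Ct {x : G} (hx : x ∈ X0 M) : τ * x * τ⁻¹ * x⁻¹ ∈ Ct M τ := ⟨x, hx, hτ.1 x hx, rfl⟩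

theorem e_Ct {x : G} (hx : x ∈ X0 M) (i : Fin k) :
    M.nat.e (τ * x * τ⁻¹ * x⁻¹) i 0 = (a i - 1) * M.nat.e x i 0 := by
  rw [M.map_div (hτ.1 x hx).1 hx.1, Pi.sub_apply, Pi.sub_apply, hτ.2.1 x hx i, sub_mul, one_mul]

include ha

theorem Ct_inf : Ct M τ ⊓ D = ⊥ := by
  rw [eq_bot_iff]
  rintro _ ⟨⟨x, hx, hx', rfl⟩, hD⟩
  rw [mem_bot]
  have h1 : x ∈ D := mem_D_of hx fun i => by
    have h2 := e_Ct hτ hx i
    have h4 : τ * x * τ⁻¹ * x⁻¹ ∈ V := mul_mem hx'.1 (inv_mem hx.1)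
    rw [(M.nat.ker _ h4).2 hD] at h2
    exact (mul_eq_zero.1 h2.symm).resolve_left (sub_ne_zero.2 (ha i))
  rw [hτ.2.2 x h1]; group

/-- every element of `X0` is an element of `Ct` times an element of `D` -/
theorem exists_Ct {x : G} (hx : x ∈ X0 M) : ∃ y ∈ Ct M τ, ∃ d ∈ D, x = y * d := by
  obtain ⟨x', hx', hxe⟩ := exists_X0 (M := M) fun i => (a i - 1)⁻¹ * M.nat.e x i 0
  refine ⟨_, mem_Ct hτ hx', (τ * x' * τ⁻¹ * x'⁻¹)⁻¹ * x, ?_, by group⟩
  have hk := Ct_le (mem_Ct hτ hx')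
  rw [X0_comm (inv_mem hk) hx]
  refine mem_D_of (mul_mem hx (inv_mem hk)) fun i => ?_
  rw [M.map_div hx.1 hk.1, Pi.sub_apply, Pi.sub_apply, e_Ct hτ hx' i, hxe i,
    mul_inv_cancel_left₀ (sub_ne_zero.2 (ha i)), sub_self]

theorem Ct_sup : Ct M τ ⊔ D = X0 M := by
  refine le_antisymm (sup_le Ct_le D_le_X0) fun x hx => ?_
  obtain ⟨y, hy, d, hd, rfl⟩ := exists_Ct hτ ha hx
  exact mul_mem (mem_sup_left hy) (mem_sup_right hd)

theorem card_Ct [Finite F] : Nat.card (Ct M τ) = Nat.card F ^ k := by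
  have h1 : Nat.card (Ct M τ) = Nat.card (⊥ : Subgroup G) * Nat.card (Fin k → F) := by
    refine NO3S.OneLine.card_of_hom bot_le (fun v i => M.nat.e v i 0) ?_ ?_ ?_
    · intro v hv w hw
      funext i
      rw [M.nat.mul v (Ct_le hv).1 w (Ct_le hw).1]; rfl
    · intro c
      obtain ⟨x, hx, hxe⟩ := exists_X0 (M := M) c
      obtain ⟨y, hy, d, hd, rfl⟩ := exists_Ct hτ ha hx
      refine ⟨y, hy, ?_⟩
      funext i
      rw [← hxe i, M.nat.mul y (Ct_le hy).1 d (M.DV hd), (M.nat.ker d (M.DV hd)).2 hd, add_zero]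
    · intro v hv
      constructor
      · intro h0
        have h2 : v ∈ Ct M τ ⊓ D := ⟨hv, mem_D_of (Ct_le hv) fun i => congrFun h0 i⟩
        rwa [Ct_inf hτ ha] at h2
      · intro h0
        rw [mem_bot.1 h0, M.map_one]
        rfl
  rw [h1, Nat.card_fun, Nat.card_fin, Subgroup.card_bot, one_mul]

omit ha in
/-- an element commuting with `τ` on `X0` normalises `Ct` -/
theorem Ct_of_comm {q : G} (hqX : ∀ x ∈ X0 M, q * x * q⁻¹ ∈ X0 M)
    (h : ∀ x ∈ X0 M, (τ * q * τ⁻¹ * q⁻¹) * x = x * (τ * q * τ⁻¹ * q⁻¹)) {y : G} (hy : y ∈ Ct M τ) :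
    q * y * q⁻¹ ∈ Ct M τ := by
  obtain ⟨x, hx, hx', rfl⟩ := hy
  refine ⟨q * x * q⁻¹, hqX x hx, hτ.1 _ (hqX x hx), ?_⟩
  rw [comm_of hτ.1 hqX h hx]
  group

/-- **(c)** such an element centralises `Ct`, if it acts trivially on `X0 / D` -/
theorem cent_Ct {q : G} (hq : ∀ x ∈ X0 M, q * x * q⁻¹ * x⁻¹ ∈ D) (hn : ∀ y ∈ Ct M τ, q * y * q⁻¹ ∈ Ct M τ) {y : G}
    (hy : y ∈ Ct M τ) : q * y = y * q := by
  have h1 : q * y * q⁻¹ * y⁻¹ ∈ Ct M τ ⊓ D := mem_inf.2 ⟨mul_mem (hn y hy) (inv_mem hy), hq y (Ct_le hy)⟩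
  rw [Ct_inf hτ ha, mem_bot] at h1
  exact mul_inv_eq_iff_eq_mul.1 (mul_inv_eq_one.1 h1)

/-- **(b)** `T` normalises `Ct`, if the elements acting as upper unitriangular matrices centralise `X0`. -/
theorem Ct_norm_T [Finite G] (hTH : T ≤ H) {A : Fin k → Matrix.SpecialLinearGroup (Fin 2) F} (hτH : τ ∈ H)
    (hA : M.Acts τ A) (hup : ∀ g ∈ H, ∀ b : Fin k → F, ActsSL M.nat.e V D g (fun i => up (b i)) →
      ∀ x ∈ X0 M, g * x = x * g) : T ≤ normalizer (Ct M τ : Set G) := by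
  have key : ∀ t ∈ T, ∀ y ∈ Ct M τ, t * y * t⁻¹ ∈ Ct M τ := by
    intro t ht y hy
    have htH := hTH ht
    have htX : ∀ x ∈ X0 M, t * x * t⁻¹ ∈ X0 M := fun x hx => X0_of_T ht htH hx
    have htX' : ∀ x ∈ X0 M, t⁻¹ * x * t⁻¹⁻¹ ∈ X0 M := fun x hx => X0_of_T (inv_mem ht) (inv_mem htH) hx
    set τ' := t * τ * t⁻¹ with hτ'
    have hτ'H : τ' ∈ H := mul_mem (mul_mem htH hτH) (inv_mem htH)
    obtain ⟨A', hA'⟩ := M.nat.norm t htH τ hτH A hA
    have hτ'X : ∀ x ∈ X0 M, τ' * x * τ'⁻¹ ∈ X0 M := by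
      intro x hx
      have e : τ' * x * τ'⁻¹ = t * (τ * (t⁻¹ * x * t⁻¹⁻¹) * τ⁻¹) * t⁻¹ := by rw [hτ']; group
      rw [e]
      exact htX _ (hτ.1 _ (htX' x hx))
    have hτ'D : ∀ d ∈ D, τ' * d = d * τ' := by
      intro d hd
      have h1 := hτ.2.2 _ (M.Dn t⁻¹ (inv_mem htH) d hd)
      rw [inv_inv] at h1
      calc τ' * d = t * (τ * (t⁻¹ * d * t)) * t⁻¹ := by rw [hτ']; group
        _ = t * (t⁻¹ * d * t * τ) * t⁻¹ := by rw [h1]
        _ = d * τ' := by rw [hτ']; group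
    -- lower left entries vanish
    have hlow : ∀ {g : G} {C : Fin k → Matrix.SpecialLinearGroup (Fin 2) F}, (∀ x ∈ X0 M, g * x * g⁻¹ ∈ X0 M) →
        M.Acts g C → ∀ i, ent (C i) 1 0 = 0 := by
      intro g C hgX hC i
      obtain ⟨x, hx, hxe⟩ := exists_X0 (M := M) (fun _ => (1 : F))
      have h1 := hC x hx.1 i
      have h2 := congrFun h1 1
      rw [(hgX x hx).2 i, ap_one', hxe, hx.2 i, mul_one, mul_zero, add_zero] at h2
      exact h2.symm
    have hlA := hlow hτ.1 hA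
    have hlA' := hlow hτ'X hA'
    -- the commutator is upper unitriangular
    set κ := τ * τ' * τ⁻¹ * τ'⁻¹ with hκ
    have hκH : κ ∈ H := mul_mem (mul_mem (mul_mem hτH hτ'H) (inv_mem hτH)) (inv_mem hτ'H)
    have hκA : M.Acts κ (A * A' * A⁻¹ * A'⁻¹) :=
      acts_mul (inv_mem hτ'H) (acts_mul (inv_mem hτH) (acts_mul hτ'H hA hA') (acts_inv hτH hA)) (acts_inv hτ'H hA')
    have hform : ∀ i, (A * A' * A⁻¹ * A'⁻¹) i = up (ent ((A * A' * A⁻¹ * A'⁻¹) i) 0 1) := by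
      intro i
      simp only [Pi.mul_apply, Pi.inv_apply]
      have dx := det_eq (A i)
      have dy := det_eq (A' i)
      rw [hlA i, mul_zero, sub_zero] at dx
      rw [hlA' i, mul_zero, sub_zero] at dy
      refine ext_ent ?_ ?_ ?_ ?_
      · rw [up_00]
        simp only [ent_mul, ent_inv (A i), ent_inv (A' i), mk_00, mk_01, mk_10, mk_11, hlA i, hlA' i]
        linear_combination ent (A' i) 0 0 * ent (A' i) 1 1 * dx + dy
      · rw [up_01]
      · rw [up_10]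
        simp only [ent_mul, ent_inv (A i), ent_inv (A' i), mk_00, mk_01, mk_10, mk_11, hlA i, hlA' i]
        ring
      · rw [up_11]
        simp only [ent_mul, ent_inv (A i), ent_inv (A' i), mk_00, mk_01, mk_10, mk_11, hlA i, hlA' i]
        linear_combination ent (A' i) 0 0 * ent (A' i) 1 1 * dx + dy
    have hκup : ActsSL M.nat.e V D κ (fun i => up (ent ((A * A' * A⁻¹ * A'⁻¹) i) 0 1)) := by
      refine ⟨fun v hv i => ?_, fun d hd => ?_⟩
      · show _ = ap (up (ent ((A * A' * A⁻¹ * A'⁻¹) i) 0 1)) (M.nat.e v i)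
        rw [← hform i]
        exact hκA v hv i
      · have e1 : Commute τ d := hτ.2.2 d hd
        have e2 : Commute τ' d := hτ'D d hd
        exact (((e1.mul_left e2).mul_left e1.inv_left).mul_left e2.inv_left).eq
    have hκX := hup κ hκH _ hκup
    -- `τ'` normalises `Ct`
    have hn' : ∀ y ∈ Ct M τ, τ' * y * τ'⁻¹ ∈ Ct M τ := fun y hy => Ct_of_comm hτ hτ'X hκX hy
    obtain ⟨x, hx, hx', rfl⟩ := hy
    -- `t [τ,x] t⁻¹ = [τ', t x t⁻¹]`
    have e : t * (τ * x * τ⁻¹ * x⁻¹) * t⁻¹ = τ' * (t * x * t⁻¹) * τ'⁻¹ * (t * x * t⁻¹)⁻¹ := by rw [hτ']; group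
    rw [e]
    obtain ⟨y, hy, d, hd, hyd⟩ := exists_Ct hτ ha (htX x hx)
    rw [hyd]
    have e2 : τ' * (y * d) * τ'⁻¹ * (y * d)⁻¹ = τ' * y * τ'⁻¹ * y⁻¹ := by
      have h1 : τ' * d * τ'⁻¹ = d := by rw [hτ'D d hd]; group
      calc τ' * (y * d) * τ'⁻¹ * (y * d)⁻¹ = (τ' * y * τ'⁻¹) * (τ' * d * τ'⁻¹) * d⁻¹ * y⁻¹ := by group
        _ = _ := by rw [h1]; group
    rw [e2]
    exact mul_mem (hn' y hy) (inv_mem hy)
  intro t ht
  rw [mem_normalizer_iff]
  refine fun y => ⟨key t ht y, fun hy => ?_⟩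
  have := key t⁻¹ (inv_mem ht) _ hy
  rwa [show t⁻¹ * (t * y * t⁻¹) * t⁻¹⁻¹ = y by group] at this

end tau

end Cfsg.Agent.Omega.CaseLQ.TorLin

end

section


/-!
# The `ψ`-trick over subgroups of a group (copy of helper707's `PsiG.lean` with `C i` for `centralizer (K i)`)

`FrN U T Q Tj N Z c C`: `T` acts by conjugation on the abelian group `U`; `c i` = root lines, `C i` = centralisers of the
blocks of `Y`;
`N ≤ U` the natural block of `V_P` with root line `Z`, `Tj / Q` its root group, `|Tj / Q| ≥ 4`. `FrN.false`.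
-/

set_option autoImplicit false
set_option linter.unusedSectionVars false

namespace Cfsg.Agent.Omega.CaseLQ.Psi

open Subgroup


local notation "cj" g:max H:max => Subgroup.map (MulEquiv.toMonoidHom (MulAut.conj g)) H

universe u w

variable {G : Type u} [Group G] {ι : Type w}

private theorem cj_one_n (H : Subgroup G) : cj (1 : G) H = H := by
  ext x
  simp

private theorem cj_cj_n (g h : G) (H : Subgroup G) : cj g (cj h H) = cj (g * h) H := by
  rw [Subgroup.map_map]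
  congr 1
  ext x
  simp [mul_assoc]

/-- **The frame of the `ψ`-trick** in a group. -/
structure FrN (U T Q Tj N Z : Subgroup G) (c C : ι → Subgroup G) : Prop where
  comm : ∀ x ∈ U, ∀ y ∈ U, x * y = y * x
  TU : T ≤ normalizer (U : Set G)
  QT : Q ≤ Tj
  TjT : Tj ≤ T
  Qn : T ≤ normalizer (Q : Set G)
  sq : ∀ t ∈ Tj, t * t ∈ Q
  four : ∀ t ∈ Tj, ∃ s ∈ Tj, s ∉ Q ∧ t⁻¹ * s ∉ Q
  perm : ∀ t ∈ T, ∀ i, ∃ m, cj t (c i) = c m ∧ cj t (C i) = C m
  cyc : ∀ i, ∃ g ∈ T, cj g (c i) = c i ∧ ∀ x ∈ T, cj x (c i) = c i →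
    ∃ n : ℤ, ∀ v ∈ c i, x * v * x⁻¹ = g ^ n * v * (g ^ n)⁻¹
  cU : ∀ i, c i ≤ U
  ne : ∀ i, c i ≠ ⊥
  inf : ∀ i, c i ⊓ C i = ⊥
  cm : ∀ i m, m ≠ i → c m ≤ C i
  NU : N ≤ U
  NT : Tj ≤ normalizer (N : Set G)
  NQ : N ≤ centralizer (Q : Set G)
  cov : ∀ i, N ≤ c i ⊔ (U ⊓ C i)
  ZN : Z ≤ N
  NZ : ¬ N ≤ Z
  cen : ∀ t ∈ Tj, t ∉ Q → ∀ n ∈ N, t * n * t⁻¹ = n → n ∈ Z
  Zc : Z ≤ centralizer (Tj : Set G)
  full : ∀ n ∈ N, n ∉ Z → ∀ z ∈ Z, ∃ t ∈ Tj, t * n * t⁻¹ * n⁻¹ = z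
  /-- `C_U(Q) ≤ N × L'` -/
  CQ : ∀ u ∈ U, u ∈ centralizer (Q : Set G) → ∃ n ∈ N, n⁻¹ * u ∈ centralizer (Tj : Set G)
  /-- `Z ≰ C(⟨K_i⟩)` -/
  nZ : ∃ i, ¬ Z ≤ C i

namespace FrN

variable {U T Q Tj N Z : Subgroup G} {c C : ι → Subgroup G} (h : FrN U T Q Tj N Z c C)
include h

theorem inj {i m : ι} (he : c i = c m) : i = m := by
  by_contra hne
  apply h.ne i
  rw [eq_bot_iff, ← h.inf m, he]
  refine le_inf le_rfl ?_
  rw [← he]
  exact h.cm m i hne

theorem exists_perm : ∃ σ : G → ι → ι, ∀ t ∈ T, ∀ i, cj t (c i) = c (σ t i) ∧ cj t (C i) = C (σ t i) := by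
  classical
  have h1 : ∀ (t : G) (i : ι), ∃ m, t ∈ T → cj t (c i) = c m ∧ cj t (C i) = C m := by
    intro t i
    by_cases ht : t ∈ T
    · obtain ⟨m, hm⟩ := h.perm t ht i
      exact ⟨m, fun _ => hm⟩
    · exact ⟨i, fun h => absurd h ht⟩
  choose σ hσ using h1
  exact ⟨σ, fun t ht i => hσ t i ht⟩

/-- **The `ψ`-trick**: contradiction. -/
theorem false [Finite ι] : False := by
  classical
  obtain ⟨σ, hσ⟩ := h.exists_perm
  let instU : CommGroup ↥U := { (inferInstance : Group ↥U) with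
    mul_comm := fun x y => Subtype.ext (h.comm _ x.2 _ y.2) }
  let actι : MulAction ↥T ι :=
    { smul := fun t i => σ t i
      one_smul := fun i => by
        refine h.inj ?_
        change c (σ ((1 : ↥T) : G) i) = _
        rw [← (hσ _ (1 : ↥T).2 i).1]
        rw [Subgroup.coe_one, cj_one_n]
      mul_smul := fun s t i => by
        refine h.inj ?_
        change c (σ ((s * t : ↥T) : G) i) = c (σ s (σ t i))
        rw [← (hσ _ (s * t).2 i).1, ← (hσ _ s.2 _).1, ← (hσ _ t.2 _).1, cj_cj_n]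
        rfl }
  have memU : ∀ (t : ↥T) (u : ↥U), (t : G) * u * (t : G)⁻¹ ∈ U := fun t u =>
    (mem_normalizer_iff.1 (h.TU t.2) _).1 u.2
  let actU : DistribMulAction ↥T (Additive ↥U) :=
    { smul := fun t u => Additive.ofMul (⟨(t : G) * (Additive.toMul u : ↥U) * (t : G)⁻¹, memU t _⟩ : ↥U)
      one_smul := fun u => by
        apply Additive.toMul.injective
        apply Subtype.ext
        change ((1 : ↥T) : G) * (Additive.toMul u : ↥U) * ((1 : ↥T) : G)⁻¹ = (Additive.toMul u : ↥U)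
        simp
      mul_smul := fun s t u => by
        apply Additive.toMul.injective
        apply Subtype.ext
        change ((s * t : ↥T) : G) * (Additive.toMul u : ↥U) * ((s * t : ↥T) : G)⁻¹ =
          (s : G) * ((t : G) * (Additive.toMul u : ↥U) * (t : G)⁻¹) * (s : G)⁻¹
        rw [Subgroup.coe_mul]
        group
      smul_zero := fun t => by
        apply Additive.toMul.injective
        apply Subtype.ext
        change (t : G) * ((1 : ↥U) : G) * (t : G)⁻¹ = ((1 : ↥U) : G)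
        simp
      smul_add := fun t u v => by
        apply Additive.toMul.injective
        apply Subtype.ext
        change (t : G) * ((Additive.toMul u * Additive.toMul v : ↥U) : G) * (t : G)⁻¹ =
          ((t : G) * (Additive.toMul u : ↥U) * (t : G)⁻¹) * ((t : G) * (Additive.toMul v : ↥U) * (t : G)⁻¹)
        rw [Subgroup.coe_mul]
        group }
  have smul_coe : ∀ (t : ↥T) (u : Additive ↥U),
      ((Additive.toMul (t • u) : ↥U) : G) = (t : G) * (Additive.toMul u : ↥U) * (t : G)⁻¹ := fun _ _ => rfl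
  let A : Subgroup G → AddSubgroup (Additive ↥U) := fun X => (X.subgroupOf U).toAddSubgroup
  have memA : ∀ (X : Subgroup G) (u : Additive ↥U), u ∈ A X ↔ ((Additive.toMul u : ↥U) : G) ∈ X := by
    intro X u
    rfl
  have sub_coe : ∀ u v : Additive ↥U, ((Additive.toMul (u - v) : ↥U) : G) =
      (Additive.toMul u : ↥U) * ((Additive.toMul v : ↥U) : G)⁻¹ := by
    intro u v
    rw [toMul_sub, div_eq_mul_inv]
    rfl
  have ext' : ∀ {u v : Additive ↥U}, ((Additive.toMul u : ↥U) : G) = (Additive.toMul v : ↥U) → u = v := by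
    intro u v huv
    exact Additive.toMul.injective (Subtype.ext huv)
  have σe : ∀ (t : ↥T) (i : ι), c (t • i) = cj (t : G) (c i) ∧ C (t • i) = cj (t : G) (C i) := fun t i =>
    ⟨((hσ _ t.2 i).1).symm, ((hσ _ t.2 i).2).symm⟩
  have stab : ∀ (t : ↥T) (i : ι), t • i = i ↔ cj (t : G) (c i) = c i := by
    intro t i
    constructor
    · intro hi
      rw [← (σe t i).1, hi]
    · intro hi
      exact h.inj (by rw [(σe t i).1, hi])
  have supU : ∀ X Y : Subgroup G, X ≤ U → Y ≤ U → ∀ u ∈ X ⊔ Y, ∃ x ∈ X, ∃ y ∈ Y, x * y = u := by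
    intro X Y hX hY
    let P : Subgroup G :=
      { carrier := {u | ∃ x ∈ X, ∃ y ∈ Y, x * y = u}
        one_mem' := ⟨1, one_mem _, 1, one_mem _, mul_one 1⟩
        mul_mem' := by
          rintro _ _ ⟨x, hx, y, hy, rfl⟩ ⟨x', hx', y', hy', rfl⟩
          refine ⟨x * x', mul_mem hx hx', y * y', mul_mem hy hy', ?_⟩
          have h1 := h.comm y (hY hy) x' (hX hx')
          calc x * x' * (y * y') = x * (x' * y) * y' := by group
            _ = x * (y * x') * y' := by rw [h1]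
            _ = _ := by group
        inv_mem' := by
          rintro _ ⟨x, hx, y, hy, rfl⟩
          refine ⟨x⁻¹, inv_mem hx, y⁻¹, inv_mem hy, ?_⟩
          rw [mul_inv_rev]
          exact h.comm _ (inv_mem (hX hx)) _ (inv_mem (hY hy)) }
    have h1 : X ⊔ Y ≤ P := sup_le (fun x hx => ⟨x, hx, 1, one_mem _, mul_one x⟩)
      (fun y hy => ⟨1, one_mem _, y, hy, one_mul y⟩)
    intro u hu
    exact h1 hu
  have commU : ∀ x ∈ U, ∀ y ∈ U, x * y⁻¹ = y⁻¹ * x := fun x hx y hy => h.comm x hx _ (inv_mem hy)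
  have H : Fr (fun i => A (c i)) (fun i => A (C i)) (Q.subgroupOf T) (Tj.subgroupOf T)
      (A N) (A Z) := by
    refine
      { QT := fun x hx => h.QT hx
        Qn := ⟨fun x hx t => ?_⟩
        sq := fun t ht => h.sq t ht
        four := fun t ht => ?_
        ct := fun t i x hx => ?_
        Ct := fun t i x hx => ?_
        cyc := fun i => ?_
        inf := fun i x hx hx' => ?_
        cm := fun i m hm x hx => h.cm i m hm hx
        NT := fun t ht n hn => ?_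
        NQ := fun g hg n hn => ?_
        cov := fun n hn i => ?_
        ZN := fun x hx => h.ZN hx
        NZ := fun hcon => h.NZ fun x hx => hcon (x := Additive.ofMul (⟨x, h.NU hx⟩ : ↥U)) hx
        cen := fun t ht htQ n hn hnt => ?_
        Zc := fun t ht z hz => ?_
        full := fun n hn hnZ z hz => ?_
        CQ := fun u hu => ?_
        nZ := ?_ }
    · exact (mem_normalizer_iff.1 (h.Qn t.2) _).1 hx
    · obtain ⟨s, hs, h1, h2⟩ := h.four t ht
      exact ⟨⟨s, h.TjT hs⟩, hs, h1, h2⟩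
    · rw [memA, smul_coe, (σe t i).1]
      exact ⟨_, hx, rfl⟩
    · rw [memA, smul_coe, (σe t i).2]
      exact ⟨_, hx, rfl⟩
    · obtain ⟨g, hg, hgi, hx⟩ := h.cyc i
      refine ⟨⟨g, hg⟩, (stab _ i).2 hgi, fun x hxi => ?_⟩
      obtain ⟨n, hn⟩ := hx x x.2 ((stab x i).1 hxi)
      refine ⟨n, fun v hv => ext' ?_⟩
      rw [smul_coe, smul_coe]
      have h1 : ((⟨g, hg⟩ ^ n : ↥T) : G) = g ^ n := Subgroup.coe_zpow _ _ _
      rw [h1]
      exact hn _ hv
    · apply ext'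
      have h1 : ((Additive.toMul x : ↥U) : G) ∈ c i ⊓ C i := ⟨hx, hx'⟩
      rw [h.inf i] at h1
      exact mem_bot.1 h1
    · rw [memA, smul_coe]
      exact (mem_normalizer_iff.1 (h.NT ht) _).1 hn
    · apply ext'
      rw [smul_coe]
      have h1 : (g : G) * (Additive.toMul n : ↥U) = (Additive.toMul n : ↥U) * g := h.NQ hn g hg
      rw [h1]; group
    · have h1 := h.cov i hn
      obtain ⟨x, hx, y, hy, hxy⟩ := supU (c i) (U ⊓ C i) (h.cU i) inf_le_left _ h1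
      refine ⟨Additive.ofMul (⟨x, h.cU i hx⟩ : ↥U), hx, ?_⟩
      rw [memA, sub_coe]
      have hxy' : x * y = ((Additive.toMul n : ↥U) : G) := hxy
      change ((Additive.toMul n : ↥U) : G) * x⁻¹ ∈ _
      rw [← hxy', h.comm x (h.cU i hx) y hy.1, mul_inv_cancel_right]
      exact hy.2
    · rw [memA]
      refine h.cen t ht (fun hq => htQ hq) _ hn ?_
      have := congrArg (fun u : Additive ↥U => ((Additive.toMul u : ↥U) : G)) hnt
      simpa [smul_coe] using this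
    · apply ext'
      rw [smul_coe]
      have h1 : (t : G) * (Additive.toMul z : ↥U) = (Additive.toMul z : ↥U) * t := h.Zc hz t ht
      rw [h1]; group
    · obtain ⟨t, ht, he⟩ := h.full _ hn (fun hz => hnZ hz) _ hz
      refine ⟨⟨t, h.TjT ht⟩, ht, ext' ?_⟩
      rw [sub_coe, smul_coe]
      exact he
    · have h1 : ((Additive.toMul u : ↥U) : G) ∈ centralizer (Q : Set G) := by
        intro g hg
        have h2 := congrArg (fun u : Additive ↥U => ((Additive.toMul u : ↥U) : G)) (hu ⟨g, h.TjT (h.QT hg)⟩ hg)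
        simp only [smul_coe] at h2
        change g * (Additive.toMul u : ↥U) = (Additive.toMul u : ↥U) * g
        change g * (Additive.toMul u : ↥U) * g⁻¹ = (Additive.toMul u : ↥U) at h2
        exact mul_inv_eq_iff_eq_mul.1 h2
      obtain ⟨n, hn, hnu⟩ := h.CQ _ (Additive.toMul u : ↥U).2 h1
      refine ⟨Additive.ofMul (⟨n, h.NU hn⟩ : ↥U), hn, fun t ht => ext' ?_⟩
      rw [smul_coe, sub_coe]
      change (t : G) * ((Additive.toMul u : ↥U) * n⁻¹) * (t : G)⁻¹ = (Additive.toMul u : ↥U) * n⁻¹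
      rw [commU _ (Additive.toMul u : ↥U).2 n (h.NU hn)]
      have h3 : (t : G) * (n⁻¹ * (Additive.toMul u : ↥U)) = n⁻¹ * (Additive.toMul u : ↥U) * t := hnu t ht
      rw [h3]; group
    · obtain ⟨i, hi⟩ := h.nZ
      obtain ⟨z, hz, hzi⟩ := SetLike.not_le_iff_exists.1 hi
      exact ⟨Additive.ofMul (⟨z, h.NU (h.ZN hz)⟩ : ↥U), hz, i, hzi⟩
  exact H.false

end FrN

end Cfsg.Agent.Omega.CaseLQ.Psi

end

section


/-!
# The `ψ`-trick over subgroups of a group (helper707 #24883)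

`FrG U T Q Tj N Z c K`: `T` acts by conjugation on the abelian group `U`; `c i` = root lines, `K i` = blocks of `Y`;
`N ≤ U` the natural block of `V_P` with root line `Z`, `Tj / Q` its root group, `|Tj / Q| ≥ 4`. `FrG.false`.
-/

set_option autoImplicit false
set_option linter.unusedSectionVars false

namespace Cfsg.Agent.Omega.CaseLQ.Psi

open Subgroup

/-- `cj g H` of `ZN.ChoiceBase`, literally. -/
local notation "cj" g:max H:max => Subgroup.map (MulEquiv.toMonoidHom (MulAut.conj g)) H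

universe u w

variable {G : Type u} [Group G] {ι : Type w}

private theorem cj_one' (H : Subgroup G) : cj (1 : G) H = H := by
  ext x
  simp

private theorem cj_cj' (g h : G) (H : Subgroup G) : cj g (cj h H) = cj (g * h) H := by
  rw [Subgroup.map_map]
  congr 1
  ext x
  simp [mul_assoc]

/-- **The frame of the `ψ`-trick** in a group. -/
structure FrG (U T Q Tj N Z : Subgroup G) (c K : ι → Subgroup G) : Prop where
  comm : ∀ x ∈ U, ∀ y ∈ U, x * y = y * x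
  TU : T ≤ normalizer (U : Set G)
  QT : Q ≤ Tj
  TjT : Tj ≤ T
  Qn : T ≤ normalizer (Q : Set G)
  sq : ∀ t ∈ Tj, t * t ∈ Q
  four : ∀ t ∈ Tj, ∃ s ∈ Tj, s ∉ Q ∧ t⁻¹ * s ∉ Q
  perm : ∀ t ∈ T, ∀ i, ∃ m, cj t (c i) = c m ∧ cj t (K i) = K m
  cyc : ∀ i, ∃ g ∈ T, cj g (c i) = c i ∧ ∀ x ∈ T, cj x (c i) = c i →
    ∃ n : ℤ, ∀ v ∈ c i, x * v * x⁻¹ = g ^ n * v * (g ^ n)⁻¹
  cU : ∀ i, c i ≤ U
  ne : ∀ i, c i ≠ ⊥
  inf : ∀ i, c i ⊓ centralizer (K i : Set G) = ⊥
  cm : ∀ i m, m ≠ i → c m ≤ centralizer (K i : Set G)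
  NU : N ≤ U
  NT : Tj ≤ normalizer (N : Set G)
  NQ : N ≤ centralizer (Q : Set G)
  cov : ∀ i, N ≤ c i ⊔ (U ⊓ centralizer (K i : Set G))
  ZN : Z ≤ N
  NZ : ¬ N ≤ Z
  cen : ∀ t ∈ Tj, t ∉ Q → ∀ n ∈ N, t * n * t⁻¹ = n → n ∈ Z
  Zc : Z ≤ centralizer (Tj : Set G)
  full : ∀ n ∈ N, n ∉ Z → ∀ z ∈ Z, ∃ t ∈ Tj, t * n * t⁻¹ * n⁻¹ = z
  /-- `C_U(Q) ≤ N × L'` -/
  CQ : ∀ u ∈ U, u ∈ centralizer (Q : Set G) → ∃ n ∈ N, n⁻¹ * u ∈ centralizer (Tj : Set G)
  /-- `Z ≰ C(⟨K_i⟩)` -/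
  nZ : ∃ i, ¬ Z ≤ centralizer (K i : Set G)

namespace FrG

variable {U T Q Tj N Z : Subgroup G} {c K : ι → Subgroup G} (h : FrG U T Q Tj N Z c K)
include h

theorem inj {i m : ι} (he : c i = c m) : i = m := by
  by_contra hne
  apply h.ne i
  rw [eq_bot_iff, ← h.inf m, he]
  refine le_inf le_rfl ?_
  rw [← he]
  exact h.cm m i hne

theorem exists_perm : ∃ σ : G → ι → ι, ∀ t ∈ T, ∀ i, cj t (c i) = c (σ t i) ∧ cj t (K i) = K (σ t i) := by
  classical
  have h1 : ∀ (t : G) (i : ι), ∃ m, t ∈ T → cj t (c i) = c m ∧ cj t (K i) = K m := by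
    intro t i
    by_cases ht : t ∈ T
    · obtain ⟨m, hm⟩ := h.perm t ht i
      exact ⟨m, fun _ => hm⟩
    · exact ⟨i, fun h => absurd h ht⟩
  choose σ hσ using h1
  exact ⟨σ, fun t ht i => hσ t i ht⟩

/-- **The `ψ`-trick**: contradiction. -/
theorem false [Finite ι] : False := by
  classical
  obtain ⟨σ, hσ⟩ := h.exists_perm
  let instU : CommGroup ↥U := { (inferInstance : Group ↥U) with
    mul_comm := fun x y => Subtype.ext (h.comm _ x.2 _ y.2) }
  let actι : MulAction ↥T ι :=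
    { smul := fun t i => σ t i
      one_smul := fun i => by
        refine h.inj ?_
        change c (σ ((1 : ↥T) : G) i) = _
        rw [← (hσ _ (1 : ↥T).2 i).1]
        rw [Subgroup.coe_one, cj_one']
      mul_smul := fun s t i => by
        refine h.inj ?_
        change c (σ ((s * t : ↥T) : G) i) = c (σ s (σ t i))
        rw [← (hσ _ (s * t).2 i).1, ← (hσ _ s.2 _).1, ← (hσ _ t.2 _).1, cj_cj']
        rfl }
  have memU : ∀ (t : ↥T) (u : ↥U), (t : G) * u * (t : G)⁻¹ ∈ U := fun t u =>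
    (mem_normalizer_iff.1 (h.TU t.2) _).1 u.2
  let actU : DistribMulAction ↥T (Additive ↥U) :=
    { smul := fun t u => Additive.ofMul (⟨(t : G) * (Additive.toMul u : ↥U) * (t : G)⁻¹, memU t _⟩ : ↥U)
      one_smul := fun u => by
        apply Additive.toMul.injective
        apply Subtype.ext
        change ((1 : ↥T) : G) * (Additive.toMul u : ↥U) * ((1 : ↥T) : G)⁻¹ = (Additive.toMul u : ↥U)
        simp
      mul_smul := fun s t u => by
        apply Additive.toMul.injective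
        apply Subtype.ext
        change ((s * t : ↥T) : G) * (Additive.toMul u : ↥U) * ((s * t : ↥T) : G)⁻¹ =
          (s : G) * ((t : G) * (Additive.toMul u : ↥U) * (t : G)⁻¹) * (s : G)⁻¹
        rw [Subgroup.coe_mul]
        group
      smul_zero := fun t => by
        apply Additive.toMul.injective
        apply Subtype.ext
        change (t : G) * ((1 : ↥U) : G) * (t : G)⁻¹ = ((1 : ↥U) : G)
        simp
      smul_add := fun t u v => by
        apply Additive.toMul.injective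
        apply Subtype.ext
        change (t : G) * ((Additive.toMul u * Additive.toMul v : ↥U) : G) * (t : G)⁻¹ =
          ((t : G) * (Additive.toMul u : ↥U) * (t : G)⁻¹) * ((t : G) * (Additive.toMul v : ↥U) * (t : G)⁻¹)
        rw [Subgroup.coe_mul]
        group }
  have smul_coe : ∀ (t : ↥T) (u : Additive ↥U),
      ((Additive.toMul (t • u) : ↥U) : G) = (t : G) * (Additive.toMul u : ↥U) * (t : G)⁻¹ := fun _ _ => rfl
  let A : Subgroup G → AddSubgroup (Additive ↥U) := fun X => (X.subgroupOf U).toAddSubgroup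
  have memA : ∀ (X : Subgroup G) (u : Additive ↥U), u ∈ A X ↔ ((Additive.toMul u : ↥U) : G) ∈ X := by
    intro X u
    rfl
  have sub_coe : ∀ u v : Additive ↥U, ((Additive.toMul (u - v) : ↥U) : G) =
      (Additive.toMul u : ↥U) * ((Additive.toMul v : ↥U) : G)⁻¹ := by
    intro u v
    rw [toMul_sub, div_eq_mul_inv]
    rfl
  have ext' : ∀ {u v : Additive ↥U}, ((Additive.toMul u : ↥U) : G) = (Additive.toMul v : ↥U) → u = v := by
    intro u v huv
    exact Additive.toMul.injective (Subtype.ext huv)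
  have σe : ∀ (t : ↥T) (i : ι), c (t • i) = cj (t : G) (c i) ∧ K (t • i) = cj (t : G) (K i) := fun t i =>
    ⟨((hσ _ t.2 i).1).symm, ((hσ _ t.2 i).2).symm⟩
  have stab : ∀ (t : ↥T) (i : ι), t • i = i ↔ cj (t : G) (c i) = c i := by
    intro t i
    constructor
    · intro hi
      rw [← (σe t i).1, hi]
    · intro hi
      exact h.inj (by rw [(σe t i).1, hi])
  have supU : ∀ X Y : Subgroup G, X ≤ U → Y ≤ U → ∀ u ∈ X ⊔ Y, ∃ x ∈ X, ∃ y ∈ Y, x * y = u := by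
    intro X Y hX hY
    let P : Subgroup G :=
      { carrier := {u | ∃ x ∈ X, ∃ y ∈ Y, x * y = u}
        one_mem' := ⟨1, one_mem _, 1, one_mem _, mul_one 1⟩
        mul_mem' := by
          rintro _ _ ⟨x, hx, y, hy, rfl⟩ ⟨x', hx', y', hy', rfl⟩
          refine ⟨x * x', mul_mem hx hx', y * y', mul_mem hy hy', ?_⟩
          have h1 := h.comm y (hY hy) x' (hX hx')
          calc x * x' * (y * y') = x * (x' * y) * y' := by group
            _ = x * (y * x') * y' := by rw [h1]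
            _ = _ := by group
        inv_mem' := by
          rintro _ ⟨x, hx, y, hy, rfl⟩
          refine ⟨x⁻¹, inv_mem hx, y⁻¹, inv_mem hy, ?_⟩
          rw [mul_inv_rev]
          exact h.comm _ (inv_mem (hX hx)) _ (inv_mem (hY hy)) }
    have h1 : X ⊔ Y ≤ P := sup_le (fun x hx => ⟨x, hx, 1, one_mem _, mul_one x⟩)
      (fun y hy => ⟨1, one_mem _, y, hy, one_mul y⟩)
    intro u hu
    exact h1 hu
  have commU : ∀ x ∈ U, ∀ y ∈ U, x * y⁻¹ = y⁻¹ * x := fun x hx y hy => h.comm x hx _ (inv_mem hy)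
  have H : Fr (fun i => A (c i)) (fun i => A (centralizer (K i : Set G))) (Q.subgroupOf T) (Tj.subgroupOf T)
      (A N) (A Z) := by
    refine
      { QT := fun x hx => h.QT hx
        Qn := ⟨fun x hx t => ?_⟩
        sq := fun t ht => h.sq t ht
        four := fun t ht => ?_
        ct := fun t i x hx => ?_
        Ct := fun t i x hx => ?_
        cyc := fun i => ?_
        inf := fun i x hx hx' => ?_
        cm := fun i m hm x hx => h.cm i m hm hx
        NT := fun t ht n hn => ?_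
        NQ := fun g hg n hn => ?_
        cov := fun n hn i => ?_
        ZN := fun x hx => h.ZN hx
        NZ := fun hcon => h.NZ fun x hx => hcon (x := Additive.ofMul (⟨x, h.NU hx⟩ : ↥U)) hx
        cen := fun t ht htQ n hn hnt => ?_
        Zc := fun t ht z hz => ?_
        full := fun n hn hnZ z hz => ?_
        CQ := fun u hu => ?_
        nZ := ?_ }
    · exact (mem_normalizer_iff.1 (h.Qn t.2) _).1 hx
    · obtain ⟨s, hs, h1, h2⟩ := h.four t ht
      exact ⟨⟨s, h.TjT hs⟩, hs, h1, h2⟩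
    · rw [memA, smul_coe, (σe t i).1]
      exact ⟨_, hx, rfl⟩
    · rw [memA, smul_coe, (σe t i).2]
      intro k hk
      obtain ⟨k', hk', rfl⟩ := hk
      have h1 : k' * (Additive.toMul x : ↥U) = (Additive.toMul x : ↥U) * k' := hx k' hk'
      change (t : G) * k' * (t : G)⁻¹ * ((t : G) * (Additive.toMul x : ↥U) * (t : G)⁻¹) =
        (t : G) * (Additive.toMul x : ↥U) * (t : G)⁻¹ * ((t : G) * k' * (t : G)⁻¹)
      calc (t : G) * k' * (t : G)⁻¹ * ((t : G) * (Additive.toMul x : ↥U) * (t : G)⁻¹)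
          = (t : G) * (k' * (Additive.toMul x : ↥U)) * (t : G)⁻¹ := by group
        _ = (t : G) * ((Additive.toMul x : ↥U) * k') * (t : G)⁻¹ := by rw [h1]
        _ = _ := by group
    · obtain ⟨g, hg, hgi, hx⟩ := h.cyc i
      refine ⟨⟨g, hg⟩, (stab _ i).2 hgi, fun x hxi => ?_⟩
      obtain ⟨n, hn⟩ := hx x x.2 ((stab x i).1 hxi)
      refine ⟨n, fun v hv => ext' ?_⟩
      rw [smul_coe, smul_coe]
      have h1 : ((⟨g, hg⟩ ^ n : ↥T) : G) = g ^ n := Subgroup.coe_zpow _ _ _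
      rw [h1]
      exact hn _ hv
    · apply ext'
      have h1 : ((Additive.toMul x : ↥U) : G) ∈ c i ⊓ centralizer (K i : Set G) := ⟨hx, hx'⟩
      rw [h.inf i] at h1
      exact mem_bot.1 h1
    · rw [memA, smul_coe]
      exact (mem_normalizer_iff.1 (h.NT ht) _).1 hn
    · apply ext'
      rw [smul_coe]
      have h1 : (g : G) * (Additive.toMul n : ↥U) = (Additive.toMul n : ↥U) * g := h.NQ hn g hg
      rw [h1]; group
    · have h1 := h.cov i hn
      obtain ⟨x, hx, y, hy, hxy⟩ := supU (c i) (U ⊓ centralizer (K i : Set G)) (h.cU i) inf_le_left _ h1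
      refine ⟨Additive.ofMul (⟨x, h.cU i hx⟩ : ↥U), hx, ?_⟩
      rw [memA, sub_coe]
      have hxy' : x * y = ((Additive.toMul n : ↥U) : G) := hxy
      change ((Additive.toMul n : ↥U) : G) * x⁻¹ ∈ _
      rw [← hxy', h.comm x (h.cU i hx) y hy.1, mul_inv_cancel_right]
      exact hy.2
    · rw [memA]
      refine h.cen t ht (fun hq => htQ hq) _ hn ?_
      have := congrArg (fun u : Additive ↥U => ((Additive.toMul u : ↥U) : G)) hnt
      simpa [smul_coe] using this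
    · apply ext'
      rw [smul_coe]
      have h1 : (t : G) * (Additive.toMul z : ↥U) = (Additive.toMul z : ↥U) * t := h.Zc hz t ht
      rw [h1]; group
    · obtain ⟨t, ht, he⟩ := h.full _ hn (fun hz => hnZ hz) _ hz
      refine ⟨⟨t, h.TjT ht⟩, ht, ext' ?_⟩
      rw [sub_coe, smul_coe]
      exact he
    · have h1 : ((Additive.toMul u : ↥U) : G) ∈ centralizer (Q : Set G) := by
        intro g hg
        have h2 := congrArg (fun u : Additive ↥U => ((Additive.toMul u : ↥U) : G)) (hu ⟨g, h.TjT (h.QT hg)⟩ hg)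
        simp only [smul_coe] at h2
        change g * (Additive.toMul u : ↥U) = (Additive.toMul u : ↥U) * g
        change g * (Additive.toMul u : ↥U) * g⁻¹ = (Additive.toMul u : ↥U) at h2
        exact mul_inv_eq_iff_eq_mul.1 h2
      obtain ⟨n, hn, hnu⟩ := h.CQ _ (Additive.toMul u : ↥U).2 h1
      refine ⟨Additive.ofMul (⟨n, h.NU hn⟩ : ↥U), hn, fun t ht => ext' ?_⟩
      rw [smul_coe, sub_coe]
      change (t : G) * ((Additive.toMul u : ↥U) * n⁻¹) * (t : G)⁻¹ = (Additive.toMul u : ↥U) * n⁻¹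
      rw [commU _ (Additive.toMul u : ↥U).2 n (h.NU hn)]
      have h3 : (t : G) * (n⁻¹ * (Additive.toMul u : ↥U)) = n⁻¹ * (Additive.toMul u : ↥U) * t := hnu t ht
      rw [h3]; group
    · obtain ⟨i, hi⟩ := h.nZ
      obtain ⟨z, hz, hzi⟩ := SetLike.not_le_iff_exists.1 hi
      exact ⟨Additive.ofMul (⟨z, h.NU (h.ZN hz)⟩ : ↥U), hz, i, hzi⟩
  exact H.false

end FrG

end Cfsg.Agent.Omega.CaseLQ.Psi

end
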