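import Cfsg.Agent.Mrg.Omega.CaseLQ.OneY
import Mathlib
import Cfsg.Agent.ZN.CaseTwo

section


/-!
# CaseL, weird `Y`, (ii): the active members of the class (base)

`T` a Sylow 2-subgroup of the minimal parabolic `Y` of characteristic 2, `V = ⟨Ω₁(Z(T))^Y⟩ ≤ U`; `E ≤ T` a maximal
offender of least rank on `U` (`MaxMin U H E`), `E ≰ O₂(Y)`.

* `YF H U T Y E` : this situation; `YF.no` : no over-offender; `YF.mo` : `MinOff U H E`; `YF.cut` : `C_E(V) ≤ C(U)`;
* `YF.split` : `U = V C_U(E)`; `YF.cap`, `YF.cap'` : `C_T(V), C_T(V / C_V(O²(Y))) ≤ O₂(Y)`;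
* `YF.odd_le` : `O²(Y) ≤ ⟨E^Y⟩`; `YF.cl_comm` : `[U, ⟨E^Y⟩] ≤ V`;
* `YD U T N Z c K` : the data of `Y` in the ψ-trick (`Psi.FrG`).
-/

set_option autoImplicit false
set_option linter.unusedSectionVars false

namespace Cfsg.Agent.Omega.CaseLQ

open Subgroup Cfsg Cfsg.Agent.ZN Cfsg.Agent.ZN.ChoiceBase
open Cfsg.Agent.ZN.ChoiceSit (Syl)
open Cfsg.Agent.MinSimple.MinParabolic (IsMinPar)
open Cfsg.Agent.MinSimple.VModule (oddGen oddGen_le mem_oddGen)
open Cfsg.Agent.Omega.FFThm (OffM ElemM NoOverM NatK NatKM SymKM ActsSL ActsSym StmtM)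
open Cfsg.Agent.Omega.FrameFF (cv)
open Cfsg.Agent.Omega.NO3S.RedC (MaxMin)
open Cfsg.Agent.Omega.NO3S.Level (MinOff)
open Cfsg.Agent.Omega.NO3b.EZero (cl cj_le_cl le_cl cl_le le_normalizer_cl cent_symm cj_cent)
open Cfsg.Agent.Omega.NO3b.K0 (conj_mem' cj_of_le cj_self min_or)
open Cfsg.Agent.Omega.NO3S.NotFF (le_normalizer_of_forall)
open Cfsg.Agent.Omega.SQ1.Bau (mem_sup_comm card_sup_comm mem_sup_norm)
open Cfsg.Agent.Omega.SQ1.FFOne (MinH)
open Cfsg.Agent.Omega.NO3S.Fld (kmod mem_kmod norm_kmod kmod_le relIndex_mul_card relIndex_le_of_map relIndex_mul_of)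

universe u w

variable {G : Type u} [Group G]

/-- **the data of `Y` in the ψ-trick** (the eight fields of `Psi.FrG` on `c`, `K`). -/
structure YD {ι : Type w} (U T N Z : Subgroup G) (c K : ι → Subgroup G) : Prop where
  perm : ∀ t ∈ T, ∀ i, ∃ m, cj t (c i) = c m ∧ cj t (K i) = K m
  cyc : ∀ i, ∃ g ∈ T, cj g (c i) = c i ∧ ∀ x ∈ T, cj x (c i) = c i →
    ∃ n : ℤ, ∀ v ∈ c i, x * v * x⁻¹ = g ^ n * v * (g ^ n)⁻¹
  cU : ∀ i, c i ≤ U
  ne : ∀ i, c i ≠ ⊥
  inf : ∀ i, c i ⊓ centralizer (K i : Set G) = ⊥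
  cm : ∀ i m, m ≠ i → c m ≤ centralizer (K i : Set G)
  cov : ∀ i, N ≤ c i ⊔ (U ⊓ centralizer (K i : Set G))
  nZ : ∃ i, ¬ Z ≤ centralizer (K i : Set G)

variable [Finite G] {H U T Y E : Subgroup G}

/-- **The situation** of (ii). -/
structure YF (H U T Y E : Subgroup G) : Prop where
  Uc : U ≤ centralizer (U : Set G)
  Us : ∀ u ∈ U, u ^ 2 = 1
  HU : H ≤ normalizer (U : Set G)
  syl : Syl T Y
  min : IsMinPar T Y
  c2 : Y ⊓ centralizer (o2 Y : Set G) ≤ o2 Y
  mv : ¬ Y ≤ centralizer (zc T : Set G)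
  YH : Y ≤ H
  VU : zl T Y ≤ U
  ET : E ≤ T
  m : MaxMin U H E
  EY : ¬ E ≤ o2 Y

namespace YF

variable (o : YF H U T Y E)
include o

theorem TY : T ≤ Y := o.syl.1

theorem T2 : IsPGroup 2 T := o.syl.2.1

theorem hm : MinH Y T := SQ1.FFOne.minH_of o.syl o.min o.c2

theorem YV : Y ≤ normalizer (zl T Y : Set G) := MinSimple.VModule.le_normalizer_zl T Y

theorem V_comm : ∀ v ∈ zl T Y, ∀ w ∈ zl T Y, v * w = w * v := SQ1.VOf.MinH.comm o.hm

theorem odd_not : ¬ oddGen Y ≤ centralizer (zl T Y : Set G) := by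
  intro h0
  apply o.mv
  have h1 := NO3b.EZero.oddGen_sup_syl o.syl
  rw [← h1]
  refine sup_le (h0.trans (centralizer_le SQ1.VOf.zc_le_zl)) (cent_symm ?_)
  intro z hz
  exact mem_centralizer_iff.2 fun t ht => (ChoiceBase.mem_zc.1 hz).2.2 t ht

/-- `C_T(V) ≤ O₂(Y)` -/
theorem cap : T ⊓ centralizer (zl T Y : Set G) ≤ o2 Y := by
  have hYY : Y ≤ normalizer ((Y ⊓ centralizer (zl T Y : Set G) : Subgroup G) : Set G) :=
    NO3b.EZero.le_normalizer_inf_cent o.YV
  rcases min_or o.syl o.min (K := Y ⊓ centralizer (zl T Y : Set G)) inf_le_left hYY with h2 | h2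
  · exact absurd (h2.trans inf_le_right) o.odd_not
  · exact (le_inf inf_le_left (le_inf (inf_le_left.trans o.TY) inf_le_right)).trans h2

/-- `C_T(V / C_V(O²(Y))) ≤ O₂(Y)` -/
theorem cap' {x : G} (hx : x ∈ T) (h : ∀ v ∈ zl T Y, x * v * x⁻¹ * v⁻¹ ∈ cv T Y) : x ∈ o2 Y := by
  have hD : Y ≤ normalizer (cv T Y : Set G) := le_normalizer_of_forall fun g hg d hd => SQ1.FFOf.cv_norm g hg d hd
  rcases min_or o.syl o.min (K := kmod Y (zl T Y) (cv T Y) o.YV hD) kmod_le (norm_kmod _ _) with h2 | h2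
  · refine absurd ?_ o.odd_not
    have hcl : oddGen Y = closure {x : G | x ∈ Y ∧ Odd (orderOf x)} := rfl
    rw [hcl, closure_le]
    rintro g ⟨hg, ho⟩
    have hgo : g ∈ oddGen Y := mem_oddGen hg ho
    refine mem_centralizer_iff.2 fun v hv => ?_
    have h3 := (mem_kmod.1 (h2 hgo)).2 v hv
    set d := g * v * g⁻¹ * v⁻¹ with hd
    have hgd : g * d = d * g := mem_centralizer_iff.1 h3.2 g hgo
    have h4 : ∀ n : ℕ, g ^ n * v * (g ^ n)⁻¹ = d ^ n * v := by
      intro n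
      induction n with
      | zero => simp
      | succ n ih =>
        have e1 : g ^ (n + 1) * v * (g ^ (n + 1))⁻¹ = g * (g ^ n * v * (g ^ n)⁻¹) * g⁻¹ := by
          rw [pow_succ']; group
        have e2 : g * (d ^ n * v) * g⁻¹ = (g * d ^ n * g⁻¹) * (g * v * g⁻¹) := by group
        have e3 : g * d ^ n * g⁻¹ = d ^ n := by
          have : Commute g (d ^ n) := (show Commute g d from hgd).pow_right n
          rw [this.eq, mul_inv_cancel_right]
        have e4 : g * v * g⁻¹ = d * v := by rw [hd]; group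
        rw [e1, ih, e2, e3, e4, pow_succ, ← mul_assoc]
    have h5 := h4 (orderOf g)
    rw [pow_orderOf_eq_one, one_mul, inv_one, mul_one] at h5
    have h6 : d ^ orderOf g = 1 := (mul_eq_right.1 h5.symm)
    have h7 : d ^ 2 = 1 := SQ1.VOf.MinH.sq o.hm d h3.1
    obtain ⟨r, hr⟩ := ho
    rw [hr, pow_succ, pow_mul, h7, one_pow, one_mul] at h6
    have e5 : g * v = d * v * g := by rw [hd]; group
    rw [e5, h6, one_mul]
  · exact h2 ⟨hx, mem_kmod.2 ⟨o.TY hx, h⟩⟩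

theorem ne : ¬ E ≤ centralizer (zl T Y : Set G) := fun h => o.EY ((le_inf o.ET h).trans o.cap)

theorem off : OffM (zl T Y) E where
  sq := fun a ha => centralizer_le o.VU (o.m.elem.sq a ha)
  comm := fun a ha b hb => centralizer_le o.VU (o.m.elem.comm a ha b hb)
  ne := o.ne
  le := FFThm.relIndex_le_iff.2 (o.m.off o.Uc o.VU)

theorem U_mul {x y : G} (hx : x ∈ U) (hy : y ∈ U) : x * y = y * x := mem_centralizer_iff.1 (o.Uc hy) x hx

/-- `U = V C_U(E)` -/
theorem split (noV : NoOverM (zl T Y) Y) : ∀ u ∈ U, ∃ v ∈ zl T Y, ∃ c ∈ U ⊓ centralizer (E : Set G), u = v * c := by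
  have hno := noV E (o.ET.trans o.TY) o.off.toElemM
  obtain ⟨no, mo⟩ := o.m.minOff o.HU o.VU hno o.ne
  have hcut := mo.cut o.VU hno o.ne
  set N := zl T Y with hN
  have i0 : (centralizer (U : Set G)).relIndex E = (centralizer (E : Set G)).relIndex U :=
    le_antisymm (FFThm.relIndex_le_iff.1 (no E o.m.le o.m.elem)) (o.m.off o.Uc le_rfl)
  have i1 : (centralizer (N : Set G)).relIndex E ≤ (centralizer (E : Set G)).relIndex N :=
    FFThm.relIndex_le_iff.1 hno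
  have e1 : (centralizer (N : Set G)).relIndex E = (centralizer (U : Set G)).relIndex E := by
    rw [← inf_relIndex_right, ← inf_relIndex_right (centralizer (U : Set G))]
    congr 1
    refine le_antisymm (le_inf ?_ inf_le_right) (inf_le_inf_right _ (centralizer_le o.VU))
    rw [inf_comm]
    exact hcut
  have i2 : (centralizer (E : Set G)).relIndex U ≤ (centralizer (E : Set G)).relIndex N := by
    rw [← i0, ← e1]
    exact i1
  set K := U ⊓ centralizer (E : Set G) with hK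
  have hcom' : ∀ x ∈ N, ∀ y ∈ K, x * y = y * x := fun x hx y hy => o.U_mul (o.VU hx) hy.1
  have e2 : N ⊓ K = N ⊓ centralizer (E : Set G) := by
    rw [hK, ← inf_assoc, inf_eq_left.2 o.VU]
  have c1 := card_sup_comm hcom'
  rw [e2] at c1
  have c2 := relIndex_mul_card N (centralizer (E : Set G))
  have c3 := relIndex_mul_card U (centralizer (E : Set G))
  have hsup : N ⊔ K = U := by
    refine Subgroup.eq_of_le_of_card_ge (sup_le o.VU inf_le_left) ?_
    have p1 : 0 < Nat.card ↥(N ⊓ centralizer (E : Set G)) := Nat.card_pos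
    refine Nat.le_of_mul_le_mul_right (c := Nat.card ↥(N ⊓ centralizer (E : Set G))) ?_ p1
    calc Nat.card U * Nat.card ↥(N ⊓ centralizer (E : Set G))
        = (centralizer (E : Set G)).relIndex U * (Nat.card K * Nat.card ↥(N ⊓ centralizer (E : Set G))) := by
          rw [← c3, ← hK]; ring
      _ ≤ (centralizer (E : Set G)).relIndex N * (Nat.card K * Nat.card ↥(N ⊓ centralizer (E : Set G))) :=
          Nat.mul_le_mul_right _ i2
      _ = Nat.card N * Nat.card K := by rw [← c2]; ring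
      _ = _ := c1.symm
  intro u hu
  exact mem_sup_comm hcom' (hsup ▸ hu : u ∈ N ⊔ K)

/-- `[e, vc] = [e, v]` -/
theorem comm_split {e v c : G} (he : e ∈ E) (hc : c ∈ U ⊓ centralizer (E : Set G)) :
    e * (v * c) * e⁻¹ * (v * c)⁻¹ = e * v * e⁻¹ * v⁻¹ := by
  have e3 : e * (v * c) * e⁻¹ * (v * c)⁻¹ = e * v * (c * e⁻¹ * c⁻¹) * v⁻¹ := by group
  have e4 : c * e⁻¹ * c⁻¹ = e⁻¹ := by
    have h2 := mem_centralizer_iff.1 hc.2 e⁻¹ (inv_mem he)
    rw [← h2]
    group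
  rw [e3, e4]

/-- no over-offender -/
theorem no (noV : NoOverM (zl T Y) Y) : NoOverM U H :=
  (o.m.minOff o.HU o.VU (noV E (o.ET.trans o.TY) o.off.toElemM) o.ne).1

/-- `E` is a minimal offender -/
theorem mo (noV : NoOverM (zl T Y) Y) : MinOff U H E :=
  (o.m.minOff o.HU o.VU (noV E (o.ET.trans o.TY) o.off.toElemM) o.ne).2

/-- the cut -/
theorem cut (noV : NoOverM (zl T Y) Y) : E ⊓ centralizer (zl T Y : Set G) ≤ centralizer (U : Set G) :=
  (o.mo noV).cut o.VU (noV E (o.ET.trans o.TY) o.off.toElemM) o.ne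

/-- `O²(Y) ≤ ⟨E^Y⟩` -/
theorem odd_le : oddGen Y ≤ cl E Y := by
  have h1 : cl E Y ≤ Y := cl_le fun p hp => by
    have h2 := cj_mono p (o.ET.trans o.TY)
    rwa [cj_eq_of_mem_normalizer (le_normalizer hp)] at h2
  rcases min_or o.syl o.min h1 (le_normalizer_cl _ _) with h2 | h2
  · exact h2
  · exact absurd ((le_inf o.ET (le_cl E Y)).trans h2) o.EY

/-- `[U, ⟨E^Y⟩] ≤ V` -/
theorem cl_comm (noV : NoOverM (zl T Y) Y) : CommIn (cl E Y) U (zl T Y) := by
  have hYU : Y ≤ normalizer (U : Set G) := o.YH.trans o.HU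
  have h1 : cl E Y ≤ kmod Y U (zl T Y) hYU o.YV := cl_le fun p hp => by
    have h2 : E ≤ kmod Y U (zl T Y) hYU o.YV := fun e he => by
      refine mem_kmod.2 ⟨o.TY (o.ET he), fun u hu => ?_⟩
      obtain ⟨v, hv, c, hc, rfl⟩ := o.split noV u hu
      rw [o.comm_split he hc]
      exact mul_mem (conj_mem' o.YV (o.TY (o.ET he)) hv) (inv_mem hv)
    have h3 := cj_mono p h2
    rwa [cj_eq_of_mem_normalizer (norm_kmod hYU o.YV hp)] at h3
  exact fun e he u hu => (mem_kmod.1 (h1 he)).2 u hu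

/-- a `T`-invariant subgroup centralised by `⟨E^Y⟩` is `Y`-invariant -/
theorem norm_of_cent {Z : Subgroup G} (hT : T ≤ normalizer (Z : Set G)) (h : cl E Y ≤ centralizer (Z : Set G)) :
    Y ≤ normalizer (Z : Set G) := by
  rw [← NO3b.EZero.oddGen_sup_syl o.syl]
  exact sup_le ((o.odd_le.trans h).trans (centralizer_le_normalizer _)) hT

end YF

end Cfsg.Agent.Omega.CaseLQ

end

section


/-!
# NoW, `q = 2`, part (ii), version 2 (helper602 #25080): the map `ψ : V_j → ⊕ c_i`, additive form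

`T` acts on the abelian group `U` and on the finite set `ι`; `c i ≤ U` are the root lines of the blocks of `Y`, `C i` the
centralisers in `U` of the blocks; `N = V_j`, `z` the `T`-fixed vector of `N`.
-/

set_option autoImplicit false
set_option linter.unusedSectionVars false

namespace Cfsg.Agent.Omega.CaseLQ.PsiT

universe u v w

variable {U : Type u} [AddCommGroup U] {T : Type v} [Group T] [DistribMulAction T U] {ι : Type w} [MulAction T ι]

/-- The frame (`q = 2`). -/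
structure Fr (c C : ι → AddSubgroup U) (Q : Subgroup T) (N : AddSubgroup U) (z : U) : Prop where
  ct : ∀ (t : T) (i : ι), ∀ x ∈ c i, t • x ∈ c (t • i)
  Ct : ∀ (t : T) (i : ι), ∀ x ∈ C i, t • x ∈ C (t • i)
  ne : ∀ i, ∃ x ∈ c i, x ≠ 0
  inf : ∀ i, ∀ x ∈ c i, x ∈ C i → x = 0
  cm : ∀ i m, m ≠ i → c m ≤ C i
  NT : ∀ t : T, ∀ n ∈ N, t • n ∈ N
  NQ : ∀ g ∈ Q, ∀ n ∈ N, g • n = n
  cov : ∀ n ∈ N, ∀ i, ∃ x ∈ c i, n - x ∈ C i
  zN : z ∈ N
  mv : ∀ n ∈ N, n ≠ 0 → n = z ∨ ∃ t : T, t • n - n = z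
  tr : ∃ v ∈ N, ∃ t : T, t • v - v = z ∧ ∀ u : U, (∀ g ∈ Q, g • u = u) → t • u - u = 0 ∨ t • u - u = z
  nz : ∃ i, z ∉ C i

namespace Fr

variable {c C : ι → AddSubgroup U} {Q : Subgroup T} {N : AddSubgroup U} {z : U} (h : Fr c C Q N z)
include h

theorem unique {u : U} {i : ι} {x y : U} (hx : x ∈ c i) (hy : y ∈ c i) (hux : u - x ∈ C i) (huy : u - y ∈ C i) :
    x = y := by
  have h1 : x - y ∈ C i := by
    have := (C i).sub_mem huy hux
    simpa using this
  exact sub_eq_zero.1 (h.inf i _ ((c i).sub_mem hx hy) h1)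

/-- the components of `ψ` -/
theorem exists_psi : ∃ p : U → ι → U, (∀ n ∈ N, ∀ i, p n i ∈ c i) ∧ (∀ n ∈ N, ∀ i, n - p n i ∈ C i) ∧
    (∀ n ∈ N, ∀ n' ∈ N, ∀ i, p (n - n') i = p n i - p n' i) ∧
    (∀ t : T, ∀ n ∈ N, ∀ i, p (t • n) (t • i) = t • p n i) := by
  choose! p hp hpC using h.cov
  refine ⟨p, hp, hpC, fun n hn n' hn' i => ?_, fun t n hn i => ?_⟩
  · refine h.unique (u := n - n') (hp _ (N.sub_mem hn hn') i) ((c i).sub_mem (hp n hn i) (hp n' hn' i))
      (hpC _ (N.sub_mem hn hn') i) ?_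
    have := (C i).sub_mem (hpC n hn i) (hpC n' hn' i)
    rwa [sub_sub_sub_comm] at this
  · refine h.unique (u := t • n) (hp _ (h.NT t n hn) _) (h.ct t i _ (hp n hn i)) (hpC _ (h.NT t n hn) _) ?_
    have := h.Ct t i _ (hpC n hn i)
    rwa [smul_sub] at this

/-- `z = ψ(z)` lies in `⊕ c_i`. -/
theorem z_mem [Fintype ι] : ∃ f : ι → U, (∀ i, f i ∈ c i) ∧ z = ∑ i, f i := by
  classical
  obtain ⟨p, hp, hpC, psub, psmul⟩ := h.exists_psi
  obtain ⟨v, hv, t, hvz, ht⟩ := h.tr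
  have hsmul : ∀ (s : T) (n : U), n ∈ N → s • (∑ i, p n i) = ∑ i, p (s • n) i := by
    intro s n hn
    rw [Finset.smul_sum]
    exact Fintype.sum_equiv (MulAction.toPerm s) _ _ fun i => (psmul s n hn i).symm
  have hQ : ∀ g ∈ Q, g • (∑ i, p v i) = ∑ i, p v i := by
    intro g hg
    rw [hsmul g v hv, h.NQ g hg v hv]
  have h1 : t • (∑ i, p v i) - ∑ i, p v i = ∑ i, p z i := by
    rw [hsmul t v hv, ← Finset.sum_sub_distrib]
    refine Finset.sum_congr rfl fun i _ => ?_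
    rw [← psub _ (h.NT t v hv) _ hv, hvz]
  refine ⟨p z, hp z h.zN, ?_⟩
  rcases ht _ hQ with h2 | h2
  · exfalso
    rw [h1] at h2
    obtain ⟨i, hi⟩ := h.nz
    apply hi
    have h3 : (∑ m, p z m) - p z i ∈ C i := by
      have h1 : (∑ m, p z m) - p z i = ∑ m ∈ Finset.univ.erase i, p z m := by
        rw [← Finset.add_sum_erase Finset.univ (p z) (Finset.mem_univ i)]
        abel
      rw [h1]
      exact (C i).sum_mem fun m hm => h.cm i m (Finset.ne_of_mem_erase hm) (hp z h.zN m)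
    rw [h2, zero_sub] at h3
    have h4 := (C i).sub_mem (hpC z h.zN i) h3
    have h5 := (C i).neg_mem h3
    rw [neg_neg] at h5
    have h6 := (C i).add_mem (hpC z h.zN i) h5
    rwa [sub_add_cancel] at h6
  · rw [h1] at h2
    exact h2.symm

/-- an element which centralises all `c_i` centralises `N`. -/
theorem fix {t : T} (ht : ∀ i, ∀ x ∈ c i, t • x = x) : ∀ n ∈ N, t • n = n := by
  obtain ⟨p, hp, hpC, psub, psmul⟩ := h.exists_psi
  have hti : ∀ i : ι, t • i = i := by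
    intro i
    by_contra hne
    obtain ⟨x, hx, hx0⟩ := h.ne i
    have h1 := h.ct t i x hx
    rw [ht i x hx] at h1
    exact hx0 (h.inf i x hx (h.cm i _ hne h1))
  -- `ψ` is injective
  have hinj : ∀ n ∈ N, (∀ i, p n i = 0) → n = 0 := by
    intro n hn hpn
    by_contra hn0
    have hz : (∀ i, p z i = 0) → False := by
      intro hz
      obtain ⟨i, hi⟩ := h.nz
      apply hi
      have := hpC z h.zN i
      rwa [hz i, sub_zero] at this
    rcases h.mv n hn hn0 with rfl | ⟨s, hs⟩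
    · exact hz hpn
    · apply hz
      intro i
      rw [← hs, psub _ (h.NT s n hn) _ hn, hpn i, sub_zero]
      have := psmul s n hn (s⁻¹ • i)
      rw [smul_inv_smul] at this
      rw [this, hpn, smul_zero]
  intro n hn
  have h1 : t • n - n = 0 := by
    refine hinj _ (N.sub_mem (h.NT t n hn) hn) fun i => ?_
    rw [psub _ (h.NT t n hn) _ hn]
    have := psmul t n hn i
    rw [hti i] at this
    rw [this, ht i _ (hp n hn i), sub_self]
  exact sub_eq_zero.1 h1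

/-- `(⊕ c_i) ∩ ⋂ C_i = 0` -/
theorem sum_zero [Fintype ι] {f : ι → U} (hf : ∀ i, f i ∈ c i) (hC : ∀ i, (∑ m, f m) ∈ C i) : ∀ i, f i = 0 := by
  classical
  intro i
  have h3 : (∑ m, f m) - f i ∈ C i := by
    have h1 : (∑ m, f m) - f i = ∑ m ∈ Finset.univ.erase i, f m := by
      rw [← Finset.add_sum_erase Finset.univ f (Finset.mem_univ i)]
      abel
    rw [h1]
    exact (C i).sum_mem fun m hm => h.cm i m (Finset.ne_of_mem_erase hm) (hf m)
  refine h.inf i _ (hf i) ?_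
  have := (C i).sub_mem (hC i) h3
  rwa [sub_sub_cancel] at this

/-- **(A3)**: if `z = ∑ f_i`, every `c_i` has order `2` and `C_U(T) ≤ ⟨z⟩ + ⋂ C_i`, then `z = ∑ e_i`. -/
theorem eq_sum [Fintype ι] [Nonempty ι] {e : ι → U} (he : ∀ i, e i ∈ c i) (he0 : ∀ i, e i ≠ 0)
    (hce : ∀ i, ∀ x ∈ c i, x = 0 ∨ x = e i)
    (hfix : ∀ u : U, (∀ t : T, t • u = u) → (∀ i, u ∈ C i) ∨ ∀ i, u - z ∈ C i) : z = ∑ i, e i := by
  classical
  obtain ⟨f, hf, hz⟩ := h.z_mem
  have hte : ∀ (t : T) (i : ι), t • e i = e (t • i) := by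
    intro t i
    rcases hce (t • i) _ (h.ct t i _ (he i)) with h1 | h1
    · exact absurd h1 ((smul_ne_zero_iff_ne t).2 (he0 i))
    · exact h1
  have hT : ∀ t : T, t • (∑ i, e i) = ∑ i, e i := by
    intro t
    rw [Finset.smul_sum]
    exact Fintype.sum_equiv (MulAction.toPerm t) _ _ fun i => hte t i
  rcases hfix _ hT with h1 | h1
  · exfalso
    have := h.sum_zero he h1 (Classical.arbitrary ι)
    exact he0 _ this
  · have h2 : (∑ i, e i) - z = ∑ i, (e i - f i) := by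
      rw [hz, Finset.sum_sub_distrib]
    have h3 : ∀ i, e i - f i = 0 := by
      refine h.sum_zero (fun i => (c i).sub_mem (he i) (hf i)) fun i => ?_
      rw [← h2]
      exact h1 i
    rw [hz]
    exact Finset.sum_congr rfl fun i _ => (sub_eq_zero.1 (h3 i)).symm

end Fr

/-- **(B)**: the centres of the transvections in `EE`. `P` = `P_j`, `B` its subgroup; `OO` a `P`-orbit; members are the
`e_i` or lie in all `C_i`. Then `P` fixes `∑ e_i`. -/
theorem fix_sum {P : Type v} [Group P] [DistribMulAction P U] {κ : Type w} [Fintype κ] [Nonempty κ] {C : κ → AddSubgroup U}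
    {e : κ → U} (OO : Finset U) (hi : ∀ i, e i ∉ C i) (hc : ∀ i m, m ≠ i → e m ∈ C i) (hO : ∀ i, e i ∈ OO)
    (hP : ∀ p : P, ∀ x ∈ OO, p • x ∈ OO) (tr : ∀ x ∈ OO, ∀ y ∈ OO, ∃ p : P, p • x = y)
    (dich : ∀ x ∈ OO, (∃ i, x = e i) ∨ ∀ i, x ∈ C i) (B : Subgroup P)
    (hB : ∀ b ∈ B, ∀ x, (∀ i, x ∈ C i) → ∀ i, b • x ∈ C i)
    (hfix : ∀ u : U, (∀ b ∈ B, b • u = u) → (∀ i, u ∈ C i) → ∀ p : P, p • u = u) :
    ∀ p : P, p • (∑ i, e i) = ∑ i, e i := by
  classical
  have mem_C : ∀ i, ∀ x ∈ OO, x ≠ e i → x ∈ C i := by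
    intro i x hx hne
    rcases dich x hx with ⟨m, rfl⟩ | h
    · exact hc i m fun h => hne (by rw [h])
    · exact h i
  -- images
  have himg : ∀ (p : P) (S : Finset U), p • (∑ x ∈ S, x) = ∑ x ∈ S.image (fun x => p • x), x := by
    intro p S
    rw [Finset.smul_sum, Finset.sum_image fun x _ y _ hxy => (smul_left_cancel_iff p).1 hxy]
  have key : ∀ S S' : Finset U, S ⊆ OO → S' ⊆ OO → (∑ x ∈ S, x) = ∑ x ∈ S', x → S ⊆ S' := by
    intro S S' hS hS' he x hx
    by_contra hx'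
    let i : κ := Classical.arbitrary κ
    obtain ⟨p, hp⟩ := tr x (hS hx) (e i) (hO i)
    have h1 : (∑ x ∈ S.image (fun x => p • x), x) = ∑ x ∈ S'.image (fun x => p • x), x := by
      rw [← himg, ← himg, he]
    have h2 : e i ∈ S.image (fun x => p • x) := Finset.mem_image.2 ⟨x, hx, hp⟩
    have h3 : e i ∉ S'.image (fun x => p • x) := by
      intro h
      obtain ⟨y, hy, hye⟩ := Finset.mem_image.1 h
      have : y = x := (smul_left_cancel_iff p).1 (hye.trans hp.symm)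
      exact hx' (this ▸ hy)
    have h4 : (∑ x ∈ (S.image (fun x => p • x)).erase (e i), x) ∈ C i := by
      refine (C i).sum_mem fun y hy => ?_
      obtain ⟨hy1, hy2⟩ := Finset.mem_erase.1 hy
      obtain ⟨w, hw, rfl⟩ := Finset.mem_image.1 hy2
      exact mem_C i _ (hP p w (hS hw)) hy1
    have h5 : (∑ x ∈ S'.image (fun x => p • x), x) ∈ C i := by
      refine (C i).sum_mem fun y hy => ?_
      obtain ⟨w, hw, rfl⟩ := Finset.mem_image.1 hy
      exact mem_C i _ (hP p w (hS' hw)) fun h => h3 (h ▸ hy)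
    rw [← h1, ← Finset.add_sum_erase _ _ h2] at h5
    apply hi i
    have := (C i).sub_mem h5 h4
    simpa using this
  have key2 : ∀ S S' : Finset U, S ⊆ OO → S' ⊆ OO → (∑ x ∈ S, x) = ∑ x ∈ S', x → S = S' := fun S S' h1 h2 h3 =>
    Finset.Subset.antisymm (key S S' h1 h2 h3) (key S' S h2 h1 h3.symm)
  -- the second kind
  let O2 : Finset U := OO.filter fun x => ∀ i, x ∈ C i
  have hO2 : O2 ⊆ OO := Finset.filter_subset _ _
  have hBO : ∀ b ∈ B, O2.image (fun x => b • x) = O2 := by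
    intro b hb
    refine Finset.eq_of_subset_of_card_le ?_ ?_
    · intro y hy
      obtain ⟨x, hx, rfl⟩ := Finset.mem_image.1 hy
      obtain ⟨hx1, hx2⟩ := Finset.mem_filter.1 hx
      exact Finset.mem_filter.2 ⟨hP b x hx1, hB b hb x hx2⟩
    · rw [Finset.card_image_of_injective _ fun x y hxy => (smul_left_cancel_iff b).1 hxy]
  have hmu : ∀ p : P, p • (∑ x ∈ O2, x) = ∑ x ∈ O2, x := by
    refine hfix _ (fun b hb => ?_) fun i => (C i).sum_mem fun x hx => (Finset.mem_filter.1 hx).2 i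
    rw [himg, hBO b hb]
  have hempty : ∀ x ∈ OO, ∃ i, x = e i := by
    intro x hx
    rcases dich x hx with h | h
    · exact h
    · exfalso
      let i : κ := Classical.arbitrary κ
      obtain ⟨p, hp⟩ := tr x hx (e i) (hO i)
      have h1 : O2.image (fun x => p • x) = O2 := by
        refine key2 _ _ (fun y hy => ?_) hO2 ?_
        · obtain ⟨w, hw, rfl⟩ := Finset.mem_image.1 hy
          exact hP p w (hO2 hw)
        · rw [← himg, hmu]
      have h2 : e i ∈ O2 := by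
        rw [← h1]
        exact Finset.mem_image.2 ⟨x, Finset.mem_filter.2 ⟨hx, h⟩, hp⟩
      exact hi i ((Finset.mem_filter.1 h2).2 i)
  have hinj : Function.Injective e := by
    intro i m he
    by_contra hne
    exact hi i (he ▸ hc i m fun h => hne h.symm)
  have hOO : OO = Finset.univ.image e := by
    ext x
    constructor
    · intro hx
      obtain ⟨i, rfl⟩ := hempty x hx
      exact Finset.mem_image.2 ⟨i, Finset.mem_univ _, rfl⟩
    · intro hx
      obtain ⟨i, -, rfl⟩ := Finset.mem_image.1 hx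
      exact hO i
  intro p
  have h1 : (∑ i, e i) = ∑ x ∈ OO, x := by
    rw [hOO, Finset.sum_image fun x _ y _ hxy => hinj hxy]
  rw [h1, himg]
  congr 1
  refine Finset.eq_of_subset_of_card_le ?_ ?_
  · intro y hy
    obtain ⟨x, hx, rfl⟩ := Finset.mem_image.1 hy
    exact hP p x hx
  · rw [Finset.card_image_of_injective _ fun x y hxy => (smul_left_cancel_iff p).1 hxy]

end Cfsg.Agent.Omega.CaseLQ.PsiT

end

section


/-!
# NoW, `q = 2`, part (ii), version 2 (helper602 #25080), over subgroups of a group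

`FrG U B Q V z Lam N c`: `B` acts by conjugation on the abelian group `U`; `c i` = root lines, `N i = C_U(K i)` for the
blocks `K i` of `Y` (as in `OM/Lev/Low/Data.lean`, `YB`); `V = V_j`, `z = z_j`, `Lam = ⟨z_l : l ≠ j⟩`.

* `FrG.z_mem : z ∈ ⨆ i, c i`;
* `FrG.fix` : `b ∈ B` centralising all `c i` centralises `V`;
* `FrG.inf_N : (⨆ i, c i) ⊓ ⨅ i, N i = ⊥`, `FrG.inf_Lam : (⨆ i, c i) ⊓ Lam = ⊥`,
  `FrG.inf_Q : (⨆ i, c i) ⊓ centralizer Q ≤ V ⊔ Lam`;
* `FrG.two_false` : the lines `c i` do not all have order `2`.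
-/

set_option autoImplicit false
set_option linter.unusedSectionVars false
set_option linter.style.haveILetI false

namespace Cfsg.Agent.Omega.CaseLQ.PsiT

open Subgroup

/-- `cj g H` of `ZN.ChoiceBase`, literally. -/
local notation "cj" g:max H:max => Subgroup.map (MulEquiv.toMonoidHom (MulAut.conj g)) H

universe u w

variable {G : Type u} [Group G] {ι : Type w}

/-! ### transfer to additive groups -/

/-- an abelian subgroup as an abelian group -/
@[reducible] def instU {U : Subgroup G} (hU : ∀ x ∈ U, ∀ y ∈ U, x * y = y * x) : CommGroup ↥U :=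
  { (inferInstance : Group ↥U) with mul_comm := fun x y => Subtype.ext (hU _ x.2 _ y.2) }

/-- the conjugation action on an abelian subgroup, additively -/
@[reducible] def actU {U T : Subgroup G} (hU : ∀ x ∈ U, ∀ y ∈ U, x * y = y * x) (hT : T ≤ normalizer (U : Set G)) :
    letI := instU hU
    DistribMulAction ↥T (Additive ↥U) :=
  letI := instU hU
  { smul := fun t u => Additive.ofMul (⟨(t : G) * (Additive.toMul u : ↥U) * (t : G)⁻¹,
      (mem_normalizer_iff.1 (hT t.2) _).1 (Additive.toMul u : ↥U).2⟩ : ↥U)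
    one_smul := fun u => by
      apply Additive.toMul.injective
      apply Subtype.ext
      change ((1 : ↥T) : G) * (Additive.toMul u : ↥U) * ((1 : ↥T) : G)⁻¹ = (Additive.toMul u : ↥U)
      simp
    mul_smul := fun s t u => by
      apply Additive.toMul.injective
      apply Subtype.ext
      change ((s * t : ↥T) : G) * (Additive.toMul u : ↥U) * ((s * t : ↥T) : G)⁻¹ =
        (s : G) * ((t : G) * (Additive.toMul u : ↥U) * (t : G)⁻¹) * (s : G)⁻¹
      rw [Subgroup.coe_mul]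
      group
    smul_zero := fun t => by
      apply Additive.toMul.injective
      apply Subtype.ext
      change (t : G) * ((1 : ↥U) : G) * (t : G)⁻¹ = ((1 : ↥U) : G)
      simp
    smul_add := fun t u v => by
      apply Additive.toMul.injective
      apply Subtype.ext
      change (t : G) * ((Additive.toMul u * Additive.toMul v : ↥U) : G) * (t : G)⁻¹ =
        ((t : G) * (Additive.toMul u : ↥U) * (t : G)⁻¹) * ((t : G) * (Additive.toMul v : ↥U) * (t : G)⁻¹)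
      rw [Subgroup.coe_mul]
      group }

/-- the image of a subgroup in `Additive U` -/
def AA (U X : Subgroup G) : AddSubgroup (Additive ↥U) := (X.subgroupOf U).toAddSubgroup

theorem mem_AA {U X : Subgroup G} {u : Additive ↥U} : u ∈ AA U X ↔ ((Additive.toMul u : ↥U) : G) ∈ X := Iff.rfl

theorem cj_one' (H : Subgroup G) : cj (1 : G) H = H := by
  ext x
  simp

theorem cj_cj' (g h : G) (H : Subgroup G) : cj g (cj h H) = cj (g * h) H := by
  rw [Subgroup.map_map]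
  congr 1
  ext x
  simp [mul_assoc]

theorem mem_sup_of_comm {U X Y : Subgroup G} (hU : ∀ x ∈ U, ∀ y ∈ U, x * y = y * x) (hX : X ≤ U) (hY : Y ≤ U) :
    ∀ u ∈ X ⊔ Y, ∃ x ∈ X, ∃ y ∈ Y, x * y = u := by
  let P : Subgroup G :=
    { carrier := {u | ∃ x ∈ X, ∃ y ∈ Y, x * y = u}
      one_mem' := ⟨1, one_mem _, 1, one_mem _, mul_one 1⟩
      mul_mem' := by
        rintro _ _ ⟨x, hx, y, hy, rfl⟩ ⟨x', hx', y', hy', rfl⟩
        refine ⟨x * x', mul_mem hx hx', y * y', mul_mem hy hy', ?_⟩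
        have h1 := hU y (hY hy) x' (hX hx')
        calc x * x' * (y * y') = x * (x' * y) * y' := by group
          _ = x * (y * x') * y' := by rw [h1]
          _ = _ := by group
      inv_mem' := by
        rintro _ ⟨x, hx, y, hy, rfl⟩
        refine ⟨x⁻¹, inv_mem hx, y⁻¹, inv_mem hy, ?_⟩
        rw [mul_inv_rev]
        exact hU _ (inv_mem (hX hx)) _ (inv_mem (hY hy)) }
  have h1 : X ⊔ Y ≤ P := sup_le (fun x hx => ⟨x, hx, 1, one_mem _, mul_one x⟩)
    (fun y hy => ⟨1, one_mem _, y, hy, one_mul y⟩)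
  intro u hu
  exact h1 hu

/-- **The frame of (ii), version 2**, `q = 2`. -/
structure FrG (U B Q V : Subgroup G) (z : G) (Lam : Subgroup G) (N c : ι → Subgroup G) : Prop where
  comm : ∀ x ∈ U, ∀ y ∈ U, x * y = y * x
  BU : B ≤ normalizer (U : Set G)
  QB : Q ≤ B
  perm : ∀ t ∈ B, ∀ i, ∃ m, cj t (N i) = N m ∧ cj t (c i) = c m
  cU : ∀ i, c i ≤ U
  ne : ∀ i, c i ≠ ⊥
  inf : ∀ i, c i ⊓ N i = ⊥
  cm : ∀ i m, m ≠ i → c m ≤ N i
  VU : V ≤ U
  BV : B ≤ normalizer (V : Set G)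
  VQ : V ≤ centralizer (Q : Set G)
  cov : ∀ i, ∀ v ∈ V, ∃ a ∈ c i, a * v ∈ N i
  zV : z ∈ V
  mv : ∀ v ∈ V, v ≠ 1 → v = z ∨ ∃ b ∈ B, b * v * b⁻¹ * v⁻¹ = z
  tr : ∃ v ∈ V, ∃ b ∈ B, b * v * b⁻¹ * v⁻¹ = z ∧
    ∀ u ∈ U, u ∈ centralizer (Q : Set G) → b * u * b⁻¹ * u⁻¹ = 1 ∨ b * u * b⁻¹ * u⁻¹ = z
  nz : ∃ i, z ∉ N i
  LamN : ∀ i, ∀ x ∈ Lam, x ∈ U → x ∈ N i

namespace FrG

variable {U B Q V : Subgroup G} {z : G} {Lam : Subgroup G} {N c : ι → Subgroup G} (h : FrG U B Q V z Lam N c)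
include h

theorem inj {i m : ι} (he : c i = c m) : i = m := by
  by_contra hne
  apply h.ne i
  rw [eq_bot_iff, ← h.inf m, he]
  refine le_inf le_rfl ?_
  rw [← he]
  exact h.cm m i hne

theorem exists_perm : ∃ σ : G → ι → ι, ∀ t ∈ B, ∀ i, cj t (N i) = N (σ t i) ∧ cj t (c i) = c (σ t i) := by
  classical
  have h1 : ∀ (t : G) (i : ι), ∃ m, t ∈ B → cj t (N i) = N m ∧ cj t (c i) = c m := by
    intro t i
    by_cases ht : t ∈ B
    · obtain ⟨m, hm⟩ := h.perm t ht i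
      exact ⟨m, fun _ => hm⟩
    · exact ⟨i, fun h => absurd h ht⟩
  choose σ hσ using h1
  exact ⟨σ, fun t ht i => hσ t i ht⟩

theorem exists_act : ∃ act : MulAction ↥B ι, ∀ (t : ↥B) (i : ι), N (act.smul t i) = cj (t : G) (N i) ∧
    c (act.smul t i) = cj (t : G) (c i) := by
  obtain ⟨σ, hσ⟩ := h.exists_perm
  let act : MulAction ↥B ι :=
    { smul := fun t i => σ t i
      one_smul := fun i => by
        refine h.inj ?_
        change c (σ ((1 : ↥B) : G) i) = _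
        rw [← (hσ _ (1 : ↥B).2 i).2]
        rw [Subgroup.coe_one, cj_one']
      mul_smul := fun s t i => by
        refine h.inj ?_
        change c (σ ((s * t : ↥B) : G) i) = c (σ s (σ t i))
        rw [← (hσ _ (s * t).2 i).2, ← (hσ _ s.2 _).2, ← (hσ _ t.2 _).2, cj_cj']
        rfl }
  exact ⟨act, fun t i => ⟨((hσ _ t.2 i).1).symm, ((hσ _ t.2 i).2).symm⟩⟩

/-- the additive frame -/
theorem toFr (act : MulAction ↥B ι) (hact : ∀ (t : ↥B) (i : ι), N (act.smul t i) = cj (t : G) (N i) ∧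
    c (act.smul t i) = cj (t : G) (c i)) :
    letI := instU h.comm
    letI := actU h.comm h.BU
    Fr (T := ↥B) (fun i => AA U (c i)) (fun i => AA U (N i)) (Q.subgroupOf B) (AA U V)
      (Additive.ofMul (⟨z, h.VU h.zV⟩ : ↥U)) := by
  letI := instU h.comm
  letI := actU h.comm h.BU
  have smul_coe : ∀ (t : ↥B) (u : Additive ↥U),
      ((Additive.toMul (t • u) : ↥U) : G) = (t : G) * (Additive.toMul u : ↥U) * (t : G)⁻¹ := fun _ _ => rfl
  have sub_coe : ∀ u v : Additive ↥U, ((Additive.toMul (u - v) : ↥U) : G) =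
      (Additive.toMul u : ↥U) * ((Additive.toMul v : ↥U) : G)⁻¹ := by
    intro u v
    rw [toMul_sub, div_eq_mul_inv]
    rfl
  have ext' : ∀ {u v : Additive ↥U}, ((Additive.toMul u : ↥U) : G) = (Additive.toMul v : ↥U) → u = v := by
    intro u v huv
    exact Additive.toMul.injective (Subtype.ext huv)
  have σe : ∀ (t : ↥B) (i : ι), N (t • i) = cj (t : G) (N i) ∧ c (t • i) = cj (t : G) (c i) := hact
  refine
    { ct := fun t i x hx => ?_
      Ct := fun t i x hx => ?_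
      ne := fun i => ?_
      inf := fun i x hx hx' => ?_
      cm := fun i m hm x hx => h.cm i m hm hx
      NT := fun t n hn => ?_
      NQ := fun g hg n hn => ?_
      cov := fun n hn i => ?_
      zN := h.zV
      mv := fun n hn hn0 => ?_
      tr := ?_
      nz := h.nz }
  · rw [mem_AA, smul_coe, (σe t i).2]
    exact ⟨_, hx, rfl⟩
  · rw [mem_AA, smul_coe, (σe t i).1]
    exact ⟨_, hx, rfl⟩
  · have h1 : ∃ x ∈ c i, x ≠ 1 := by
      by_contra hcon
      push Not at hcon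
      exact h.ne i (by rw [eq_bot_iff]; intro x hx; exact mem_bot.2 (hcon x hx))
    obtain ⟨x, hx, hx1⟩ := h1
    refine ⟨Additive.ofMul (⟨x, h.cU i hx⟩ : ↥U), hx, fun h0 => hx1 ?_⟩
    exact congrArg (fun u : Additive ↥U => ((Additive.toMul u : ↥U) : G)) h0
  · apply ext'
    have h1 : ((Additive.toMul x : ↥U) : G) ∈ c i ⊓ N i := ⟨hx, hx'⟩
    rw [h.inf i] at h1
    exact mem_bot.1 h1
  · rw [mem_AA, smul_coe]
    exact (mem_normalizer_iff.1 (h.BV t.2) _).1 hn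
  · apply ext'
    rw [smul_coe]
    have h1 : (g : G) * (Additive.toMul n : ↥U) = (Additive.toMul n : ↥U) * g := h.VQ hn g hg
    rw [h1]; group
  · obtain ⟨a, ha, haN⟩ := h.cov i _ hn
    refine ⟨Additive.ofMul (⟨a⁻¹, inv_mem (h.cU i ha)⟩ : ↥U), inv_mem ha, ?_⟩
    rw [mem_AA, sub_coe]
    change ((Additive.toMul n : ↥U) : G) * a⁻¹⁻¹ ∈ _
    rw [inv_inv, h.comm _ (Additive.toMul n : ↥U).2 a (h.cU i ha)]
    exact haN
  · rcases h.mv _ hn fun h1 => hn0 (ext' h1) with h1 | ⟨b, hb, h1⟩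
    · exact Or.inl (ext' h1)
    · refine Or.inr ⟨⟨b, hb⟩, ext' ?_⟩
      rw [sub_coe, smul_coe]
      exact h1
  · obtain ⟨v, hv, b, hb, h1, h2⟩ := h.tr
    refine ⟨Additive.ofMul (⟨v, h.VU hv⟩ : ↥U), hv, ⟨b, hb⟩, ext' ?_, fun u hu => ?_⟩
    · rw [sub_coe, smul_coe]
      exact h1
    · have h3 : ((Additive.toMul u : ↥U) : G) ∈ centralizer (Q : Set G) := by
        intro g hg
        have h2 := congrArg (fun u : Additive ↥U => ((Additive.toMul u : ↥U) : G)) (hu ⟨g, h.QB hg⟩ hg)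
        simp only [smul_coe] at h2
        change g * (Additive.toMul u : ↥U) = (Additive.toMul u : ↥U) * g
        change g * (Additive.toMul u : ↥U) * g⁻¹ = (Additive.toMul u : ↥U) at h2
        exact mul_inv_eq_iff_eq_mul.1 h2
      rcases h2 _ (Additive.toMul u : ↥U).2 h3 with h4 | h4
      · left; apply ext'; rw [sub_coe, smul_coe]; exact h4
      · right; apply ext'; rw [sub_coe, smul_coe]; exact h4

theorem coe_sum_mem {S : Finset ι} (f : ι → Additive ↥U) (hf : ∀ i, f i ∈ AA U (c i)) :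
    letI := instU h.comm
    ((Additive.toMul (∑ i ∈ S, f i) : ↥U) : G) ∈ ⨆ i, c i := by
  letI := instU h.comm
  have h1 : (∑ i ∈ S, f i) ∈ AA U (⨆ i, c i) := (AA U (⨆ i, c i)).sum_mem fun i _ =>
    mem_AA.2 ((le_iSup c i) (mem_AA.1 (hf i)))
  exact mem_AA.1 h1

/-- **(A1)** -/
theorem z_mem [Finite ι] : z ∈ ⨆ i, c i := by
  classical
  have := Fintype.ofFinite ι
  obtain ⟨act, hact⟩ := h.exists_act
  letI := instU h.comm
  letI := actU h.comm h.BU
  obtain ⟨f, hf, hz⟩ := (h.toFr act hact).z_mem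
  have h1 := h.coe_sum_mem (S := Finset.univ) f hf
  rw [← hz] at h1
  exact h1

/-- **(A2)** -/
theorem fix {b : G} (hb : b ∈ B) (hc : ∀ i, ∀ x ∈ c i, b * x = x * b) : ∀ v ∈ V, b * v = v * b := by
  obtain ⟨act, hact⟩ := h.exists_act
  letI := instU h.comm
  letI := actU h.comm h.BU
  have h1 := (h.toFr act hact).fix (t := (⟨b, hb⟩ : ↥B)) (fun i x hx => by
    apply Additive.toMul.injective
    apply Subtype.ext
    have h1 : b * ((Additive.toMul x : ↥U) : G) = ((Additive.toMul x : ↥U) : G) * b := hc i _ hx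
    change b * ((Additive.toMul x : ↥U) : G) * b⁻¹ = ((Additive.toMul x : ↥U) : G)
    rw [h1]; group)
  intro n hn
  have h2 := h1 (Additive.ofMul (⟨n, h.VU hn⟩ : ↥U)) hn
  have h3 := congrArg (fun u : Additive ↥U => ((Additive.toMul u : ↥U) : G)) h2
  change b * n * b⁻¹ = n at h3
  exact mul_inv_eq_iff_eq_mul.1 h3

theorem iSup_le_U : (⨆ i, c i) ≤ U := iSup_le h.cU

/-- the elements of `⨆ c_i` -/
theorem exists_sum [Fintype ι] {x : G} (hx : x ∈ ⨆ i, c i) :
    letI := instU h.comm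
    ∃ f : ι → Additive ↥U, (∀ i, f i ∈ AA U (c i)) ∧ x = ((Additive.toMul (∑ i, f i) : ↥U) : G) := by
  classical
  letI := instU h.comm
  let P : Subgroup G :=
    { carrier := {x | ∃ f : ι → Additive ↥U, (∀ i, f i ∈ AA U (c i)) ∧ x = ((Additive.toMul (∑ i, f i) : ↥U) : G)}
      one_mem' := ⟨0, fun i => (AA U (c i)).zero_mem, by simp⟩
      mul_mem' := by
        rintro _ _ ⟨f, hf, rfl⟩ ⟨f', hf', rfl⟩
        refine ⟨f + f', fun i => (AA U (c i)).add_mem (hf i) (hf' i), ?_⟩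
        simp only [Pi.add_apply, Finset.sum_add_distrib]
        rfl
      inv_mem' := by
        rintro _ ⟨f, hf, rfl⟩
        refine ⟨-f, fun i => (AA U (c i)).neg_mem (hf i), ?_⟩
        simp only [Pi.neg_apply, Finset.sum_neg_distrib]
        rfl }
  have h1 : (⨆ i, c i) ≤ P := by
    refine iSup_le fun i x hx => ?_
    refine ⟨fun m => if m = i then Additive.ofMul (⟨x, h.cU i hx⟩ : ↥U) else 0, fun m => ?_, ?_⟩
    · by_cases hm : m = i
      · subst hm; simp only [if_true]; exact hx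
      · simp only [if_neg hm]; exact (AA U (c m)).zero_mem
    · simp
  exact h1 hx

/-- **(A3)** -/
theorem inf_N [Finite ι] : (⨆ i, c i) ⊓ ⨅ i, N i = ⊥ := by
  classical
  have := Fintype.ofFinite ι
  obtain ⟨act, hact⟩ := h.exists_act
  letI := instU h.comm
  letI := actU h.comm h.BU
  rw [eq_bot_iff]
  rintro x ⟨hx, hxK⟩
  obtain ⟨f, hf, rfl⟩ := h.exists_sum hx
  have h1 := (h.toFr act hact).sum_zero hf fun i => mem_AA.2 ((mem_iInf.1 hxK) i)
  rw [mem_bot]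
  have h2 : (∑ i, f i) = 0 := Finset.sum_eq_zero fun i _ => h1 i
  rw [h2]
  rfl

/-- **(A3)** -/
theorem inf_Lam [Finite ι] : (⨆ i, c i) ⊓ Lam = ⊥ := by
  rw [eq_bot_iff, ← h.inf_N]
  rintro x ⟨hx, hxL⟩
  exact ⟨hx, mem_iInf.2 fun i => h.LamN i x hxL (h.iSup_le_U hx)⟩

theorem cj_iSup {b : G} (hb : b ∈ B) : cj b (⨆ i, c i) ≤ ⨆ i, c i := by
  rw [Subgroup.map_iSup]
  refine iSup_le fun i => ?_
  obtain ⟨m, -, hm⟩ := h.perm b hb i
  rw [hm]
  exact le_iSup c m

theorem inf_Q [Finite ι]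
    (hL1 : ∀ u ∈ U, u ∈ centralizer (Q : Set G) → ∀ b ∈ B, b ∈ centralizer (V : Set G) → b * u * b⁻¹ * u⁻¹ ∈ Lam)
    (hL2 : ∀ u ∈ U, u ∈ centralizer (Q : Set G) → (∀ b ∈ B, b ∈ centralizer (V : Set G) → b * u = u * b) → u ∈ V ⊔ Lam) :
    (⨆ i, c i) ⊓ centralizer (Q : Set G) ≤ V ⊔ Lam := by
  rintro u ⟨hu, huQ⟩
  refine hL2 u (h.iSup_le_U hu) huQ fun b hb hbN => ?_
  have h1 := hL1 u (h.iSup_le_U hu) huQ b hb hbN
  have h2 : b * u * b⁻¹ * u⁻¹ ∈ (⨆ i, c i) ⊓ Lam := by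
    exact Subgroup.mem_inf.2 ⟨mul_mem (h.cj_iSup hb ⟨u, hu, rfl⟩) (inv_mem hu), h1⟩
  rw [h.inf_Lam, mem_bot] at h2
  have h3 : b * u * b⁻¹ = u := mul_inv_eq_one.1 h2
  exact mul_inv_eq_iff_eq_mul.1 h3

/-- **(B)** all lines of order `2`: contradiction. `OO` = the set of centres of the members of `EE` in `Q_j`, `P = P_j`. -/
theorem two_false [Finite ι] {P : Subgroup G} {e : ι → G} (OO : Set G)
    (he : ∀ i, e i ∈ c i) (hce : ∀ i, ∀ x ∈ c i, x = 1 ∨ x = e i)
    (hCB : ∀ u ∈ U, u ∈ centralizer (B : Set G) → u ∈ Lam ∨ u * z⁻¹ ∈ Lam)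
    (hBP : B ≤ P) (hPU : P ≤ normalizer (U : Set G)) (hPL : Lam ≤ centralizer (P : Set G))
    (hKL : ∀ u ∈ U, u ∈ centralizer (B : Set G) → (∀ i, u ∈ N i) → u ∈ Lam)
    (hO : ∀ i, e i ∈ OO) (hOU : OO.Finite) (hPO : ∀ p ∈ P, ∀ x ∈ OO, p * x * p⁻¹ ∈ OO)
    (tr : ∀ x ∈ OO, ∀ y ∈ OO, ∃ p ∈ P, p * x * p⁻¹ = y)
    (dich : ∀ x ∈ OO, (∃ i, x = e i) ∨ ∀ i, x ∈ N i)
    (hmv : ∃ p ∈ P, p * z * p⁻¹ ≠ z) : False := by
  classical
  have := Fintype.ofFinite ι
  obtain ⟨i0, hi0⟩ := h.nz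
  have : Nonempty ι := ⟨i0⟩
  have he1 : ∀ i, e i ≠ 1 := by
    intro i h1
    apply h.ne i
    rw [eq_bot_iff]
    intro x hx
    rcases hce i x hx with h2 | h2
    · exact mem_bot.2 h2
    · exact mem_bot.2 (h2.trans h1)
  have heU : ∀ i, e i ∈ U := fun i => h.cU i (he i)
  -- `z = ∑ e_i`
  let e' : ι → Additive ↥U := fun i => Additive.ofMul (⟨e i, heU i⟩ : ↥U)
  have hsum : letI := instU h.comm; Additive.ofMul (⟨z, h.VU h.zV⟩ : ↥U) = ∑ i, e' i := by
    obtain ⟨act, hact⟩ := h.exists_act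
    letI := instU h.comm
    letI := actU h.comm h.BU
    refine (h.toFr act hact).eq_sum (e := e') (fun i => he i) (fun i h0 => he1 i ?_) (fun i x hx => ?_) fun u hu => ?_
    · exact congrArg (fun u : Additive ↥U => ((Additive.toMul u : ↥U) : G)) h0
    · rcases hce i _ hx with h1 | h1
      · left; exact Additive.toMul.injective (Subtype.ext h1)
      · right; exact Additive.toMul.injective (Subtype.ext h1)
    · have h1 : ((Additive.toMul u : ↥U) : G) ∈ centralizer (B : Set G) := by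
        intro g hg
        have h2 := congrArg (fun u : Additive ↥U => ((Additive.toMul u : ↥U) : G)) (hu ⟨g, hg⟩)
        change g * (Additive.toMul u : ↥U) * g⁻¹ = (Additive.toMul u : ↥U) at h2
        exact mul_inv_eq_iff_eq_mul.1 h2
      rcases hCB _ (Additive.toMul u : ↥U).2 h1 with h2 | h2
      · left
        intro i
        exact h.LamN i _ h2 (Additive.toMul u : ↥U).2
      · right
        intro i
        rw [mem_AA, toMul_sub, div_eq_mul_inv]
        exact h.LamN i _ h2 (mul_mem (Additive.toMul u : ↥U).2 (inv_mem (h.VU h.zV)))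
  letI := instU h.comm
  letI := actU h.comm hPU
  let O' : Finset (Additive ↥U) := (hOU.toFinset).subtype (fun x => x ∈ U) |>.map ⟨Additive.ofMul, Additive.ofMul.injective⟩
  have memO : ∀ u : Additive ↥U, u ∈ O' ↔ ((Additive.toMul u : ↥U) : G) ∈ OO := by
    intro u
    simp only [O', Finset.mem_map, Finset.mem_subtype, Set.Finite.mem_toFinset, Function.Embedding.coeFn_mk]
    constructor
    · rintro ⟨a, ha, rfl⟩
      exact ha
    · intro hu
      exact ⟨Additive.toMul u, hu, rfl⟩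
  have hfix := fix_sum (P := ↥P) (C := fun i => AA U (N i)) (e := e') O'
    (fun i hi => by
      have h1 : e i ∈ c i ⊓ N i := ⟨he i, hi⟩
      rw [h.inf i] at h1
      exact he1 i (mem_bot.1 h1))
    (fun i m hm => h.cm i m hm (he m))
    (fun i => (memO _).2 (hO i))
    (fun p x hx => (memO _).2 (hPO p p.2 _ ((memO x).1 hx)))
    (fun x hx y hy => by
      obtain ⟨p, hp, hpxy⟩ := tr _ ((memO x).1 hx) _ ((memO y).1 hy)
      exact ⟨⟨p, hp⟩, Additive.toMul.injective (Subtype.ext hpxy)⟩)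
    (fun x hx => by
      rcases dich _ ((memO x).1 hx) with ⟨i, hi⟩ | hi
      · exact Or.inl ⟨i, Additive.toMul.injective (Subtype.ext hi)⟩
      · exact Or.inr hi)
    (B.subgroupOf P)
    (fun b hb x hx i => by
      obtain ⟨m, hm, -⟩ := h.perm ((b : G)⁻¹) (inv_mem hb) i
      rw [mem_AA]
      change (b : G) * (Additive.toMul x : ↥U) * (b : G)⁻¹ ∈ N i
      have h1 : ((Additive.toMul x : ↥U) : G) ∈ cj ((b : G)⁻¹) (N i) := by
        rw [hm]
        exact hx m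
      obtain ⟨y, hy, hyx⟩ := h1
      have h2 : (b : G)⁻¹ * y * (b : G)⁻¹⁻¹ = ((Additive.toMul x : ↥U) : G) := hyx
      rw [← h2]
      have h3 : (b : G) * ((b : G)⁻¹ * y * (b : G)⁻¹⁻¹) * (b : G)⁻¹ = y := by group
      rw [h3]
      exact hy)
    (fun u hu huC p => by
      have h1 : ((Additive.toMul u : ↥U) : G) ∈ centralizer (B : Set G) := by
        intro g hg
        have h2 := congrArg (fun u : Additive ↥U => ((Additive.toMul u : ↥U) : G)) (hu ⟨g, hBP hg⟩ hg)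
        change g * (Additive.toMul u : ↥U) * g⁻¹ = (Additive.toMul u : ↥U) at h2
        exact mul_inv_eq_iff_eq_mul.1 h2
      have h2 := hPL (hKL _ (Additive.toMul u : ↥U).2 h1 huC) p p.2
      apply Additive.toMul.injective
      apply Subtype.ext
      change (p : G) * (Additive.toMul u : ↥U) * (p : G)⁻¹ = (Additive.toMul u : ↥U)
      rw [h2]; group)
  obtain ⟨p, hp, hpz⟩ := hmv
  apply hpz
  have h1 := hfix ⟨p, hp⟩
  rw [← hsum] at h1
  exact congrArg (fun u : Additive ↥U => ((Additive.toMul u : ↥U) : G)) h1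

end FrG

end Cfsg.Agent.Omega.CaseLQ.PsiT

end

section


/-!
# The weird parabolics of the case (L), `q = 2`: the torus (#25080 (d)), abstract

`V / D` is a sum of `k` natural `SL₂(F)`-modules for the minimal parabolic `Y` over `B` (`NatC`), `|F| > 2`; `z ∈ V - D` is
centralised by `B`; `K ≤ Q ≤ B`, `K` induces all upper unitriangular elements and centralises the product `X0` of the
lines; `N_Y(K (B ∩ …))` is generated by `N_Y(B)` and the minimal parabolics over `B`, and those which move `z` normalise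
`Q`. Then `Q` centralises the `B`-invariant complement `E1 = [X0, τ]` of `D` in `X0`.

* `TS M Q K z` : the situation;
* `TS.tor` : Frattini: the diagonal elements are induced by `N_Y(B0)`;
* `TS.comm_cent` : `[Q, N_R(B0)]` centralises `X0`;
* `TS.main` : `E1`;
* `TS.up_of` : `k = 1`: `Q` acts on `V` inside the root group.
-/

set_option autoImplicit false
set_option linter.unusedSectionVars false

namespace Cfsg.Agent.Omega.CaseLQ.Torus

open Subgroup Cfsg Cfsg.Agent.ZN Cfsg.Agent.ZN.ChoiceBase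
open Cfsg.Agent.ZN.ChoiceSit (Syl syl_conj)
open Cfsg.Agent.ZN.CaseTwo (syl_cj)
open Cfsg.Agent.MinSimple.MinParabolic (IsMinPar)
open Cfsg.Agent.MinSimple.VModule (oddGen oddGen_le mem_oddGen)
open Cfsg.Agent.Omega.FFThm (NatK NatKM ActsSL)
open Cfsg.Agent.Omega.NO3b.K0 (conj_mem' cj_of_le cj_self min_or)
open Cfsg.Agent.Omega.NO3S.NotFF (le_normalizer_of_forall)
open Cfsg.Agent.Omega.SQ1.Bau (mem_sup_comm card_sup_comm mem_sup_norm)
open Cfsg.Agent.Omega.SQ1.FFOne (MinH syl_inf mem_norm_of)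
open Cfsg.Agent.Omega.NatPair (ap ap_zero' ap_one' ap_one ap_mul ap_add ext2 ap_inv_ap ap_inj)
open Cfsg.Agent.Omega.NO3S.OneLine (NatC)
open Cfsg.Agent.Lib.SL2Mat

universe u

section lin

variable {F : Type*} [Field F]

/-- a matrix which fixes `(c, 0)`, `c ≠ 0`, is upper unitriangular -/
theorem exists_up_of_vec {A : Matrix.SpecialLinearGroup (Fin 2) F} {c : F} (hc : c ≠ 0)
    (h : ap A ![c, 0] = ![c, 0]) : A = up (ent A 0 1) := by
  have h0 := congrFun h 0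
  have h1 := congrFun h 1
  rw [ap_zero'] at h0
  rw [ap_one'] at h1
  have e0 : ent A 0 0 = 1 := by
    have h2 : ent A 0 0 * c = 1 * c := by simpa using h0
    exact mul_right_cancel₀ hc h2
  have e1 : ent A 1 0 = 0 := by
    have h2 : ent A 1 0 * c = 0 * c := by
      have h3 : ent A 1 0 * c + ent A 1 1 * 0 = 0 := h1
      rw [mul_zero, add_zero] at h3
      rw [h3, zero_mul]
    exact mul_right_cancel₀ hc h2
  have hd := det_eq A
  rw [e0, e1] at hd
  apply ext_ent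
  · rw [up_00, e0]
  · rw [up_01]
  · rw [up_10, e1]
  · rw [up_11]
    linear_combination hd

theorem up_pow (b : F) (n : ℕ) : up b ^ n = up ((n : F) * b) := by
  induction n with
  | zero => rw [pow_zero, Nat.cast_zero, zero_mul, up_zero]
  | succ n ih => rw [pow_succ, ih, up_mul]; congr 1; push_cast; ring

theorem up_odd [CharP F 2] {b : F} {n : ℕ} (hn : Odd n) (h : up b ^ n = 1) : b = 0 := by
  rw [up_pow, ← up_zero] at h
  have h1 := up_inj h
  have h2 : (n : F) = 1 := by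
    obtain ⟨m, rfl⟩ := hn
    push_cast
    have : (2 : F) = 0 := CharTwo.two_eq_zero
    rw [this, zero_mul, zero_add]
  rwa [h2, one_mul] at h1

end lin

variable {G : Type u} [Group G] {F : Type} [Field F] {B Y V D : Subgroup G} {k : ℕ}

/-- the elements of `Y` which act as elements of `SL₂(F)^k` -/
def Rr (M : NatC F B Y V D k) : Subgroup G where
  carrier := {y | y ∈ Y ∧ ∃ A, ActsSL M.nat.e V D y A}
  mul_mem' := by
    rintro a b ⟨ha, A, hA, hA'⟩ ⟨hb, A', hA1, hA1'⟩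
    refine ⟨mul_mem ha hb, A * A', NatC.acts_mul (M := M) hb hA hA1, fun d hd => ?_⟩
    have e1 : Commute a d := hA' d hd
    have e2 : Commute b d := hA1' d hd
    exact (e1.mul_left e2).eq
  one_mem' := ⟨one_mem _, 1, NatC.acts_one (M := M), fun d _ => by simp⟩
  inv_mem' := by
    rintro a ⟨ha, A, hA, hA'⟩
    refine ⟨inv_mem ha, A⁻¹, NatC.acts_inv (M := M) ha hA, fun d hd => ?_⟩
    have e1 : Commute a d := hA' d hd
    exact e1.inv_left.eq

/-- the product of the lines -/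
def X0 (M : NatC F B Y V D k) : Subgroup G where
  carrier := {v | v ∈ V ∧ ∀ i, M.nat.e v i 1 = 0}
  mul_mem' := by
    rintro x y ⟨hx, hx'⟩ ⟨hy, hy'⟩
    refine ⟨mul_mem hx hy, fun i => ?_⟩
    rw [M.nat.mul x hx y hy, Pi.add_apply, Pi.add_apply, hx' i, hy' i, add_zero]
  one_mem' := ⟨one_mem _, fun i => by rw [M.map_one]; rfl⟩
  inv_mem' := by
    rintro x ⟨hx, hx'⟩
    refine ⟨inv_mem hx, fun i => ?_⟩
    rw [M.map_inv hx, Pi.neg_apply, Pi.neg_apply, hx' i, neg_zero]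

/-- `C_Y(V)` -/
def CY (Y V : Subgroup G) : Subgroup G := Y ⊓ centralizer (V : Set G)

/-- **The situation.** -/
structure TS (M : NatC F B Y V D k) (Q K : Subgroup G) (z : G) : Prop where
  hm : MinH Y B
  min : IsMinPar B Y
  QB : Q ≤ B
  BQ : B ≤ normalizer (Q : Set G)
  KQ : K ≤ Q
  KR : K ≤ Rr M
  KM : ∀ b : Fin k → F, ∃ t ∈ K, ActsSL M.nat.e V D t fun i => up (b i)
  Kc : K ≤ centralizer (X0 M : Set G)
  zV : z ∈ V
  zB : ∀ b ∈ B, b * z = z * b
  zD : z ∉ D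
  NB : Y ⊓ normalizer (B : Set G) ≤ normalizer (Q : Set G)
  Kw : ∀ R : Subgroup G, K ≤ R → R ≤ B → normalizer (R : Set G) ≤ normalizer (K : Set G)
  mp : ∀ Y' : Subgroup G, IsMinPar B Y' → Y' ≤ Y → Y' ≤ normalizer (K : Set G) → (∃ y ∈ Y', y * z ≠ z * y) →
    Y' ≤ normalizer (Q : Set G)

section basic

variable (M : NatC F B Y V D k)

theorem Rr_le : Rr M ≤ Y := fun _ h => h.1

theorem Rr_norm {g : G} (hg : g ∈ Y) {h : G} (hh : h ∈ Rr M) : g * h * g⁻¹ ∈ Rr M := by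
  obtain ⟨hhY, A, hA, hA'⟩ := hh
  obtain ⟨A', h1⟩ := M.nat.norm g hg h hhY A hA
  refine ⟨mul_mem (mul_mem hg hhY) (inv_mem hg), A', h1, fun d hd => ?_⟩
  have hd' : g⁻¹ * d * g ∈ D := by
    have := M.Dn g⁻¹ (inv_mem hg) d hd
    rwa [inv_inv] at this
  have h2 := hA' _ hd'
  calc g * h * g⁻¹ * d = g * (h * (g⁻¹ * d * g)) * g⁻¹ := by group
    _ = g * (g⁻¹ * d * g * h) * g⁻¹ := by rw [h2]
    _ = d * (g * h * g⁻¹) := by group

theorem X0_le : X0 M ≤ V := fun _ h => h.1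

theorem D_le_X0 : D ≤ X0 M := fun d hd => ⟨M.DV hd, fun i => by rw [(M.nat.ker d (M.DV hd)).2 hd]; rfl⟩

theorem CY_le_Rr : CY Y V ≤ Rr M := by
  rintro c ⟨hc, hcV⟩
  have h1 : ∀ v ∈ V, c * v = v * c := fun v hv => (mem_centralizer_iff.1 hcV v hv).symm
  refine ⟨hc, 1, fun v hv i => ?_, fun d hd => h1 d (M.DV hd)⟩
  rw [h1 v hv, mul_inv_cancel_right, Pi.one_apply, ap_one]

theorem CY_norm (M : NatC F B Y V D k) {g : G} (hg : g ∈ Y) {h : G} (hh : h ∈ CY Y V) : g * h * g⁻¹ ∈ CY Y V := by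
  obtain ⟨h1, h2⟩ := hh
  refine mem_inf.2 ⟨mul_mem (mul_mem hg h1) (inv_mem hg), mem_centralizer_iff.2 fun v hv => ?_⟩
  have hv' : g⁻¹ * v * g ∈ V := by
    have := M.Vn g⁻¹ (inv_mem hg) v hv
    rwa [inv_inv] at this
  have h3 := mem_centralizer_iff.1 h2 _ hv'
  calc v * (g * h * g⁻¹) = g * (g⁻¹ * v * g * h) * g⁻¹ := by group
    _ = g * (h * (g⁻¹ * v * g)) * g⁻¹ := by rw [h3]
    _ = g * h * g⁻¹ * v := by group

theorem Y_le_CY (M : NatC F B Y V D k) [Finite G] : Y ≤ normalizer (CY Y V : Set G) := fun _ hg =>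
  mem_norm_of fun _ hk => CY_norm M hg hk

/-- two elements with the same coordinates differ by an element of `D` -/
theorem div_mem {v w : G} (hv : v ∈ V) (hw : w ∈ V) (h : M.nat.e v = M.nat.e w) : v * w⁻¹ ∈ D := by
  rw [← M.nat.ker _ (mul_mem hv (inv_mem hw)), M.map_div hv hw, h, sub_self]

end basic

namespace TS

variable [Finite G] {M : NatC F B Y V D k} {Q K : Subgroup G} {z : G}

section a

variable [CharP F 2] (h : TS M Q K z)
include h

theorem KB : K ≤ B := h.KQ.trans h.QB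

theorem BY : B ≤ Y := h.hm.syl.1

theorem BV {b : G} (hb : b ∈ B) {v : G} (hv : v ∈ V) : b * v * b⁻¹ ∈ V := M.Vn b (h.BY hb) v hv

/-- `z` lies on the lines -/
theorem z1 (i : Fin k) : M.nat.e z i 1 = 0 := by
  obtain ⟨t, ht, ha⟩ := h.KM fun _ => 1
  have h1 := ha.1 z h.zV i
  rw [h.zB t (h.KB ht), mul_inv_cancel_right] at h1
  have h2 := congrFun h1 0
  rw [ap_zero', up_00, up_01, one_mul, one_mul] at h2
  exact left_eq_add.1 h2

theorem zX : z ∈ X0 M := ⟨h.zV, h.z1⟩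

/-- `z` has full support -/
theorem z0 (i : Fin k) : M.nat.e z i 0 ≠ 0 := by
  intro h0
  apply h.zD
  rw [← M.nat.ker z h.zV]
  have hi : M.nat.e z i = 0 := ext2 h0 (h.z1 i)
  funext j
  obtain ⟨t, ht, htr⟩ := M.nat.trans i j
  have h1 := (htr z h.zV).2 hi
  rw [h.zB t ht, mul_inv_cancel_right] at h1
  exact h1

theorem ez (i : Fin k) : M.nat.e z i = ![M.nat.e z i 0, 0] := ext2 rfl (h.z1 i)

/-- elements acting as upper unitriangular elements -/
theorem split_up {y : G} (hy : y ∈ Y) {b : Fin k → F} (ha : ActsSL M.nat.e V D y fun i => up (b i)) :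
    ∃ t ∈ K, ActsSL M.nat.e V D t (fun i => up (b i)) ∧ t⁻¹ * y ∈ CY Y V := by
  obtain ⟨t, ht, hta⟩ := h.KM b
  have htY := h.BY (h.KB ht)
  refine ⟨t, ht, hta, mem_inf.2 ⟨mul_mem (inv_mem htY) hy, mem_centralizer_iff.2 fun v hv => ?_⟩⟩
  have hs : t⁻¹ * y ∈ M.stab := by
    refine ⟨mul_mem (inv_mem htY) hy, ?_, fun d hd => ?_⟩
    · have h1 := NatC.acts_mul (M := M) hy (NatC.acts_inv (M := M) htY hta.1) ha.1
      rwa [inv_mul_cancel] at h1
    · have e1 : Commute t d := hta.2 d hd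
      have e2 : Commute y d := ha.2 d hd
      exact (e1.inv_left.mul_left e2).eq
  exact (M.cent_of_stab h.hm hs hv).symm

/-- upper unitriangular elements centralise the lines -/
theorem cent_up {y : G} (hy : y ∈ Y) {b : Fin k → F} (ha : ActsSL M.nat.e V D y fun i => up (b i)) {x : G}
    (hx : x ∈ X0 M) : y * x = x * y := by
  obtain ⟨t, ht, -, hc⟩ := h.split_up hy ha
  have e1 : Commute t x := (mem_centralizer_iff.1 (h.Kc ht) x hx).symm
  have e2 : Commute (t⁻¹ * y) x := (mem_centralizer_iff.1 hc.2 x (X0_le M hx)).symm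
  have e3 : t * (t⁻¹ * y) = y := by group
  have e4 := e1.mul_left e2
  rw [e3] at e4
  exact e4.eq

/-- elements of `Rr` which centralise `z` modulo `D` are upper unitriangular -/
theorem up_of_cent {y : G} {A : Fin k → Matrix.SpecialLinearGroup (Fin 2) F} (ha : ActsSL M.nat.e V D y A)
    (hz : M.nat.e (y * z * y⁻¹) = M.nat.e z) : A = fun i => up (ent (A i) 0 1) := by
  funext i
  refine exists_up_of_vec (h.z0 i) ?_
  have h1 := ha.1 z h.zV i
  rw [hz, h.ez i] at h1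
  exact h1.symm

theorem B_up {t : G} (ht : t ∈ B ⊓ Rr M) : ∃ b : Fin k → F, ActsSL M.nat.e V D t fun i => up (b i) := by
  obtain ⟨htB, htY, A, hA⟩ := ht
  have h1 := h.up_of_cent hA (by rw [h.zB t htB, mul_inv_cancel_right])
  exact ⟨fun i => ent (A i) 0 1, h1 ▸ hA⟩

theorem K_le_B0 : K ≤ B ⊓ Rr M := le_inf h.KB h.KR

/-- `C_V(B0) = X0` -/
theorem cv_B0 : V ⊓ centralizer ((B ⊓ Rr M : Subgroup G) : Set G) = X0 M := by
  apply le_antisymm
  · rintro v ⟨hv, hc⟩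
    refine ⟨hv, fun i => ?_⟩
    obtain ⟨t, ht, ha⟩ := h.KM fun _ => 1
    have h1 := ha.1 v hv i
    have h3 : t * v * t⁻¹ = v := by rw [mem_centralizer_iff.1 hc t (h.K_le_B0 ht)]; group
    rw [h3] at h1
    have h2 := congrFun h1 0
    rw [ap_zero', up_00, up_01, one_mul, one_mul] at h2
    exact left_eq_add.1 h2
  · intro v hv
    refine ⟨X0_le M hv, mem_centralizer_iff.2 fun t ht => ?_⟩
    obtain ⟨b, hb⟩ := h.B_up ht
    exact h.cent_up (h.BY ht.1) hb hv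

/-- `N_Y(B0)` -/
theorem norm_X0 {y : G} (hy : y ∈ Y) (hn : y ∈ normalizer ((B ⊓ Rr M : Subgroup G) : Set G)) {x : G} (hx : x ∈ X0 M) :
    y * x * y⁻¹ ∈ X0 M := by
  rw [← h.cv_B0] at hx ⊢
  refine ⟨M.Vn y hy x hx.1, mem_centralizer_iff.2 fun t ht => ?_⟩
  have h1 : y⁻¹ * t * y ∈ B ⊓ Rr M := by
    have := (mem_normalizer_iff.1 (inv_mem hn) t).1 ht
    rwa [inv_inv] at this
  have h2 := mem_centralizer_iff.1 hx.2 _ h1
  calc t * (y * x * y⁻¹) = y * (y⁻¹ * t * y * x) * y⁻¹ := by group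
    _ = y * (x * (y⁻¹ * t * y)) * y⁻¹ := by rw [h2]
    _ = y * x * y⁻¹ * t := by group

theorem B_norm : B ≤ normalizer ((B ⊓ Rr M : Subgroup G) : Set G) := fun b hb =>
  mem_norm_of fun t ht => mem_inf.2 ⟨mul_mem (mul_mem hb (mem_inf.1 ht).1) (inv_mem hb), Rr_norm M (h.BY hb) (mem_inf.1 ht).2⟩

end a

/-! ### Frattini -/

/-- the elements which act as upper unitriangular elements -/
def UX (M : NatC F B Y V D k) : Subgroup G where
  carrier := {y | y ∈ Y ∧ ∃ b : Fin k → F, ActsSL M.nat.e V D y fun i => up (b i)}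
  mul_mem' := by
    rintro a b ⟨ha, A, hA, hA'⟩ ⟨hb, A', hA1, hA1'⟩
    refine ⟨mul_mem ha hb, A + A', ?_, fun d hd => ?_⟩
    · have h1 := NatC.acts_mul (M := M) hb hA hA1
      have e : ((fun i => up (A i)) * fun i => up (A' i)) = fun i => up ((A + A') i) := by
        funext i
        rw [Pi.mul_apply, up_mul, Pi.add_apply]
      rwa [e] at h1
    · have e1 : Commute a d := hA' d hd
      have e2 : Commute b d := hA1' d hd
      exact (e1.mul_left e2).eq
  one_mem' := ⟨one_mem _, 0, by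
    have h1 := NatC.acts_one (M := M)
    have e : (1 : Fin k → Matrix.SpecialLinearGroup (Fin 2) F) = fun i => up ((0 : Fin k → F) i) := by
      funext i
      rw [Pi.zero_apply, up_zero, Pi.one_apply]
    rwa [e] at h1, fun d _ => by simp⟩
  inv_mem' := by
    rintro a ⟨ha, A, hA, hA'⟩
    refine ⟨inv_mem ha, -A, ?_, fun d hd => ?_⟩
    · have h1 := NatC.acts_inv (M := M) ha hA
      have e : (fun i => up (A i))⁻¹ = fun i => up ((-A) i) := by
        funext i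
        rw [Pi.inv_apply, up_inv, Pi.neg_apply]
      rwa [e] at h1
    · have e1 : Commute a d := hA' d hd
      exact e1.inv_left.eq

section frat

variable (M) in
theorem UX_le : UX M ≤ Rr M := fun _ h => ⟨h.1, _, h.2.choose_spec⟩

variable (M) in
theorem CY_le_UX : CY Y V ≤ UX M := by
  intro c hc
  obtain ⟨h1, A, h2, h3⟩ := CY_le_Rr M hc
  refine ⟨h1, 0, fun v hv i => ?_, h3⟩
  rw [(mem_centralizer_iff.1 hc.2 v hv).symm, mul_inv_cancel_right]
  show M.nat.e v i = ap (up 0) (M.nat.e v i)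
  rw [up_zero, ap_one]

variable [CharP F 2] (h : TS M Q K z)
include h

theorem K_le_UX : K ≤ UX M := fun _ ht => ⟨h.BY (h.KB ht), h.B_up (h.K_le_B0 ht)⟩

theorem B0_eq : B ⊓ Rr M = B ⊓ UX M :=
  le_antisymm (le_inf inf_le_left fun t ht => ⟨h.BY (mem_inf.1 ht).1, h.B_up ht⟩) (inf_le_inf_left _ (UX_le M))

theorem syl_B0 : Syl (B ⊓ Rr M) (UX M) := by
  have hC : Syl (B ⊓ CY Y V) (CY Y V) := syl_inf h.hm.syl inf_le_left fun _ hg _ hn => CY_norm M hg hn
  refine ⟨h.B0_eq.le.trans inf_le_right, h.hm.syl.2.1.to_le inf_le_left, fun R hR hR2 hBR => ?_⟩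
  refine le_antisymm ?_ hBR
  have hC' : B ⊓ CY Y V ≤ B ⊓ Rr M := inf_le_inf_left _ (CY_le_Rr M)
  have h1 : R ⊓ CY Y V = B ⊓ CY Y V :=
    hC.2.2 _ inf_le_right (hR2.to_le inf_le_left) (le_inf (hC'.trans hBR) inf_le_right)
  intro r hr
  obtain ⟨hrY, b, hb⟩ := hR hr
  obtain ⟨t, ht, -, hc⟩ := h.split_up hrY hb
  have htR : t ∈ R := hBR (h.K_le_B0 ht)
  have h2 : t⁻¹ * r ∈ B ⊓ CY Y V := by
    rw [← h1]
    exact mem_inf.2 ⟨mul_mem (inv_mem htR) hr, hc⟩
  have h3 : r = t * (t⁻¹ * r) := by group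
  rw [h3]
  exact mul_mem (h.K_le_B0 ht) (hC' h2)

/-- **Frattini**: an element of `Rr` which normalises `UX` may be changed by `C_Y(V)` to normalise `B0`. -/
theorem frat {g : G} (hg : g ∈ Y) (hn : cj g (UX M) = UX M) :
    ∃ c ∈ CY Y V, c * g ∈ normalizer ((B ⊓ Rr M : Subgroup G) : Set G) := by
  have h1 := syl_cj g h.syl_B0
  rw [hn] at h1
  obtain ⟨x, hx, hxe⟩ := syl_conj h1 h.syl_B0
  obtain ⟨hxY, b, hb⟩ := hx
  obtain ⟨t, ht, -, hc⟩ := h.split_up hxY hb
  have htn : t⁻¹ ∈ normalizer ((B ⊓ Rr M : Subgroup G) : Set G) := inv_mem (h.B_norm (h.KB ht))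
  refine ⟨t⁻¹ * x, hc, ?_⟩
  rw [mem_normalizer_iff_cj]
  have e1 : t⁻¹ * x * g = t⁻¹ * (x * g) := by group
  rw [e1, ← cj_cj, ← cj_cj, hxe]
  exact mem_normalizer_iff_cj.1 htn

end frat

/-! ### The torus -/

section tor

omit [Finite G] in
theorem ap_up_tri {A : Matrix.SpecialLinearGroup (Fin 2) F} (hA : ent A 1 0 = 0) (x : F) :
    ap A ![x, 0] = ![ent A 0 0 * x, 0] := by
  apply ext2
  · rw [ap_zero']; simp
  · rw [ap_one', hA]; simp

omit [Finite G] in
theorem ent_det {A : Matrix.SpecialLinearGroup (Fin 2) F} (hA : ent A 1 0 = 0) : ent A 0 0 * ent A 1 1 = 1 := by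
  have h := det_eq A
  rw [hA, mul_zero, sub_zero] at h
  exact h

omit [Finite G] in
/-- the commutator of two upper triangular matrices -/
theorem comm_up {A C : Matrix.SpecialLinearGroup (Fin 2) F} (hA : ent A 1 0 = 0) (hC : ent C 1 0 = 0) :
    ∃ b, A * C * A⁻¹ * C⁻¹ = up b := by
  refine ⟨_, exists_up_of_vec one_ne_zero ?_⟩
  have h1 : ∀ {A : Matrix.SpecialLinearGroup (Fin 2) F}, ent A 1 0 = 0 → ∀ x : F,
      ap A⁻¹ ![x, 0] = ![ent A 1 1 * x, 0] := by
    intro A hA x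
    have h2 : ap A ![ent A 1 1 * x, 0] = ![x, 0] := by
      rw [ap_up_tri hA, ← mul_assoc, ent_det hA, one_mul]
    rw [← h2, ap_inv_ap]
  rw [ap_mul, ap_mul, ap_mul, h1 hC, h1 hA, ap_up_tri hC, ap_up_tri hA]
  have e1 := ent_det hA
  have e2 := ent_det hC
  have e3 : ent A 0 0 * (ent C 0 0 * (ent A 1 1 * (ent C 1 1 * 1))) = 1 := by
    calc _ = (ent A 0 0 * ent A 1 1) * (ent C 0 0 * ent C 1 1) := by ring
      _ = 1 := by rw [e1, e2, one_mul]
  rw [e3]

variable [CharP F 2] (h : TS M Q K z)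
include h

/-- the diagonal elements -/
theorem tor (a : Fin k → F) (ha : ∀ i, a i ≠ 0) : ∃ t ∈ Y, t ∈ normalizer ((B ⊓ Rr M : Subgroup G) : Set G) ∧
    ActsSL M.nat.e V D t fun i => dg (a i) (ha i) := by
  obtain ⟨g, hg, hga⟩ := M.nat.lift fun i => dg (a i) (ha i)
  have hn : cj g (UX M) = UX M := by
    refine mem_normalizer_iff_cj.1 (mem_norm_of fun y hy => ?_)
    obtain ⟨hyY, b, hb⟩ := hy
    refine ⟨mul_mem (mul_mem hg hyY) (inv_mem hg), fun i => a i ^ 2 * b i, ?_, fun d hd => ?_⟩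
    · have h1 := NatC.acts_mul (M := M) (inv_mem hg) (NatC.acts_mul (M := M) hyY hga.1 hb.1)
        (NatC.acts_inv (M := M) hg hga.1)
      have e : ((fun i => dg (a i) (ha i)) * (fun i => up (b i)) * (fun i => dg (a i) (ha i))⁻¹) =
          fun i => up (a i ^ 2 * b i) := by
        funext i
        rw [Pi.mul_apply, Pi.mul_apply, Pi.inv_apply, dg_up, mul_inv_cancel_right]
      rwa [e] at h1
    · have e1 : Commute g d := hga.2 d hd
      have e2 : Commute y d := hb.2 d hd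
      exact ((e1.mul_left e2).mul_left e1.inv_left).eq
  obtain ⟨c, hc, hcn⟩ := h.frat hg hn
  refine ⟨c * g, mul_mem hc.1 hg, hcn, ?_, fun d hd => ?_⟩
  · intro v hv i
    have hv' := M.Vn g hg v hv
    have e1 : c * g * v * (c * g)⁻¹ = c * (g * v * g⁻¹) * c⁻¹ := by group
    rw [e1, (mem_centralizer_iff.1 hc.2 _ hv').symm, mul_inv_cancel_right]
    exact hga.1 v hv i
  · have e1 : Commute g d := hga.2 d hd
    have e2 : Commute c d := (mem_centralizer_iff.1 hc.2 d (M.DV hd)).symm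
    exact (e2.mul_left e1).eq

/-- the elements of `N_R(B0)` are upper triangular -/
theorem tri {r : G} (hr : r ∈ Y) (hn : r ∈ normalizer ((B ⊓ Rr M : Subgroup G) : Set G))
    {A : Fin k → Matrix.SpecialLinearGroup (Fin 2) F} (hA : ActsSL M.nat.e V D r A) (i : Fin k) : ent (A i) 1 0 = 0 := by
  obtain ⟨v, hv, hev⟩ := M.nat.surj fun _ => ![1, 0]
  have hvX : v ∈ X0 M := ⟨hv, fun i => by rw [hev]; rfl⟩
  have h1 := (h.norm_X0 hr hn hvX).2 i
  rw [hA.1 v hv i, hev, ap_one'] at h1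
  simpa using h1

/-- `N_R(B0)` is abelian on `X0` -/
theorem comm_X0 {r s : G} (hr : r ∈ Rr M) (hs : s ∈ Rr M) (hrn : r ∈ normalizer ((B ⊓ Rr M : Subgroup G) : Set G))
    (hsn : s ∈ normalizer ((B ⊓ Rr M : Subgroup G) : Set G)) {x : G} (hx : x ∈ X0 M) :
    r * s * r⁻¹ * s⁻¹ * x = x * (r * s * r⁻¹ * s⁻¹) := by
  obtain ⟨hrY, A, hA⟩ := hr
  obtain ⟨hsY, C, hC⟩ := hs
  have h1 : ∀ i, ∃ b, A i * C i * (A i)⁻¹ * (C i)⁻¹ = up b := fun i =>
    comm_up (h.tri hrY hrn hA i) (h.tri hsY hsn hC i)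
  choose b hb using h1
  refine h.cent_up (b := b) (mul_mem (mul_mem (mul_mem hrY hsY) (inv_mem hrY)) (inv_mem hsY)) ⟨?_, fun d hd => ?_⟩ hx
  · have h2 := NatC.acts_mul (M := M) (inv_mem hsY) (NatC.acts_mul (M := M) (inv_mem hrY)
      (NatC.acts_mul (M := M) hsY hA.1 hC.1) (NatC.acts_inv (M := M) hrY hA.1)) (NatC.acts_inv (M := M) hsY hC.1)
    have e : A * C * A⁻¹ * C⁻¹ = fun i => up (b i) := by
      funext i
      rw [Pi.mul_apply, Pi.mul_apply, Pi.mul_apply, Pi.inv_apply, Pi.inv_apply, hb]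
    rwa [e] at h2
  · have e1 : Commute r d := hA.2 d hd
    have e2 : Commute s d := hC.2 d hd
    exact (((e1.mul_left e2).mul_left e1.inv_left).mul_left e2.inv_left).eq

end tor

/-! ### `Q C_Y(V)` is normal in `N_Y(B0)` -/

section nrm

omit [Finite G] in
theorem norm_sup {A C : Subgroup G} {g : G} (h1 : g ∈ normalizer (A : Set G)) (h2 : g ∈ normalizer (C : Set G)) :
    g ∈ normalizer ((A ⊔ C : Subgroup G) : Set G) := by
  rw [mem_normalizer_iff_cj] at *
  have h3 : cj g (A ⊔ C) = cj g A ⊔ cj g C := Subgroup.map_sup _ _ _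
  rw [h3, h1, h2]

variable [CharP F 2] (h : TS M Q K z)
include h

theorem Rr_norm' : Y ≤ normalizer (Rr M : Set G) := fun _ hg => mem_norm_of fun _ hk => Rr_norm M hg hk

theorem oddGen_le_Rr : oddGen Y ≤ Rr M := by
  rcases min_or h.hm.syl h.min (Rr_le M) h.Rr_norm' with h1 | h1
  · exact h1
  · exfalso
    obtain ⟨t, ht, hta⟩ := h.KM fun _ => 1
    obtain ⟨v, hv, hev⟩ := M.nat.surj fun _ => ![0, 1]
    have h2 := M.VcQ t (h1 (h.K_le_B0 ht)) v hv
    have h3 := hta.1 v hv ⟨0, M.pos⟩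
    rw [h2, mul_inv_cancel_right, hev] at h3
    have h4 := congrFun h3 0
    rw [ap_zero'] at h4
    simp at h4

/-- odd elements which centralise `z` centralise `V` -/
theorem odd_cent {y : G} (hy : y ∈ Y) (ho : Odd (orderOf y)) (hz : y * z = z * y) : y ∈ CY Y V := by
  obtain ⟨-, A, hA⟩ := h.oddGen_le_Rr (mem_oddGen hy ho)
  have h1 := h.up_of_cent hA (by rw [hz, mul_inv_cancel_right])
  have hpow : ∀ m : ℕ, M.Acts (y ^ m) (A ^ m) := by
    intro m
    induction m with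
    | zero => rw [pow_zero, pow_zero]; exact NatC.acts_one
    | succ m ih => rw [pow_succ, pow_succ]; exact NatC.acts_mul hy ih hA.1
  have h2 := hpow (orderOf y)
  rw [pow_orderOf_eq_one] at h2
  have h3 := NatC.acts_unique h2 NatC.acts_one
  have h4 : ∀ i, ent (A i) 0 1 = 0 := by
    intro i
    refine up_odd ho ?_
    have h5 := congrFun h3 i
    rw [Pi.pow_apply, Pi.one_apply] at h5
    have h6 := congrFun h1 i
    rw [← h6]
    exact h5
  refine mem_inf.2 ⟨hy, mem_centralizer_iff.2 fun v hv => (M.cent_of_stab h.hm ⟨hy, fun w hw i => ?_, hA.2⟩ hv).symm⟩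
  rw [hA.1 w hw i, Pi.one_apply, congrFun h1 i]
  show ap (up (ent (A i) 0 1)) _ = _
  rw [h4 i, up_zero]

theorem norm_QC : Y ⊓ normalizer ((B ⊓ Rr M : Subgroup G) : Set G) ≤ normalizer ((Q ⊔ CY Y V : Subgroup G) : Set G) := by
  refine MinSimple.MinParabolic.le_of_forall (S := B) (le_inf h.BY h.B_norm) ?_ ?_
  · rintro y ⟨⟨hy, -⟩, hyB⟩
    exact norm_sup (h.NB ⟨hy, hyB⟩) (Y_le_CY M hy)
  · intro Y' hY' hle
    have hYY : Y' ≤ Y := hle.trans inf_le_left
    have hYK : Y' ≤ normalizer (K : Set G) := (hle.trans inf_le_right).trans (h.Kw _ h.K_le_B0 inf_le_left)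
    by_cases hz : ∃ y ∈ Y', y * z ≠ z * y
    · exact fun y hy => norm_sup (h.mp Y' hY' hYY hYK hz hy) (Y_le_CY M (hYY hy))
    · push Not at hz
      have hsyl : Syl B Y' := ⟨hY'.le, h.hm.syl.2.1, fun R hR hR2 hBR => h.hm.syl.2.2 R (hR.trans hYY) hR2 hBR⟩
      rw [← NO3b.EZero.oddGen_sup_syl hsyl]
      refine sup_le ?_ fun b hb => norm_sup (h.BQ hb) (Y_le_CY M (h.BY hb))
      have hcl : oddGen Y' = closure {x : G | x ∈ Y' ∧ Odd (orderOf x)} := rfl
      rw [hcl, closure_le]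
      rintro g ⟨hg, ho⟩
      exact le_normalizer ((le_sup_right : CY Y V ≤ Q ⊔ CY Y V) (h.odd_cent (hYY hg) ho (hz g hg)))

/-- **`[N_R(B0), Q]` centralises `X0`** -/
theorem comm_cent {r q x : G} (hr : r ∈ Rr M) (hrn : r ∈ normalizer ((B ⊓ Rr M : Subgroup G) : Set G)) (hq : q ∈ Q)
    (hx : x ∈ X0 M) : r * q * r⁻¹ * q⁻¹ * x = x * (r * q * r⁻¹ * q⁻¹) := by
  have hqY : q ∈ Y := h.BY (h.QB hq)
  have h1 : r * q * r⁻¹ ∈ Q ⊔ CY Y V :=
    (mem_normalizer_iff.1 (h.norm_QC ⟨hr.1, hrn⟩) q).1 ((le_sup_left : Q ≤ Q ⊔ CY Y V) hq)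
  obtain ⟨q', hq', c, hc, e⟩ := mem_sup_norm (A := Q) (B := CY Y V) (fun q hq => Y_le_CY M (h.BY (h.QB hq))) h1
  have hc' : q * c * q⁻¹ ∈ CY Y V := CY_norm M hqY hc
  have e1 : r * q * r⁻¹ * q⁻¹ = (q' * q⁻¹) * (q * c * q⁻¹) := by rw [e]; group
  have h2 : r * q * r⁻¹ * q⁻¹ ∈ Rr M := by
    have h3 := mul_mem hr (Rr_norm M hqY (inv_mem hr))
    have e2 : r * q * r⁻¹ * q⁻¹ = r * (q * r⁻¹ * q⁻¹) := by group
    rwa [e2]
  have h3 : q' * q⁻¹ ∈ B ⊓ Rr M := by
    refine mem_inf.2 ⟨mul_mem (h.QB hq') (inv_mem (h.QB hq)), ?_⟩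
    have h4 := mul_mem h2 (inv_mem (CY_le_Rr M hc'))
    rwa [e1, mul_inv_cancel_right] at h4
  obtain ⟨b, hb⟩ := h.B_up h3
  have h4 : Commute (q' * q⁻¹) x := h.cent_up (mem_inf.1 h3).2.1 hb hx
  have h5 : Commute (q * c * q⁻¹) x := (mem_centralizer_iff.1 hc'.2 x (X0_le M hx)).symm
  rw [e1]
  exact (h4.mul_left h5).eq

end nrm

/-! ### The complement -/

section main

omit [Finite G] in
theorem V_comm (M : NatC F B Y V D k) {v w : G} (hv : v ∈ V) (hw : w ∈ V) : v * w = w * v := M.Vcomm hv hw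

variable [CharP F 2] (h : TS M Q K z)
include h

/-- conjugates under `N_R(B0)` of elements centralised by `Q` are centralised by `Q` -/
theorem cent_cj {r x : G} (hr : r ∈ Rr M) (hrn : r ∈ normalizer ((B ⊓ Rr M : Subgroup G) : Set G)) (hx : x ∈ X0 M)
    (hxQ : ∀ q ∈ Q, q * x = x * q) : ∀ q ∈ Q, q * (r * x * r⁻¹) = r * x * r⁻¹ * q := by
  intro q hq
  have h1 : r⁻¹ * q * r * q⁻¹ * x = x * (r⁻¹ * q * r * q⁻¹) := by
    have := h.comm_cent (inv_mem hr) (inv_mem hrn) hq hx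
    rwa [inv_inv] at this
  have h2 := hxQ q hq
  calc q * (r * x * r⁻¹) = r * (r⁻¹ * q * r * q⁻¹) * (q * x) * r⁻¹ := by group
    _ = r * (r⁻¹ * q * r * q⁻¹ * x) * q * r⁻¹ := by rw [h2]; group
    _ = r * (x * (r⁻¹ * q * r * q⁻¹)) * q * r⁻¹ := by rw [h1]
    _ = r * x * r⁻¹ * q := by group

/-- every element of `X0` agrees modulo `D` with an element centralised by `Q` -/
theorem exists_cent (hF : ∀ a : F, ∃ c : F, c ≠ 0 ∧ c ≠ a) {v : G} (hv : v ∈ X0 M) :
    ∃ m ∈ X0 M, (∀ q ∈ Q, q * m = m * q) ∧ M.nat.e m = M.nat.e v := by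
  -- full support
  have key : ∀ c : Fin k → F, (∀ i, c i ≠ 0) → ∃ m ∈ X0 M, (∀ q ∈ Q, q * m = m * q) ∧ ∀ i, M.nat.e m i = ![c i, 0] := by
    intro c hc
    have ha : ∀ i, c i * (M.nat.e z i 0)⁻¹ ≠ 0 := fun i => mul_ne_zero (hc i) (inv_ne_zero (h.z0 i))
    obtain ⟨t, htY, htn, hta⟩ := h.tor (fun i => c i * (M.nat.e z i 0)⁻¹) ha
    refine ⟨t * z * t⁻¹, h.norm_X0 htY htn h.zX,
      h.cent_cj ⟨htY, _, hta⟩ htn h.zX fun q hq => h.zB q (h.QB hq), fun i => ?_⟩
    rw [hta.1 z h.zV i]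
    apply ext2
    · rw [ap_zero', dg_00, dg_01, zero_mul, add_zero]
      simp only [Matrix.cons_val_zero]
      rw [mul_assoc, inv_mul_cancel₀ (h.z0 i), mul_one]
    · rw [ap_one', dg_10, dg_11, h.z1 i, zero_mul, mul_zero, add_zero]
      rfl
  choose c hc0 hc1 using fun i : Fin k => hF (M.nat.e v i 0)
  obtain ⟨m, hm, hmQ, em⟩ := key c hc0
  obtain ⟨n, hn, hnQ, en⟩ := key (fun i => M.nat.e v i 0 - c i) fun i => sub_ne_zero.2 (hc1 i).symm
  refine ⟨m * n, mul_mem hm hn, fun q hq => ?_, ?_⟩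
  · have e1 : Commute q m := hmQ q hq
    have e2 : Commute q n := hnQ q hq
    exact (e1.mul_right e2).eq
  · rw [M.nat.mul m hm.1 n hn.1]
    funext i
    rw [Pi.add_apply, em, en]
    apply ext2
    · rw [Pi.add_apply]
      simp
    · rw [Pi.add_apply, hv.2 i]
      simp

/-- **The complement.** -/
theorem main (hF : ∀ a : F, ∃ c : F, c ≠ 0 ∧ c ≠ a) (hF1 : ∃ c : F, c ≠ 0 ∧ c ≠ 1) : ∃ E1 : Subgroup G, E1 ≤ X0 M ∧
    Q ≤ centralizer (E1 : Set G) ∧ E1 ⊓ D = ⊥ ∧ B ≤ normalizer (E1 : Set G) ∧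
      ∀ v ∈ X0 M, ∃ c ∈ E1, M.nat.e c = M.nat.e v := by
  obtain ⟨l, hl0, hl1⟩ := hF1
  have hl2 : l - 1 ≠ 0 := sub_ne_zero.2 hl1
  obtain ⟨t, htY, htn, hta⟩ := h.tor (fun _ => l) fun _ => hl0
  have htR : t ∈ Rr M := ⟨htY, _, hta⟩
  have hX : ∀ {x y : G}, x ∈ X0 M → y ∈ X0 M → x * y = y * x := fun hx hy => V_comm M hx.1 hy.1
  have hnX : ∀ {r x : G}, r ∈ Y → r ∈ normalizer ((B ⊓ Rr M : Subgroup G) : Set G) → x ∈ X0 M → r * x * r⁻¹ ∈ X0 M :=
    fun hr hn hx => h.norm_X0 hr hn hx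
  -- the homomorphism
  have hmul : ∀ v ∈ X0 M, ∀ w ∈ X0 M, t * (v * w) * t⁻¹ * (v * w)⁻¹ = (t * v * t⁻¹ * v⁻¹) * (t * w * t⁻¹ * w⁻¹) := by
    intro v hv w hw
    have h1 : w⁻¹ * v⁻¹ = v⁻¹ * w⁻¹ := hX (inv_mem hw) (inv_mem hv)
    have h2 : t * w * t⁻¹ * v⁻¹ = v⁻¹ * (t * w * t⁻¹) := hX (hnX htY htn hw) (inv_mem hv)
    calc t * (v * w) * t⁻¹ * (v * w)⁻¹ = t * v * t⁻¹ * (t * w * t⁻¹) * (w⁻¹ * v⁻¹) := by group
      _ = t * v * t⁻¹ * (t * w * t⁻¹ * v⁻¹) * w⁻¹ := by rw [h1]; group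
      _ = t * v * t⁻¹ * (v⁻¹ * (t * w * t⁻¹)) * w⁻¹ := by rw [h2]
      _ = _ := by group
  let E1 : Subgroup G :=
    { carrier := {x | ∃ v ∈ X0 M, x = t * v * t⁻¹ * v⁻¹}
      mul_mem' := by
        rintro _ _ ⟨v, hv, rfl⟩ ⟨w, hw, rfl⟩
        exact ⟨v * w, mul_mem hv hw, (hmul v hv w hw).symm⟩
      one_mem' := ⟨1, one_mem _, by group⟩
      inv_mem' := by
        rintro _ ⟨v, hv, rfl⟩
        refine ⟨v⁻¹, inv_mem hv, ?_⟩
        have h2 : t * v⁻¹ * t⁻¹ * v = v * (t * v⁻¹ * t⁻¹) := hX (hnX htY htn (inv_mem hv)) hv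
        rw [inv_inv, h2]
        group }
  have hE : ∀ x ∈ E1, x ∈ X0 M := by
    rintro _ ⟨v, hv, rfl⟩
    exact mul_mem (hnX htY htn hv) (inv_mem hv)
  -- the coordinates
  have hco : ∀ v ∈ X0 M, ∀ i, M.nat.e (t * v * t⁻¹ * v⁻¹) i = ![(l - 1) * M.nat.e v i 0, 0] := by
    intro v hv i
    rw [M.map_div (hnX htY htn hv).1 hv.1, Pi.sub_apply, hta.1 v hv.1 i]
    apply ext2
    · rw [Pi.sub_apply, ap_zero', dg_00, dg_01, zero_mul, add_zero]
      simp only [Matrix.cons_val_zero]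
      ring
    · rw [Pi.sub_apply, ap_one', dg_10, dg_11, hv.2 i, zero_mul, mul_zero, add_zero, sub_zero]
      rfl
  have hcov : ∀ v ∈ X0 M, ∃ c ∈ E1, M.nat.e c = M.nat.e v := by
    intro v hv
    obtain ⟨w, hw, ew⟩ := M.nat.surj fun i => ![(l - 1)⁻¹ * M.nat.e v i 0, 0]
    have hwX : w ∈ X0 M := ⟨hw, fun i => by rw [ew]; rfl⟩
    refine ⟨_, ⟨w, hwX, rfl⟩, ?_⟩
    funext i
    rw [hco w hwX i, ew]
    apply ext2
    · simp only [Matrix.cons_val_zero]
      rw [← mul_assoc, mul_inv_cancel₀ hl2, one_mul]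
    · rw [hv.2 i]
      rfl
  have hDt : ∀ d ∈ D, t * d * t⁻¹ * d⁻¹ = 1 := by
    intro d hd
    rw [hta.2 d hd]
    group
  -- `E1` depends only on the coordinates
  have hdep : ∀ v ∈ X0 M, ∀ w ∈ X0 M, M.nat.e v = M.nat.e w → t * v * t⁻¹ * v⁻¹ = t * w * t⁻¹ * w⁻¹ := by
    intro v hv w hw e
    have hd := div_mem M hv.1 hw.1 e
    have hdX : v * w⁻¹ ∈ X0 M := mul_mem hv (inv_mem hw)
    have h1 := hmul _ hdX w hw
    rw [inv_mul_cancel_right, hDt _ hd, one_mul] at h1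
    exact h1
  refine ⟨E1, hE, ?_, ?_, ?_, hcov⟩
  · intro q hq
    rw [mem_centralizer_iff]
    rintro _ ⟨v, hv, rfl⟩
    obtain ⟨m, hm, hmQ, em⟩ := h.exists_cent hF hv
    rw [← hdep m hm v hv em]
    have e1 : Commute q (t * m * t⁻¹) := h.cent_cj htR htn hm hmQ q hq
    have e2 : Commute q m := hmQ q hq
    exact (e1.mul_right e2.inv_right).eq.symm
  · rw [eq_bot_iff]
    rintro x ⟨⟨v, hv, rfl⟩, hxD⟩
    rw [mem_bot]
    apply hDt
    rw [← M.nat.ker v hv.1]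
    funext i
    have h1 := hco v hv i
    rw [(M.nat.ker _ (M.DV hxD)).2 hxD] at h1
    have h2 := congrFun h1 0
    simp only [Matrix.cons_val_zero] at h2
    have h3 : M.nat.e v i 0 = 0 := by
      rcases mul_eq_zero.1 h2.symm with h3 | h3
      · exact absurd h3 hl2
      · exact h3
    exact ext2 h3 (hv.2 i)
  · intro b hb
    have hbY := h.BY hb
    refine mem_norm_of ?_
    rintro _ ⟨v, hv, rfl⟩
    -- `r w r⁻¹ w⁻¹ ∈ E1`
    have hbn := h.B_norm hb
    set r := b * t * b⁻¹ with hr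
    set w := b * v * b⁻¹ with hw
    have hrR : r ∈ Rr M := Rr_norm M hbY htR
    have hrn : r ∈ normalizer ((B ⊓ Rr M : Subgroup G) : Set G) := mul_mem (mul_mem hbn htn) (inv_mem hbn)
    have hwX : w ∈ X0 M := hnX hbY hbn hv
    have e1 : b * (t * v * t⁻¹ * v⁻¹) * b⁻¹ = r * w * r⁻¹ * w⁻¹ := by rw [hr, hw]; group
    rw [e1]
    obtain ⟨c, hc, ec⟩ := hcov w hwX
    have hcX := hE c hc
    obtain ⟨-, A, hA⟩ := hrR
    have hrY : r ∈ Y := mul_mem (mul_mem hbY htY) (inv_mem hbY)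
    -- `[r, w] = [r, c]`
    have hd := div_mem M hwX.1 hcX.1 ec.symm
    have e2 : r * (w * c⁻¹) * r⁻¹ = w * c⁻¹ := by rw [hA.2 _ hd]; group
    have e3 : r * w * r⁻¹ * w⁻¹ = r * c * r⁻¹ * c⁻¹ := by
      have h3 : r * w * r⁻¹ = w * c⁻¹ * (r * c * r⁻¹) := by
        calc r * w * r⁻¹ = (r * (w * c⁻¹) * r⁻¹) * (r * c * r⁻¹) := by group
          _ = _ := by rw [e2]
      have h4 : r * c * r⁻¹ ∈ X0 M := hnX hrY hrn hcX
      rw [h3]
      have h5 : w * c⁻¹ * (r * c * r⁻¹) * w⁻¹ = (r * c * r⁻¹) * (w * c⁻¹ * w⁻¹) := by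
        have h6 := hX (mul_mem hwX (inv_mem hcX)) h4
        rw [h6]; group
      have h7 : w * c⁻¹ * w⁻¹ = c⁻¹ := by
        have := hX hwX (inv_mem hcX)
        rw [this]; group
      rw [h5, h7]
    rw [e3]
    refine mul_mem ?_ (inv_mem hc)
    obtain ⟨u, hu, rfl⟩ := hc
    refine ⟨r * u * r⁻¹, hnX hrY hrn hu, ?_⟩
    -- the commutator of `r` and `t` centralises `X0`
    have h8 := h.comm_X0 (inv_mem htR) ⟨hrY, A, hA⟩ (inv_mem htn) hrn hu
    have h9 : r⁻¹ * t * r * t⁻¹ * (t * u * t⁻¹) * (r⁻¹ * t * r * t⁻¹)⁻¹ = t * u * t⁻¹ := by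
      have := h.comm_X0 (inv_mem (⟨hrY, A, hA⟩ : r ∈ Rr M)) htR (inv_mem hrn) htn (hnX htY htn hu)
      rw [inv_inv] at this
      rw [this]; group
    calc r * (t * u * t⁻¹ * u⁻¹) * r⁻¹ = r * (t * u * t⁻¹) * r⁻¹ * (r * u⁻¹ * r⁻¹) := by group
      _ = r * (r⁻¹ * t * r * t⁻¹ * (t * u * t⁻¹) * (r⁻¹ * t * r * t⁻¹)⁻¹) * r⁻¹ * (r * u⁻¹ * r⁻¹) := by rw [h9]
      _ = t * (r * u * r⁻¹) * t⁻¹ * (r * u * r⁻¹)⁻¹ := by group

end main

end TS

end Cfsg.Agent.Omega.CaseLQ.Torus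

end

section


/-!
# CaseL, weird `Y`, (ii): the data of `Y` for symmetric blocks

`T` a Sylow 2-subgroup of the minimal parabolic `Y` of characteristic 2, `V = ⟨Ω₁(Z(T))^Y⟩ ≤ U`, `V / D` a sum of
even-subset modules of symmetric groups of degree `2^m + 1` (`SymKM`); `E ≤ T` a maximal offender of least rank on `U`,
`E ≰ O₂(Y)`.  Then `E = ⟨t⟩ C_E(U)`, `t` a transposition; the members are the `T`-conjugates `{1, w}` of `[U, t]`, and
`K w` is `Sym{0, a, b}` for `w = {a, b}`.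

* `over_false` : two conjugate transvection-like elements make an over-offender;
* `TD` : the transposition; `exists_td`; `TD.uniq` : it is determined by its centre modulo `C(U)`;
* `yd_sym` : the data of `Y` in the ψ-trick.
-/

set_option autoImplicit false
set_option linter.unusedSectionVars false

namespace Cfsg.Agent.Omega.CaseLQ

open Subgroup Cfsg Cfsg.Agent.ZN Cfsg.Agent.ZN.ChoiceBase
open Cfsg.Agent.ZN.ChoiceSit (Syl)
open Cfsg.Agent.MinSimple.MinParabolic (IsMinPar)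
open Cfsg.Agent.Omega.FFThm (OffM ElemM NoOverM SymK SymKM ActsSym)
open Cfsg.Agent.Omega.FrameFF (cv)
open Cfsg.Agent.Omega.NO3S.RedC (MaxMin)
open Cfsg.Agent.Omega.NO3S.Level (MinOff)
open Cfsg.Agent.Omega.NO3b.EZero (cl cj_le_cl le_cl cl_le le_normalizer_cl cent_symm cj_cent)
open Cfsg.Agent.Omega.NO3b.K0 (conj_mem' cj_of_le cj_self min_or)
open Cfsg.Agent.Omega.NO3S.Fld (kmod mem_kmod norm_kmod kmod_le relIndex_mul_card relIndex_le_of_map relIndex_mul_of)
open Cfsg.Agent.Omega.SQ1.FFSym (Gd Sy)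
open Cfsg.Agent.Omega.SQ1.FFSym renaming u → uu

universe u

variable {G : Type u} [Group G]

/-- `g` is a conjugate of `t`, `w` the corresponding conjugate of `d` -/
def Tr (Y : Subgroup G) (t d g w : G) : Prop := ∃ p ∈ Y, g = p * t * p⁻¹ ∧ w = p * d * p⁻¹

theorem Tr.cj {Y : Subgroup G} {t d g w q : G} (h : Tr Y t d g w) (hq : q ∈ Y) :
    Tr Y t d (q * g * q⁻¹) (q * w * q⁻¹) := by
  obtain ⟨p, hp, rfl, rfl⟩ := h
  exact ⟨q * p, mul_mem hq hp, by group, by group⟩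

theorem mem_zpowers_two {w z : G} (hw : w * w = 1) (hz : z ∈ zpowers w) : z = 1 ∨ z = w := by
  obtain ⟨n, hn⟩ := mem_zpowers_iff.1 hz
  have h2 : w ^ (2 : ℤ) = 1 := by rw [zpow_ofNat, pow_two]; exact hw
  rcases Int.even_or_odd n with ⟨r, hr⟩ | ⟨r, hr⟩
  · left
    rw [← hn, hr, ← two_mul, zpow_mul, h2, one_zpow]
  · right
    rw [← hn, hr, zpow_add, zpow_mul, zpow_one, h2, one_zpow, one_mul]

variable [Finite G] {H U T Y E : Subgroup G}

/-- **Two conjugate transvections** with different centres are an over-offender. -/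
theorem over_false {V : Subgroup G} (Uc : ∀ x ∈ U, ∀ y ∈ U, x * y = y * x) (Us : ∀ u ∈ U, u ^ 2 = 1)
    (HU : H ≤ normalizer (U : Set G)) (no : NoOverM U H) (VU : V ≤ U) {x y w : G} (hx : x ∈ H) (hy : y ∈ H)
    (yU : ∀ v ∈ U, y⁻¹ * v * y * v⁻¹ ∈ V) (xV : ∀ v ∈ V, x * v = v * x) (hw : w ∈ V)
    (xU : ∀ v ∈ U, x * v * x⁻¹ * v⁻¹ = 1 ∨ x * v * x⁻¹ * v⁻¹ = w) (yw : y * w * y⁻¹ ≠ w) (yV : y * w * y⁻¹ ∈ V) :
    x ∈ centralizer (U : Set G) := by
  by_contra hne
  have hww : w * w = 1 := by rw [← pow_two]; exact Us w (VU hw)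
  set x' := y * x * y⁻¹ with hx'
  have hx'H : x' ∈ H := mul_mem (mul_mem hy hx) (inv_mem hy)
  have key : ∀ v ∈ U, x' * v * x'⁻¹ * v⁻¹ = y * (x * v * x⁻¹ * v⁻¹) * y⁻¹ := by
    intro v hv
    set r := y⁻¹ * v * y * v⁻¹ with hr
    have hrV : r ∈ V := yU v hv
    have e1 : y⁻¹ * v * y = r * v := by rw [hr]; group
    have e2 : x' * v * x'⁻¹ * v⁻¹ = y * (x * (y⁻¹ * v * y) * x⁻¹ * (y⁻¹ * v * y)⁻¹) * y⁻¹ := by rw [hx']; group
    have e3 : x * (r * v) * x⁻¹ * (r * v)⁻¹ = (x * r) * (v * x⁻¹ * v⁻¹) * r⁻¹ := by group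
    have e4 : r * x * (v * x⁻¹ * v⁻¹) * r⁻¹ = r * (x * v * x⁻¹ * v⁻¹) * r⁻¹ := by group
    rw [e2, e1, e3, xV r hrV, e4]
    have h1 : x * v * x⁻¹ * v⁻¹ ∈ U := by
      rcases xU v hv with h | h
      · rw [h]; exact one_mem _
      · rw [h]; exact VU hw
    rw [Uc r (VU hrV) _ h1]
    group
  have key1 : ∀ v ∈ U, x * v * x⁻¹ * v⁻¹ = 1 → x' * v = v * x' := by
    intro v hv h1
    have h2 := key v hv
    rw [h1] at h2
    have e1 : x' * v = (x' * v * x'⁻¹ * v⁻¹) * v * x' := by group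
    have e2 : y * 1 * y⁻¹ = 1 := by group
    rw [e1, h2, e2, one_mul]
  -- `V` is centralised by `x'`
  have x'V : ∀ v ∈ V, x' * v = v * x' := fun v hv => key1 v (VU hv) (by rw [xV v hv]; group)
  set R := zpowers x ⊔ zpowers x' with hR
  have hxR : x ∈ R := (le_sup_left : zpowers x ≤ R) (mem_zpowers x)
  have hx'R : x' ∈ R := (le_sup_right : zpowers x' ≤ R) (mem_zpowers x')
  have hRH : R ≤ H := sup_le (zpowers_le.2 hx) (zpowers_le.2 hx'H)
  have hRV : R ≤ centralizer (V : Set G) := by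
    refine sup_le (zpowers_le.2 (mem_centralizer_iff.2 fun v hv => (xV v hv).symm))
      (zpowers_le.2 (mem_centralizer_iff.2 fun v hv => (x'V v hv).symm))
  have hRq : R ≤ kmod R U V (hRH.trans HU) (hRV.trans (centralizer_le_normalizer _)) := by
    refine sup_le (zpowers_le.2 (mem_kmod.2 ⟨hxR, fun v hv => ?_⟩))
      (zpowers_le.2 (mem_kmod.2 ⟨hx'R, fun v hv => ?_⟩))
    · rcases xU v hv with h | h
      · rw [h]; exact one_mem _
      · rw [h]; exact hw
    · rw [key v hv]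
      rcases xU v hv with h | h
      · rw [h]
        have e2 : y * 1 * y⁻¹ = 1 := by group
        rw [e2]; exact one_mem _
      · rw [h]; exact yV
  have elem : ElemM U R := elemM_of_quad Us Uc fun a ha u hu =>
    ⟨VU ((mem_kmod.1 (hRq ha)).2 u hu), cent_symm hRV ((mem_kmod.1 (hRq ha)).2 u hu)⟩
  -- the element `x` centralises a hyperplane
  have hcz : ∀ v ∈ U, x * v * x⁻¹ * v⁻¹ = 1 → v ∈ centralizer (R : Set G) := by
    intro v hv h1
    have h2 : R ≤ centralizer ({v} : Set G) := by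
      refine sup_le (zpowers_le.2 (mem_centralizer_iff.2 ?_)) (zpowers_le.2 (mem_centralizer_iff.2 ?_))
      · intro z hz
        rw [Set.mem_singleton_iff.1 hz]
        have e1 : x * v = (x * v * x⁻¹ * v⁻¹) * v * x := by group
        rw [e1, h1, one_mul]
      · intro z hz
        rw [Set.mem_singleton_iff.1 hz]
        exact (key1 v hv h1).symm
    exact mem_centralizer_iff.2 fun g hg => (mem_centralizer_iff.1 (h2 hg) v rfl).symm
  have k1 : (centralizer (R : Set G)).relIndex U ≤ 2 := by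
    have hc2 : Nat.card ↥(zpowers w) ≤ 2 := by
      rw [Nat.card_zpowers]
      exact Nat.le_of_dvd (by norm_num) (orderOf_dvd_of_pow_eq_one (by rw [pow_two]; exact hww))
    refine le_trans ?_ hc2
    rw [← relIndex_bot_left (zpowers w)]
    refine relIndex_le_of_map (fun v => x * v * x⁻¹ * v⁻¹) (fun v hv => ?_) ?_
    · rcases xU v hv with h1 | h1
      · simp only [h1]; exact one_mem _
      · simp only [h1]; exact mem_zpowers w
    · intro v hv v' hv' hvv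
      rw [mem_bot, inv_mul_eq_one] at hvv
      refine hcz _ (mul_mem (inv_mem hv) hv') ?_
      have e1 : x * (v⁻¹ * v') * x⁻¹ * (v⁻¹ * v')⁻¹ = (x * v * x⁻¹)⁻¹ * (x * v' * x⁻¹) * v'⁻¹ * v := by group
      have e2 : x * v * x⁻¹ = (x * v * x⁻¹ * v⁻¹) * v := by group
      have e3 : x * v' * x⁻¹ = (x * v' * x⁻¹ * v'⁻¹) * v' := by group
      rw [e1, e2, e3, hvv]
      generalize x * v' * x⁻¹ * v'⁻¹ = q
      group
  have k2 : (centralizer (U : Set G)).relIndex R ≤ 2 := (FFThm.relIndex_le_iff.1 (no R hRH elem)).trans k1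
  have k3 : 2 ≤ (centralizer (U : Set G)).relIndex R := NO3S.Fld.two_le_relIndex hxR hne
  have k4 : ((centralizer (U : Set G)).subgroupOf R).index = 2 := le_antisymm k2 k3
  -- `x'` moves `U`
  obtain ⟨v, hv, hxv⟩ : ∃ v ∈ U, x * v * x⁻¹ * v⁻¹ = w := by
    by_contra hcon
    push Not at hcon
    apply hne
    refine mem_centralizer_iff.2 fun v hv => ?_
    rcases xU v hv with h | h
    · have e1 : x * v = (x * v * x⁻¹ * v⁻¹) * v * x := by group
      rw [e1, h, one_mul]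
    · exact absurd h (hcon v hv)
  have hx'v := key v hv
  rw [hxv] at hx'v
  have hw'1 : y * w * y⁻¹ ≠ 1 := by
    intro h1
    have e1 : w = y⁻¹ * (y * w * y⁻¹) * y := by group
    have h2 : w = 1 := by rw [e1, h1]; group
    apply yw
    rw [h2]
    group
  have n1 : (⟨x⁻¹, inv_mem hxR⟩ : R) ∉ (centralizer (U : Set G)).subgroupOf R := by
    rw [mem_subgroupOf]
    intro h1
    have h2 := inv_mem h1
    rw [show ((⟨x⁻¹, inv_mem hxR⟩ : R) : G) = x⁻¹ from rfl, inv_inv] at h2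
    exact hne h2
  have n2 : (⟨x', hx'R⟩ : R) ∉ (centralizer (U : Set G)).subgroupOf R := by
    rw [mem_subgroupOf]
    intro h1
    have h2 := mem_centralizer_iff.1 h1 v hv
    apply hw'1
    rw [← hx'v]
    have h3 : v * x' = x' * v := h2
    rw [← h3]
    group
  have n3 : (⟨x⁻¹, inv_mem hxR⟩ : R) * ⟨x', hx'R⟩ ∈ (centralizer (U : Set G)).subgroupOf R := by
    rw [Subgroup.mul_mem_iff_of_index_two k4]
    exact ⟨fun h => absurd h n1, fun h => absurd h n2⟩
  rw [mem_subgroupOf] at n3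
  have h5 : v * (x⁻¹ * x') = x⁻¹ * x' * v := mem_centralizer_iff.1 n3 v hv
  apply yw
  rw [← hx'v, ← hxv]
  have e1 : x' * v = x * (x⁻¹ * x' * v) := by group
  have e2 : x * (v * (x⁻¹ * x')) * x'⁻¹ * v⁻¹ = x * v * x⁻¹ * v⁻¹ := by group
  rw [e1, ← h5, e2]

/-- **The transposition** `t ∈ E`. -/
structure TD (H U T Y E : Subgroup G) {k m : ℕ} (e : G → Fin k → Fin (2 ^ m + 1) → ZMod 2) (i : Fin k)
    (x y : Fin (2 ^ m + 1)) (t : G) : Prop where
  o : YF H U T Y E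
  noV : NoOverM (zl T Y) Y
  h : Sy Y (zl T Y) (cv T Y) e
  fix0 : ∀ t ∈ T, ∀ σ τ, ActsSym e (zl T Y) t σ τ → ∀ i, τ i 0 = 0
  trans : ∀ i j, ∃ t ∈ T, ∃ σ τ, ActsSym e (zl T Y) t σ τ ∧ σ i = j
  cyc : ∀ j (x y : Fin (2 ^ m + 1)), x ≠ 0 → y ≠ 0 →
    ∃ t ∈ T, ∃ π, Gd Y (zl T Y) (cv T Y) e (Pi.mulSingle j π) t ∧ π x = y
  xy : x ≠ y
  x0 : x ≠ 0
  y0 : y ≠ 0
  tE : t ∈ E
  gd : Gd Y (zl T Y) (cv T Y) e (Pi.mulSingle i (Equiv.swap x y)) t
  ne : t ∉ centralizer (U : Set G)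
  all : ∀ a ∈ E, a ∈ centralizer (U : Set G) ∨ t⁻¹ * a ∈ centralizer (U : Set G)
  comm : ∀ v ∈ U, t * v * t⁻¹ * v⁻¹ = 1 ∨ t * v * t⁻¹ * v⁻¹ = uu Y (zl T Y) (cv T Y) e i x y


variable {k m : ℕ}

/-- **the transposition** -/
theorem exists_td (o : YF H U T Y E) (noV : NoOverM (zl T Y) Y) (N : SymKM T Y (zl T Y) (cv T Y) k m) (hk : 0 < k)
    (hm : 2 ≤ m) : ∃ i x y t, TD H U T Y E N.e i x y t := by
  classical
  have h := NO3S.OneLine.sy_of o.hm N.toSymK hk (by omega) SQ1.FFOf.cv_le SQ1.FFOf.cv_norm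
  have hTH := o.TY
  have hET := o.ET
  have hno := noV E (o.ET.trans o.TY) o.off.toElemM
  obtain ⟨no, mo⟩ := o.m.minOff o.HU o.VU hno o.ne
  -- a transposition in `E`
  obtain ⟨i, x, y, hxy, t, ht, htg⟩ : ∃ i x y, x ≠ y ∧ ∃ t ∈ E,
      Gd Y (zl T Y) (cv T Y) N.e (Pi.mulSingle i (Equiv.swap x y)) t := by
    obtain ⟨hD, h2⟩ := N.offM E hET o.off
    by_contra hcon
    push Not at hcon
    apply o.ne
    intro a ha
    obtain ⟨τ, hτ, hτ'⟩ := h2 a ha
    have h1 : τ = 1 := by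
      funext i
      ext x
      by_contra hx
      have hx' : τ i x ≠ x := fun e => hx (by rw [e]; rfl)
      obtain ⟨-, b, hb, hb'⟩ := hτ' i x hx'
      exact hcon i x (τ i x) hx'.symm b hb ⟨hTH (hET hb), hD b hb, hb'⟩
    subst h1
    refine mem_centralizer_iff.2 fun v hv => ?_
    have h2 := h.gd_sim ⟨hTH (hET ha), hD a ha, hτ⟩ h.gd_one v hv
    symm
    calc a * v = (a * v * a⁻¹) * a := by group
      _ = v * a := by rw [h2]; group
  have hx0 : x ≠ 0 := by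
    rintro rfl
    have h4 := N.fix0 t (hET ht) _ _ htg.act i
    rw [Pi.mulSingle_eq_same, Equiv.swap_apply_left] at h4
    exact hxy h4.symm
  have hy0 : y ≠ 0 := by
    rintro rfl
    have h4 := N.fix0 t (hET ht) _ _ htg.act i
    rw [Pi.mulSingle_eq_same, Equiv.swap_apply_right] at h4
    exact hxy h4
  set d := uu Y (zl T Y) (cv T Y) N.e i x y with hd
  have hdd : d * d = 1 := h.u_sq i x y
  -- `[t, U] ≤ {1, d}`
  have htU : ∀ w ∈ U, t * w * t⁻¹ * w⁻¹ = 1 ∨ t * w * t⁻¹ * w⁻¹ = d := by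
    intro w hw
    obtain ⟨v, hv, c, hc, rfl⟩ := o.split noV w hw
    rw [o.comm_split ht hc]
    rcases h.swap_comm htg v hv with h3 | h3
    · left; rw [h3, mul_inv_cancel]
    · right; rw [h3, mul_inv_cancel_right]
  have htne : t ∉ centralizer (U : Set G) := by
    intro h0
    obtain ⟨v, hv, hev⟩ := h.exists_pair i x 0
    have h1 := htg.act v hv i y
    have h2 : t * v * t⁻¹ = v := by
      have h3 := mem_centralizer_iff.1 h0 v (o.VU hv)
      rw [← h3, mul_inv_cancel_right]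
    rw [h2, Pi.mulSingle_eq_same, Equiv.swap_apply_right, Equiv.Perm.one_apply, hev] at h1
    simp only [Pi.add_apply] at h1
    rw [SQ1.FFSym.E_self,
      SQ1.FFSym.E_ne (fun h5 => hx0 h5.2), SQ1.FFSym.E_ne (fun h5 => hxy h5.2.symm),
      SQ1.FFSym.E_ne (fun h5 => hy0 h5.2)] at h1
    simp at h1
  have hUn : E ≤ normalizer (U : Set G) := hET.trans (hTH.trans (o.YH.trans o.HU))
  have hCn : ∀ g ∈ E, ∀ z ∈ centralizer (U : Set G), g⁻¹ * z * g ∈ centralizer (U : Set G) := by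
    intro g hg z hz
    rw [mem_centralizer_iff]
    intro w hw
    have h1 : g * w * g⁻¹ ∈ U := conj_mem' hUn hg hw
    have h2 := mem_centralizer_iff.1 hz _ h1
    have e1 : w * (g⁻¹ * z * g) = g⁻¹ * (g * w * g⁻¹ * z) * g := by group
    rw [e1, h2]
    group
  -- the subgroup `⟨t⟩ C_E(U)`
  let E₁ : Subgroup G :=
    { carrier := {g | g ∈ E ∧ (g ∈ centralizer (U : Set G) ∨ t⁻¹ * g ∈ centralizer (U : Set G))}
      one_mem' := ⟨one_mem _, Or.inl (one_mem _)⟩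
      mul_mem' := by
        rintro a b ⟨ha, ha'⟩ ⟨hb, hb'⟩
        refine ⟨mul_mem ha hb, ?_⟩
        rcases ha' with ha' | ha' <;> rcases hb' with hb' | hb'
        · exact Or.inl (mul_mem ha' hb')
        · right
          have h1 := hCn t ht a ha'
          have e1 : t⁻¹ * (a * b) = (t⁻¹ * a * t) * (t⁻¹ * b) := by group
          rw [e1]
          exact mul_mem h1 hb'
        · right
          have e1 : t⁻¹ * (a * b) = t⁻¹ * a * b := by group
          rw [e1]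
          exact mul_mem ha' hb'
        · left
          have h1 := o.m.elem.sq t ht
          have h2 := hCn t ht _ ha'
          have e1 : a * b = t ^ 2 * (t⁻¹ * (t⁻¹ * a) * t) * (t⁻¹ * b) := by rw [pow_two]; group
          rw [e1]
          exact mul_mem (mul_mem h1 h2) hb'
      inv_mem' := by
        rintro a ⟨ha, ha'⟩
        refine ⟨inv_mem ha, ?_⟩
        rcases ha' with ha' | ha'
        · exact Or.inl (inv_mem ha')
        · right
          have h1 := o.m.elem.sq t ht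
          have h2 := hCn t⁻¹ (inv_mem ht) _ (inv_mem ha')
          have e1 : t⁻¹ * a⁻¹ = (t ^ 2)⁻¹ * (t * (t⁻¹ * a)⁻¹ * t⁻¹) := by rw [pow_two]; group
          rw [e1]
          refine mul_mem (inv_mem h1) ?_
          have e2 : t * (t⁻¹ * a)⁻¹ * t⁻¹ = t⁻¹⁻¹ * (t⁻¹ * a)⁻¹ * t⁻¹ := by group
          rw [e2]
          exact h2 }
  have hE₁E : E₁ ≤ E := fun g hg => hg.1
  have htE₁ : t ∈ E₁ := ⟨ht, Or.inr (by rw [inv_mul_cancel]; exact one_mem _)⟩
  have hcz : ∀ w ∈ U, t * w * t⁻¹ * w⁻¹ = 1 → w ∈ centralizer (E₁ : Set G) := by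
    intro w hw h1
    refine mem_centralizer_iff.2 fun g hg => ?_
    have htw : t * w = w * t := by
      have e1 : t * w = (t * w * t⁻¹ * w⁻¹) * w * t := by group
      rw [e1, h1, one_mul]
    rcases hg.2 with h2 | h2
    · exact (mem_centralizer_iff.1 h2 w hw).symm
    · have h3 := mem_centralizer_iff.1 h2 w hw
      have e1 : g * w = t * (t⁻¹ * g * w) := by group
      have e2 : t * (w * (t⁻¹ * g)) = t * w * (t⁻¹ * g) := by group
      rw [e1, ← h3, e2, htw]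
      group
  have k1 : (centralizer (E₁ : Set G)).relIndex U ≤ 2 := by
    have hc2 : Nat.card ↥(zpowers d) ≤ 2 := by
      rw [Nat.card_zpowers]
      exact Nat.le_of_dvd (by norm_num) (orderOf_dvd_of_pow_eq_one (by rw [pow_two]; exact hdd))
    refine le_trans ?_ hc2
    rw [← relIndex_bot_left (zpowers d)]
    refine relIndex_le_of_map (fun w => t * w * t⁻¹ * w⁻¹) (fun w hw => ?_) ?_
    · rcases htU w hw with h1 | h1
      · simp only [h1]; exact one_mem _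
      · simp only [h1]; exact mem_zpowers d
    · intro w hw w' hw' hww
      rw [mem_bot, inv_mul_eq_one] at hww
      refine hcz _ (mul_mem (inv_mem hw) hw') ?_
      have e1 : t * (w⁻¹ * w') * t⁻¹ * (w⁻¹ * w')⁻¹ = (t * w * t⁻¹)⁻¹ * (t * w' * t⁻¹) * w'⁻¹ * w := by group
      have e2 : t * w * t⁻¹ = (t * w * t⁻¹ * w⁻¹) * w := by group
      have e3 : t * w' * t⁻¹ = (t * w' * t⁻¹ * w'⁻¹) * w' := by group
      rw [e1, e2, e3, hww]
      generalize t * w' * t⁻¹ * w'⁻¹ = q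
      group
  have k2 : 2 ≤ (centralizer (U : Set G)).relIndex E₁ := NO3S.Fld.two_le_relIndex htE₁ htne
  have hoff₁ : OffM U E₁ :=
    ⟨⟨fun a ha => o.m.elem.sq a (hE₁E ha), fun a ha b hb => o.m.elem.comm a (hE₁E ha) b (hE₁E hb)⟩,
      fun h0 => htne (h0 htE₁), FFThm.relIndex_le_iff.2 (k1.trans k2)⟩
  have k3 := mo.min E₁ (hE₁E.trans mo.le) (mo.pg.to_le hE₁E) hoff₁
  have hEE : E ≤ E₁ := by
    have hle : E ⊓ centralizer (U : Set G) ≤ E₁ := fun g hg => ⟨hg.1, Or.inl hg.2⟩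
    have k4 := relIndex_mul_of (H := centralizer (U : Set G)) hle hE₁E
    have p0 : 0 < (centralizer (U : Set G)).relIndex E₁ := by omega
    have k5 : E₁.relIndex E ≤ 1 := by
      refine Nat.le_of_mul_le_mul_left (c := (centralizer (U : Set G)).relIndex E₁) ?_ p0
      rw [k4, mul_one]
      exact k3
    have p1 : 0 < E₁.relIndex E := Nat.pos_of_ne_zero index_ne_zero_of_finite
    exact relIndex_eq_one.1 (by omega)
  exact ⟨i, x, y, t, { o := o, noV := noV, h := h, fix0 := N.fix0, trans := N.trans,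
                       cyc := fun j x y hx hy => NO3S.OneLine.cyc_T' o.hm N.toSymK h (by omega) j hx hy
                       xy := hxy, x0 := hx0, y0 := hy0, tE := ht, gd := htg, ne := htne,
                       all := fun a ha => (hEE ha).2, comm := htU }⟩

/-- the acting group of the member `w` : for `w = {a, b}` the transpositions `(a 0)`, `(b 0)` -/
def KS (Y T : Subgroup G) (e : G → Fin k → Fin (2 ^ m + 1) → ZMod 2) (t d w : G) : Subgroup G :=
  closure {g | ∃ (j : Fin k) (a b : Fin (2 ^ m + 1)), a ≠ 0 ∧ a ≠ b ∧ w = uu Y (zl T Y) (cv T Y) e j a b ∧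
    Tr Y t d g (uu Y (zl T Y) (cv T Y) e j a 0)}

namespace TD

variable {e : G → Fin k → Fin (2 ^ m + 1) → ZMod 2} {i : Fin k} {x y : Fin (2 ^ m + 1)} {t : G}
variable (s : TD H U T Y E e i x y t)
include s

local notation "𝓥" => zl T Y
local notation "𝓓" => cv T Y
local notation "ν" => uu Y (zl T Y) (cv T Y) e
local notation "δ" => uu Y (zl T Y) (cv T Y) e i x y

theorem tY : t ∈ Y := s.o.TY (s.o.ET s.tE)

theorem tT : t ∈ T := s.o.ET s.tE

theorem u_mem (j : Fin k) (a b : Fin (2 ^ m + 1)) : ν j a b ∈ U := s.o.VU (s.h.u_mem j a b)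

theorem YU {p : G} (hp : p ∈ Y) : p ∈ normalizer (U : Set G) := s.o.HU (s.o.YH hp)

/-- every pair is the centre of a conjugate of `t` -/
theorem exists_tr (j : Fin k) {a b : Fin (2 ^ m + 1)} (hab : a ≠ b) : ∃ g, Tr Y t δ g (ν j a b) := by
  obtain ⟨q, hq, σ, τ, hqa, hσ⟩ := s.trans i j
  have h1 := s.h.u_conj (s.o.TY hq) hqa i x y
  rw [hσ] at h1
  set x' := τ i x with hx'
  set y' := τ i y with hy'
  have hxy' : x' ≠ y' := fun h => s.xy ((τ i).injective h)
  obtain ⟨r, hr⟩ := s.h.exists_gd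
    (Pi.mulSingle j (Equiv.swap (Equiv.swap x' a y') b * Equiv.swap x' a))
  have h2 := s.h.u_conj hr.mem hr.act j x' y'
  rw [Equiv.Perm.one_apply, Pi.mulSingle_eq_same, Equiv.Perm.mul_apply, Equiv.Perm.mul_apply,
    Equiv.swap_apply_left, Equiv.swap_apply_left] at h2
  have hne : a ≠ Equiv.swap x' a y' := by
    intro h
    apply hxy'
    have h3 : Equiv.swap x' a x' = Equiv.swap x' a y' := by rw [Equiv.swap_apply_left]; exact h
    exact (Equiv.swap x' a).injective h3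
  rw [Equiv.swap_apply_of_ne_of_ne hne hab] at h2
  refine ⟨r * q * t * (r * q)⁻¹, r * q, mul_mem hr.mem (s.o.TY hq), rfl, ?_⟩
  rw [← h2, ← h1]
  group

/-- the form of the conjugates of `t` -/
theorem form {g w : G} (hg : Tr Y t δ g w) : ∃ j a b, a ≠ b ∧ w = ν j a b ∧
    Gd Y 𝓥 𝓓 e (Pi.mulSingle j (Equiv.swap a b)) g := by
  obtain ⟨p, hp, rfl, rfl⟩ := hg
  obtain ⟨σ, τ, hpa⟩ := s.h.perm p hp
  refine ⟨σ i, τ i x, τ i y, fun h => s.xy ((τ i).injective h), s.h.u_conj hp hpa i x y, ?_⟩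
  have h1 := s.h.gd_conj_single hp hpa s.gd
  rwa [← Equiv.swap_apply_apply] at h1

/-- the action of the conjugates of `t` -/
theorem gdu {g : G} {j : Fin k} {a b : Fin (2 ^ m + 1)} (hab : a ≠ b) (hg : Tr Y t δ g (ν j a b)) :
    Gd Y 𝓥 𝓓 e (Pi.mulSingle j (Equiv.swap a b)) g := by
  obtain ⟨j', a', b', hab', hw, hgd⟩ := s.form hg
  obtain ⟨rfl, ⟨rfl, rfl⟩ | ⟨rfl, rfl⟩⟩ := s.h.u_inj hab hw
  · exact hgd
  · rw [Equiv.swap_comm]; exact hgd

theorem tr_symm {g : G} {j : Fin k} {a b : Fin (2 ^ m + 1)} (hg : Tr Y t δ g (ν j a b)) :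
    Tr Y t δ g (ν j b a) := by
  rwa [← s.h.u_symm j a b]

theorem u_same {g : G} {j : Fin k} {a b : Fin (2 ^ m + 1)} (hab : a ≠ b) (hg : Tr Y t δ g (ν j a b))
    (a' b' : Fin (2 ^ m + 1)) : g * ν j a' b' * g⁻¹ = ν j (Equiv.swap a b a') (Equiv.swap a b b') := by
  have h1 := s.gdu hab hg
  have h2 := s.h.u_conj h1.mem h1.act j a' b'
  rwa [Equiv.Perm.one_apply, Pi.mulSingle_eq_same] at h2

theorem u_other {g : G} {j j' : Fin k} {a b : Fin (2 ^ m + 1)} (hab : a ≠ b) (hg : Tr Y t δ g (ν j a b))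
    (hj : j' ≠ j) (a' b' : Fin (2 ^ m + 1)) : g * ν j' a' b' * g⁻¹ = ν j' a' b' := by
  have h1 := s.gdu hab hg
  have h2 := s.h.u_conj h1.mem h1.act j' a' b'
  rwa [Equiv.Perm.one_apply, Pi.mulSingle_eq_of_ne hj, Equiv.Perm.one_apply, Equiv.Perm.one_apply] at h2

/-- the commutators -/
theorem tr_comm {g w : G} (hg : Tr Y t δ g w) {v : G} (hv : v ∈ U) :
    g * v * g⁻¹ * v⁻¹ = 1 ∨ g * v * g⁻¹ * v⁻¹ = w := by
  obtain ⟨p, hp, rfl, rfl⟩ := hg
  have h1 : p⁻¹ * v * p ∈ U := by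
    have := conj_mem' (le_refl (normalizer (U : Set G))) (inv_mem (s.YU hp)) hv
    rwa [inv_inv] at this
  have e1 : p * t * p⁻¹ * v * (p * t * p⁻¹)⁻¹ * v⁻¹ =
    p * (t * (p⁻¹ * v * p) * t⁻¹ * (p⁻¹ * v * p)⁻¹) * p⁻¹ := by group
  rw [e1]
  rcases s.comm _ h1 with h2 | h2
  · left; rw [h2]; group
  · right; rw [h2]

theorem tr_Y {g w : G} (hg : Tr Y t δ g w) : g ∈ Y := by
  obtain ⟨p, hp, rfl, rfl⟩ := hg
  exact mul_mem (mul_mem hp s.tY) (inv_mem hp)

theorem tr_cl {g w : G} (hg : Tr Y t δ g w) : g ∈ cl E Y := by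
  obtain ⟨p, hp, rfl, rfl⟩ := hg
  exact cj_le_cl hp (mem_cj.2 (by
    have e1 : p⁻¹ * (p * t * p⁻¹) * p = t := by group
    rw [e1]; exact s.tE))

theorem third (a b : Fin (2 ^ m + 1)) : ∃ c : Fin (2 ^ m + 1), c ≠ a ∧ c ≠ b := s.h.exists_third a b

/-- **Uniqueness**: the conjugate of `t` is determined by its centre, modulo `C(U)`. -/
theorem uniq {g g' w : G} (hg : Tr Y t δ g w) (hg' : Tr Y t δ g' w) : g⁻¹ * g' ∈ centralizer (U : Set G) := by
  obtain ⟨j, a, b, hab, rfl, hgd⟩ := s.form hg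
  have hgd' := s.gdu hab hg'
  have hsim := s.h.gd_sim hgd hgd'
  obtain ⟨c, hca, hcb⟩ := s.third a b
  obtain ⟨z, hz⟩ := s.exists_tr j (a := b) (b := c) hcb.symm
  have hUmul : ∀ x ∈ U, ∀ y ∈ U, x * y = y * x := fun _ hx _ hy => s.o.U_mul hx hy
  have hgw : g * ν j a b * g⁻¹ = ν j a b := by
    rw [s.u_same hab hg, Equiv.swap_apply_left, Equiv.swap_apply_right, s.h.u_symm]
  have hzw : z * ν j a b * z⁻¹ = ν j a c := by
    rw [s.u_same hcb.symm hz, Equiv.swap_apply_left, Equiv.swap_apply_of_ne_of_ne hab hca.symm]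
  refine over_false (y := z) (w := ν j a b) hUmul s.o.Us s.o.HU (s.o.no s.noV) s.o.VU
    (s.o.YH (mul_mem (inv_mem (s.tr_Y hg)) (s.tr_Y hg'))) (s.o.YH (s.tr_Y hz)) ?_ ?_ (s.h.u_mem j a b) ?_ ?_ ?_
  · intro v hv
    have h1 := s.o.cl_comm s.noV z⁻¹ (inv_mem (s.tr_cl hz)) v hv
    rwa [inv_inv] at h1
  · intro v hv
    have h1 := hsim v hv
    have e1 : g⁻¹ * g' * v = g⁻¹ * (g' * v * g'⁻¹) * g' := by group
    rw [e1, ← h1]
    group
  · intro v hv
    have e0 : g⁻¹ * ν j a b * g = ν j a b := by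
      conv_lhs => rw [← hgw]
      group
    have hwU := s.u_mem j a b
    have hww := s.h.u_sq j a b
    set w := ν j a b with hw
    have h1 : g⁻¹ * v * g = v ∨ g⁻¹ * v * g = w * v := by
      rcases s.tr_comm hg hv with h2 | h2
      · left
        have e1 : g * v = v * g := by
          have e1 : g * v = (g * v * g⁻¹ * v⁻¹) * v * g := by group
          rw [e1, h2, one_mul]
        rw [mul_assoc, ← e1]; group
      · right
        have e1 : g * v * g⁻¹ = w * v := by rw [← h2]; group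
        have e2 : v = (g⁻¹ * w * g) * (g⁻¹ * v * g) := by
          have e3 : (g⁻¹ * w * g) * (g⁻¹ * v * g) = g⁻¹ * (w * v) * g := by group
          rw [e3, ← e1]; group
        rw [e0] at e2
        have e3 : g⁻¹ * v * g = w * w * (g⁻¹ * v * g) := by rw [hww, one_mul]
        rw [e3, mul_assoc, ← e2]
    have e2 : g⁻¹ * g' * v * (g⁻¹ * g')⁻¹ = g⁻¹ * (g' * v * g'⁻¹ * v⁻¹) * g * (g⁻¹ * v * g) := by group
    rcases s.tr_comm hg' hv with h3 | h3 <;> rcases h1 with h1 | h1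
    · left; rw [e2, h3, h1]; group
    · right; rw [e2, h3, h1]; group
    · right
      rw [e2, h3, e0, h1]; group
    · left
      rw [e2, h3, e0, h1, ← mul_assoc, hww]; group
  · rw [hzw]
    intro h1
    obtain ⟨-, ⟨-, h2⟩ | ⟨h2, -⟩⟩ := s.h.u_inj hab h1.symm
    · exact hcb h2.symm
    · exact hca h2.symm
  · rw [hzw]; exact s.h.u_mem j a c

/-- the commutators are determined by the centre -/
theorem same {g g' w : G} (hg : Tr Y t δ g w) (hg' : Tr Y t δ g' w) {v : G} (hv : v ∈ U) :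
    g * v * g⁻¹ = g' * v * g'⁻¹ := by
  have h1 := mem_centralizer_iff.1 (s.uniq hg hg') v hv
  have e1 : g' * v * g'⁻¹ = g * (g⁻¹ * g' * v) * g'⁻¹ := by group
  rw [e1, ← h1]
  group

theorem same' {g g' w : G} (hg : Tr Y t δ g w) (hg' : Tr Y t δ g' w) {v : G} (hv : v ∈ U) (h : g * v = v * g) :
    g' * v = v * g' := by
  have h1 := s.same hg hg' hv
  have e1 : g * v * g⁻¹ = v := by rw [h]; group
  rw [e1] at h1
  have e2 : g' * v = (g' * v * g'⁻¹) * g' := by group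
  rw [e2, ← h1]

/-- `(a b), (a c) ↦ (b c)` -/
theorem third_cent {j : Fin k} {a b c : Fin (2 ^ m + 1)} (hab : a ≠ b) (hac : a ≠ c) (hbc : b ≠ c) {g₁ g₂ g₃ v : G}
    (h1 : Tr Y t δ g₁ (ν j a b)) (h2 : Tr Y t δ g₂ (ν j a c)) (h3 : Tr Y t δ g₃ (ν j b c)) (hv : v ∈ U)
    (c1 : g₁ * v = v * g₁) (c2 : g₂ * v = v * g₂) : g₃ * v = v * g₃ := by
  have h4 := h2.cj (s.tr_Y h1)
  rw [s.u_same hab h1, Equiv.swap_apply_left, Equiv.swap_apply_of_ne_of_ne hac.symm hbc.symm] at h4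
  refine s.same' h4 h3 hv ?_
  have k1 : Commute g₁ v := c1
  have k2 : Commute g₂ v := c2
  exact ((k1.mul_left k2).mul_left k1.inv_left)


/-- the form of the `T`-conjugates of `[U, t]` -/
theorem member {p : G} (hp : p ∈ T) : ∃ j a b, a ≠ 0 ∧ b ≠ 0 ∧ a ≠ b ∧ p * δ * p⁻¹ = ν j a b := by
  obtain ⟨σ, τ, hpa⟩ := s.h.perm p (s.o.TY hp)
  have h0 := s.fix0 p hp σ τ hpa i
  refine ⟨σ i, τ i x, τ i y, fun h => s.x0 ?_, fun h => s.y0 ?_, fun h => s.xy ((τ i).injective h),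
    s.h.u_conj (s.o.TY hp) hpa i x y⟩
  · exact (τ i).injective (h.trans h0.symm)
  · exact (τ i).injective (h.trans h0.symm)

theorem mem_KS {w : G} {j : Fin k} {a b : Fin (2 ^ m + 1)} (hw : w = ν j a b) (hab : a ≠ b) (a0 : a ≠ 0) {g : G}
    (hg : Tr Y t δ g (ν j a 0)) : g ∈ KS Y T e t δ w :=
  subset_closure ⟨j, a, b, a0, hab, hw, hg⟩

/-- the centraliser of `K w` in `U` -/
theorem mem_cent {w : G} {j : Fin k} {a b : Fin (2 ^ m + 1)} (hw : w = ν j a b) (hab : a ≠ b) {ga gb z : G}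
    (hga : Tr Y t δ ga (ν j a 0)) (hgb : Tr Y t δ gb (ν j b 0)) (hz : z ∈ U) (ca : ga * z = z * ga)
    (cb : gb * z = z * gb) : z ∈ centralizer (KS Y T e t δ w : Set G) := by
  have h1 : KS Y T e t δ w ≤ centralizer ({z} : Set G) := by
    refine (closure_le _).2 ?_
    rintro g ⟨j', a', b', ha0, hab', hw', hg⟩
    refine mem_centralizer_iff.2 fun z' hz' => ?_
    rw [Set.mem_singleton_iff.1 hz']
    obtain ⟨rfl, ⟨rfl, rfl⟩ | ⟨rfl, rfl⟩⟩ := s.h.u_inj hab (hw.symm.trans hw')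
    · exact (s.same' hga hg hz ca).symm
    · exact (s.same' hgb hg hz cb).symm
  exact mem_centralizer_iff.2 fun g hg => (mem_centralizer_iff.1 (h1 hg) z rfl).symm

/-- conjugation -/
theorem KS_cj_le {q : G} (hq : q ∈ T) (w : G) : cj q (KS Y T e t δ w) ≤ KS Y T e t δ (q * w * q⁻¹) := by
  refine Subgroup.map_le_iff_le_comap.2 ((closure_le _).2 ?_)
  rintro g ⟨j, a, b, a0, hab, rfl, hg⟩
  show q * g * q⁻¹ ∈ KS Y T e t δ (q * ν j a b * q⁻¹)
  obtain ⟨σ, τ, hqa⟩ := s.h.perm q (s.o.TY hq)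
  have h0 := s.fix0 q hq σ τ hqa j
  have h1 := hg.cj (s.o.TY hq)
  rw [s.h.u_conj (s.o.TY hq) hqa j a 0, h0] at h1
  refine subset_closure ⟨σ j, τ j a, τ j b, fun h => a0 ((τ j).injective (h.trans h0.symm)),
    fun h => hab ((τ j).injective h), s.h.u_conj (s.o.TY hq) hqa j a b, h1⟩

theorem KS_cj {q : G} (hq : q ∈ T) (w : G) : cj q (KS Y T e t δ w) = KS Y T e t δ (q * w * q⁻¹) := by
  refine le_antisymm (s.KS_cj_le hq w) ?_
  have h1 := s.KS_cj_le (inv_mem hq) (q * w * q⁻¹)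
  have e1 : q⁻¹ * (q * w * q⁻¹) * q⁻¹⁻¹ = w := by group
  rw [e1] at h1
  have h2 := cj_mono q h1
  rwa [cj_cj_inv] at h2

/-- `(a b)` from `T` -/
theorem tr_T {p : G} (hp : p ∈ T) : Tr Y t δ (p * t * p⁻¹) (p * δ * p⁻¹) := ⟨p, s.o.TY hp, rfl, rfl⟩

/-- **the data of `Y`** -/
theorem yd {N' Z : Subgroup G} (NU : N' ≤ U) (hN : ∀ g ∈ T, cj g E ≤ centralizer (N' : Set G)) (ZU : Z ≤ U)
    (TZ : T ≤ normalizer (Z : Set G)) (mv : ¬ Y ≤ normalizer (Z : Set G)) :
    YD U T N' Z (fun w : {w : G // ∃ p ∈ T, w = p * δ * p⁻¹} => zpowers w.1)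
      (fun w : {w : G // ∃ p ∈ T, w = p * δ * p⁻¹} => KS Y T e t δ w.1) where
  perm := by
    rintro q hq ⟨w, p, hp, rfl⟩
    refine ⟨⟨q * (p * δ * p⁻¹) * q⁻¹, q * p, mul_mem hq hp, by group⟩, ?_, s.KS_cj hq _⟩
    show cj q (zpowers (p * δ * p⁻¹)) = zpowers (q * (p * δ * p⁻¹) * q⁻¹)
    exact MonoidHom.map_zpowers _ _
  cyc := by
    rintro ⟨w, p, hp, rfl⟩
    obtain ⟨j, a, b, a0, b0, hab, hw⟩ := s.member hp
    refine ⟨1, one_mem _, cj_one _, fun q hq hqc => ⟨0, fun v hv => ?_⟩⟩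
    have hww : (p * δ * p⁻¹) * (p * δ * p⁻¹) = 1 := by rw [hw]; exact s.h.u_sq j a b
    have e0 : (1 : G) ^ (0 : ℤ) * v * ((1 : G) ^ (0 : ℤ))⁻¹ = v := by group
    rw [e0]
    rcases mem_zpowers_two hww hv with h1 | h1
    · rw [h1]; group
    · have h2 : q * v * q⁻¹ ∈ zpowers (p * δ * p⁻¹) := by
        rw [← hqc]
        exact mem_cj.2 (by
          have e1 : q⁻¹ * (q * v * q⁻¹) * q = v := by group
          rw [e1]; exact hv)
      rcases mem_zpowers_two hww h2 with h3 | h3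
      · exfalso
        have h4 : v = 1 := by
          have e1 : v = q⁻¹ * (q * v * q⁻¹) * q := by group
          rw [e1, h3]; group
        rw [h4] at h1
        exact s.h.u_ne hab (hw.symm.trans h1.symm)
      · rw [h3, h1]
  cU := by
    rintro ⟨w, p, hp, rfl⟩
    obtain ⟨j, a, b, a0, b0, hab, hw⟩ := s.member hp
    show zpowers (p * δ * p⁻¹) ≤ U
    rw [hw]
    exact zpowers_le.2 (s.u_mem j a b)
  ne := by
    rintro ⟨w, p, hp, rfl⟩
    obtain ⟨j, a, b, a0, b0, hab, hw⟩ := s.member hp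
    show zpowers (p * δ * p⁻¹) ≠ ⊥
    rw [hw]
    exact fun h => s.h.u_ne hab (zpowers_eq_bot.1 h)
  inf := by
    rintro ⟨w, p, hp, rfl⟩
    obtain ⟨j, a, b, a0, b0, hab, hw⟩ := s.member hp
    show zpowers (p * δ * p⁻¹) ⊓ centralizer (KS Y T e t δ (p * δ * p⁻¹) : Set G) = ⊥
    rw [hw, eq_bot_iff]
    rintro v ⟨hv, hv'⟩
    rcases mem_zpowers_two (s.h.u_sq j a b) hv with h1 | h1
    · rw [h1]; exact one_mem _
    · exfalso
      rw [h1] at hv'
      obtain ⟨g, hg⟩ := s.exists_tr j a0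
      have h2 := mem_centralizer_iff.1 hv' g (s.mem_KS rfl hab a0 hg)
      have h3 := s.u_same a0 hg a b
      rw [h2, Equiv.swap_apply_left, Equiv.swap_apply_of_ne_of_ne hab.symm b0, mul_inv_cancel_right] at h3
      obtain ⟨-, ⟨h4, -⟩ | ⟨-, h4⟩⟩ := s.h.u_inj hab h3
      · exact a0 h4
      · exact b0 h4
  cm := by
    rintro ⟨w, p, hp, rfl⟩ ⟨w', p', hp', rfl⟩ hne
    obtain ⟨j, a, b, a0, b0, hab, hw⟩ := s.member hp
    obtain ⟨j', a', b', a0', b0', hab', hw'⟩ := s.member hp'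
    have hne' : ν j' a' b' ≠ ν j a b := by
      intro h
      apply hne
      exact Subtype.ext (hw'.trans (h.trans hw.symm))
    have hT : p * t * p⁻¹ ∈ T := mul_mem (mul_mem hp s.tT) (inv_mem hp)
    have hT' : p' * t * p'⁻¹ ∈ T := mul_mem (mul_mem hp' s.tT) (inv_mem hp')
    have t1 := s.tr_T hp
    have t2 := s.tr_T hp'
    rw [hw] at t1
    rw [hw'] at t2
    show zpowers (p' * δ * p'⁻¹) ≤ centralizer (KS Y T e t δ (p * δ * p⁻¹) : Set G)
    rw [hw, hw']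
    refine zpowers_le.2 ?_
    obtain ⟨ga, hga⟩ := s.exists_tr j a0
    obtain ⟨gb, hgb⟩ := s.exists_tr j b0
    -- an element moving one point of `{a, b}` only
    have key : ∀ {c c' : Fin (2 ^ m + 1)}, c ≠ c' → c ≠ 0 → ν j a b = ν j c c' → Tr Y t δ (p * t * p⁻¹) (ν j c c') →
        ∀ {g : G}, Tr Y t δ g (ν j c 0) → g * ν j' a' b' = ν j' a' b' * g := by
      intro c c' hcc c0 hν tc g hg
      suffices hs : g * ν j' a' b' * g⁻¹ = ν j' a' b' by
        have e1 : g * ν j' a' b' = (g * ν j' a' b' * g⁻¹) * g := by group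
        rw [e1, hs]
      by_cases hj : j' = j
      · subst hj
        have h1 : c ≠ a' := by
          rintro rfl
          have h2 := NO3S.OneLine.disj' s.h s.o.T2 hcc hab' hT hT' (s.gdu hcc tc) (s.gdu hab' t2)
          subst h2
          exact hne' hν.symm
        have h2 : c ≠ b' := by
          rintro rfl
          have h2 := NO3S.OneLine.disj' s.h s.o.T2 hcc hab'.symm hT hT' (s.gdu hcc tc)
            (s.gdu hab'.symm (s.tr_symm t2))
          subst h2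
          apply hne'
          rw [hν, s.h.u_symm]
        rw [s.u_same c0 hg, Equiv.swap_apply_of_ne_of_ne h1.symm a0', Equiv.swap_apply_of_ne_of_ne h2.symm b0']
      · exact s.u_other c0 hg hj a' b'
    refine s.mem_cent rfl hab hga hgb (s.u_mem j' a' b') (key hab a0 rfl t1 hga) ?_
    exact key hab.symm b0 (s.h.u_symm _ _ _) (s.tr_symm t1) hgb
  cov := by
    rintro ⟨w, p, hp, rfl⟩ n hn
    obtain ⟨j, a, b, a0, b0, hab, hw⟩ := s.member hp
    have t1 := s.tr_T hp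
    rw [hw] at t1
    set gw := p * t * p⁻¹ with hgw
    show n ∈ zpowers (p * δ * p⁻¹) ⊔ (U ⊓ centralizer (KS Y T e t δ (p * δ * p⁻¹) : Set G))
    rw [hw]
    obtain ⟨ga, hga⟩ := s.exists_tr j a0
    obtain ⟨gb, hgb⟩ := s.exists_tr j b0
    have hnU := NU hn
    have hwn : gw * n = n * gw := by
      have h1 : gw ∈ cj p E := mem_cj.2 (by
        have e1 : p⁻¹ * (p * t * p⁻¹) * p = t := by group
        rw [hgw, e1]; exact s.tE)
      exact (mem_centralizer_iff.1 (hN p hp h1) n hn).symm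
    have fin : ∀ z ∈ U, gw * z = z * gw → ga * z = z * ga → z ∈ U ⊓ centralizer (KS Y T e t δ (ν j a b) : Set G) :=
      fun z hz c1 c2 => ⟨hz, s.mem_cent rfl hab hga hgb hz c2 (s.third_cent hab a0 b0 t1 hga hgb hz c1 c2)⟩
    rcases s.tr_comm hga hnU with h1 | h1
    · refine mem_sup_right (fin n hnU hwn ?_)
      have e1 : ga * n = (ga * n * ga⁻¹ * n⁻¹) * n * ga := by group
      rw [e1, h1, one_mul]
    · have e0 : n = (ν j a b)⁻¹ * (ν j a b * n) := by group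
      rw [e0]
      refine mul_mem (mem_sup_left (inv_mem (mem_zpowers _)))
        (mem_sup_right (fin _ (mul_mem (s.u_mem j a b) hnU) ?_ ?_))
      · have h2 := s.u_same hab t1 a b
        rw [Equiv.swap_apply_left, Equiv.swap_apply_right, s.h.u_symm j b a] at h2
        have c1 : Commute gw (ν j a b) := by
          have e1 : gw * ν j a b = (gw * ν j a b * gw⁻¹) * gw := by group
          show gw * ν j a b = ν j a b * gw
          rw [e1, h2]
        have c2 : Commute gw n := hwn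
        exact c1.mul_right c2
      · have h2 := s.u_same a0 hga a b
        rw [Equiv.swap_apply_left, Equiv.swap_apply_of_ne_of_ne hab.symm b0] at h2
        have e1 : ga * (ν j a b * n) = (ga * ν j a b * ga⁻¹) * (ga * n * ga⁻¹ * n⁻¹) * n * ga := by group
        rw [e1, h1, h2]
        have e2 : ν j 0 b * ν j a 0 = ν j a b := by
          rw [s.h.comm _ (s.h.u_mem j 0 b) _ (s.h.u_mem j a 0)]
          exact s.h.u_add j a 0 b
        rw [e2]
  nZ := by
    by_contra hcon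
    push Not at hcon
    -- `Z` is centralised by all `(a 0)`
    have h1 : ∀ (j : Fin k) (a : Fin (2 ^ m + 1)), a ≠ 0 → ∀ g, Tr Y t δ g (ν j a 0) → ∀ z ∈ Z, g * z = z * g := by
      intro j a a0 g hg z hz
      obtain ⟨q, hq, σ, τ, hqa, hσ⟩ := s.trans i j
      have h0 := s.fix0 q hq σ τ hqa i
      obtain ⟨r, hr, π, hrπ, hπ⟩ := s.cyc j (τ i x) a (fun h => s.x0 ((τ i).injective (h.trans h0.symm))) a0
      have k1 := s.h.u_conj (s.o.TY hq) hqa i x y
      rw [hσ] at k1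
      have k2 := s.h.u_conj (s.o.TY hr) hrπ.act j (τ i x) (τ i y)
      rw [Equiv.Perm.one_apply, Pi.mulSingle_eq_same, hπ, ← k1] at k2
      have hab : a ≠ π (τ i y) := by
        rw [← hπ]
        exact fun h => s.xy ((τ i).injective (π.injective h))
      have k3 : r * q * δ * (r * q)⁻¹ = ν j a (π (τ i y)) := by rw [← k2]; group
      have h2 := hcon ⟨r * q * δ * (r * q)⁻¹, r * q, mul_mem hr hq, rfl⟩ hz
      exact mem_centralizer_iff.1 h2 g (s.mem_KS k3 hab a0 hg)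
    -- all conjugates of `t` centralise `Z`
    have h2 : ∀ g w, Tr Y t δ g w → ∀ z ∈ Z, g * z = z * g := by
      intro g w hg z hz
      obtain ⟨j, a, b, hab, rfl, -⟩ := s.form hg
      by_cases a0 : a = 0
      · subst a0
        exact h1 j b hab.symm g (s.tr_symm hg) z hz
      · by_cases b0 : b = 0
        · subst b0
          exact h1 j a a0 g hg z hz
        · obtain ⟨ga, hga⟩ := s.exists_tr j a0
          obtain ⟨gb, hgb⟩ := s.exists_tr j b0
          have ca := h1 j a a0 ga hga z hz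
          have cb := h1 j b b0 gb hgb z hz
          exact s.third_cent (Ne.symm a0) (Ne.symm b0) hab (s.tr_symm hga) (s.tr_symm hgb) hg (ZU hz) ca cb
    refine mv (s.o.norm_of_cent TZ (cl_le fun p hp => ?_))
    intro g hg
    refine mem_centralizer_iff.2 fun z hz => ?_
    have h3 := mem_cj.1 hg
    have hz' : p⁻¹ * z * p ∈ U := by
      have := conj_mem' (le_refl (normalizer (U : Set G))) (inv_mem (s.YU hp)) (ZU hz)
      rwa [inv_inv] at this
    rcases s.all _ h3 with h4 | h4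
    · have h5 := mem_centralizer_iff.1 h4 _ hz'
      have e1 : z * g = p * ((p⁻¹ * z * p) * (p⁻¹ * g * p)) * p⁻¹ := by group
      rw [e1, h5]; group
    · have h5 := mem_centralizer_iff.1 h4 _ hz'
      have h6 := h2 _ _ ⟨p, hp, rfl, rfl⟩ z hz
      have e1 : g * z = (p * t * p⁻¹) * (p * ((t⁻¹ * (p⁻¹ * g * p)) * (p⁻¹ * z * p)) * p⁻¹) := by group
      have e2 : (p * t * p⁻¹) * (p * ((p⁻¹ * z * p) * (t⁻¹ * (p⁻¹ * g * p))) * p⁻¹) =
        ((p * t * p⁻¹) * z) * (p * t⁻¹ * p⁻¹) * g := by group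
      rw [e1, ← h5, e2, h6]
      group

end TD

/-- **[Y], symmetric blocks.** -/
theorem exists_yd_sym (o : YF H U T Y E) (noV : NoOverM (zl T Y) Y) (N : SymKM T Y (zl T Y) (cv T Y) k m) (hk : 0 < k)
    (hm : 2 ≤ m) {N' Z : Subgroup G} (NU : N' ≤ U) (hN : ∀ g ∈ T, cj g E ≤ centralizer (N' : Set G)) (ZU : Z ≤ U)
    (TZ : T ≤ normalizer (Z : Set G)) (mv : ¬ Y ≤ normalizer (Z : Set G)) :
    ∃ (ι : Type u) (_ : Finite ι) (c K : ι → Subgroup G), YD U T N' Z c K := by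
  obtain ⟨i, x, y, t, s⟩ := exists_td o noV N hk hm
  exact ⟨_, inferInstance, _, _, s.yd NU hN ZU TZ mv⟩

end Cfsg.Agent.Omega.CaseLQ

end
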