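import Cfsg.Agent.Mrg.Omega.CaseLQ.KSh
import Cfsg.Agent.Mrg.Omega.NO3S.WY.Tor.Lit
import Cfsg.Agent.Mrg.Omega.CaseLQ.TwoFr
import Cfsg.Agent.Mrg.Omega.CaseLQ.PsiBg
import Cfsg.Agent.Mrg.Omega.EK3.Base
import Cfsg.Agent.Mrg.Omega.NO3S.WY.Loc
import Cfsg.Agent.Mrg.Omega.NOThreeL.StarEnd

section


/-!
# The passive family (#25080 (c))

* `not_act` : all best offenders `A ≤ T` on `U` centralise `V_j`: no `W_F ≤ S` (`F` for `V = ⟨Z^GX⟩`) is outside `O₂(P)`;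
* `exists_famT` : `FamT S P Y V 𝓕`;
* `exists_fam` : `KSh` and `FamT`.
-/

set_option autoImplicit false
set_option linter.unusedSectionVars false

namespace Cfsg.Agent.Omega.CaseLQ

open Subgroup Cfsg Cfsg.Agent.ZN Cfsg.Agent.ZN.ChoiceBase Cfsg.Agent.Omega.MinPar Cfsg.Agent.Omega.Frame
open Cfsg.Agent.Omega.NO3S.Level
open Cfsg.Agent.Omega.NO3S.RedC
open Cfsg.Agent.Omega.NO3S.WY
open Cfsg.Agent.Omega.NO1.BestOff (Best)
open Cfsg.Agent.Omega.FFThm (OffM ElemM)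
open scoped Pointwise

universe u

variable {G : Type u} [Group G] [Finite G] {S : Sylow 2 G} {P T Y R H U Vj : Subgroup G}

/-- all `W_F ≤ S` lie in `O₂(P)` -/
theorem W_le_of_hloc (m : LMd S P T Y R H U)
    (hloc : ∀ A : Subgroup G, A ≤ T → Best U A → A ≤ centralizer (Vj : Set G))
    (hN : ∀ A : Subgroup G, A ≤ (S : Subgroup G) → ¬ A ≤ o2 P →
      ∃ s ∈ (S : Subgroup G), ¬ cj s A ≤ centralizer (Vj : Set G)) {F : Subgroup G}
    (hF : NOne.Flat.Hyp (ZN.zl (S : Subgroup G) (GX (S : Subgroup G) P Y)) F)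
    (hWS : NOne.Flat.WW (ZN.zl (S : Subgroup G) (GX (S : Subgroup G) P Y)) F ≤ (S : Subgroup G)) :
    NOne.Flat.WW (ZN.zl (S : Subgroup G) (GX (S : Subgroup G) P Y)) F ≤ o2 P := by
  have h := m.wq
  have hV : Md S P Y (ZN.zl (S : Subgroup G) (GX (S : Subgroup G) P Y)) := h.md_zl
  by_contra hP
  obtain ⟨s, hs, hne⟩ := hN _ hWS hP
  have hsV : s ∈ normalizer (ZN.zl (S : Subgroup G) (GX (S : Subgroup G) P Y) : Set G) := hV.norm (h.S_le hs)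
  have hWs : NOne.Flat.WW (ZN.zl (S : Subgroup G) (GX (S : Subgroup G) P Y)) (MulAut.conj s • F) ≤
      (S : Subgroup G) := by
    rw [WW_cj hsV]
    have := cj_mono s hWS
    rwa [cj_eq_of_mem_normalizer (le_normalizer hs : s ∈ normalizer ((S : Subgroup G) : Set G))] at this
  have hFs := hyp_cj hF hsV
  rw [← WW_cj hsV] at hne
  exact hne (hloc _ ((h.W_B hV hFs hWs).trans m.BT) (bestW hFs (m.U_E' hV hFs hWs)))

/-- **the passive family** -/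
theorem exists_famT (m : LMd S P T Y R H U)
    (hloc : ∀ A : Subgroup G, A ≤ T → Best U A → A ≤ centralizer (Vj : Set G))
    (hN : ∀ A : Subgroup G, A ≤ (S : Subgroup G) → ¬ A ≤ o2 P →
      ∃ s ∈ (S : Subgroup G), ¬ cj s A ≤ centralizer (Vj : Set G)) :
    ∃ (V : Subgroup G) (𝓕 : Set (Subgroup G)), FamT S P Y V 𝓕 := by
  have h := m.wq
  rcases h.cut with hp | ⟨hn, ⟨F, hw⟩ | ⟨F, hw⟩⟩
  · exact ⟨_, _, famT_of_pasM h h.md_zl hp⟩
  · exact absurd (W_le_of_hloc m hloc hN hw.hyp hw.WS) hw.mv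
  · exact ⟨_, _, famT_of_pasW h h.md_zl hw⟩

/-- **`K♯ ≤ O₂(P)` and the passive family** -/
theorem exists_fam (m : LMd S P T Y R H U)
    (hloc : ∀ A : Subgroup G, A ≤ T → Best U A → A ≤ centralizer (Vj : Set G))
    (hN : ∀ A : Subgroup G, A ≤ (S : Subgroup G) → ¬ A ≤ o2 P →
      ∃ s ∈ (S : Subgroup G), ¬ cj s A ≤ centralizer (Vj : Set G)) :
    (∃ (K : Subgroup G) (𝒜 : Set (Subgroup G)), KSh S P Y U K 𝒜) ∧
      ∃ (V : Subgroup G) (𝓕 : Set (Subgroup G)), FamT S P Y V 𝓕 :=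
  ⟨exists_KSh m hloc hN, exists_famT m hloc hN⟩

end Cfsg.Agent.Omega.CaseLQ

end

section


/-!
# NoW, `q = 2`: the assembly of (ii), version 2 (#25080)

`MulL S P B ZJ L W Z C A 2`, `WJ S P B Z j Y`, `Λ = ⟨Z l : l ≠ j⟩`.

* `zT : Ω₁Z(B) ≤ Λ Z_j`, `YΛ : Y ≤ C(Λ)`, `ys_of : YS U H B Y` from `LMd`;
* `ksh_of` : natural blocks of `Y`: `KSh S P Y U K 𝒜` and `FamT S P Y V 𝓕`.
-/

set_option autoImplicit false
set_option linter.unusedSectionVars false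

namespace Cfsg.Agent.Omega.CaseLQ.TorOf

open Subgroup Cfsg Cfsg.Agent.ZN Cfsg.Agent.ZN.ChoiceBase Cfsg.Agent.Omega.MinPar Cfsg.Agent.Omega.Frame
open Cfsg.Agent.ZN.ChoiceSit (Syl)
open Cfsg.Agent.Omega.NO3S.Level
open Cfsg.Agent.Omega.NO3S.RedC
open Cfsg.Agent.Omega.NO3S.WY Cfsg.Agent.Omega.NO3S.WY.Sel
open Cfsg.Agent.Omega.OM
open Cfsg.Agent.Omega.FFThm (OffM ElemM NoOverM StmtM NatKM)
open Cfsg.Agent.Omega.FrameFF (cv)
open Cfsg.Agent.Omega.NO1.BestOff (Best)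
open Cfsg.Agent.Omega.Node.MulX (MulL)
open Cfsg.Agent.Omega.CaseLQ Cfsg.Agent.Omega.CaseLQ.PsiYB Cfsg.Agent.Omega.CaseLQ.TwoFr Cfsg.Agent.Omega.CaseLQ.TwoN

universe u

variable {G : Type u} [Group G] [Finite G] {S : Sylow 2 G} {P B ZJ : Subgroup G} {k : ℕ}
  {L W Z C A : Fin k → Subgroup G}

/-- `Λ_j = ⟨Z l : l ≠ j⟩` -/
abbrev Lm (Z : Fin k → Subgroup G) (j : Fin k) : Subgroup G := ⨆ l ∈ {l | l ≠ j}, Z l

/-- `Z_J ≤ Λ_j Z_j` -/
theorem ZJ_le_Lm (h : MulL S P B ZJ L W Z C A 2) (j : Fin k) : ZJ ≤ Lm Z j ⊔ Z j := by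
  refine (EK3.ZJ_le h.bg).trans (iSup_le fun l => ?_)
  by_cases hl : l = j
  · subst hl; exact le_sup_right
  · exact (le_iSup₂_of_le (f := fun l (_ : l ∈ {l | l ≠ j}) => Z l) l hl le_rfl).trans le_sup_left

theorem zT (h : MulL S P B ZJ L W Z C A 2) (j : Fin k) : zc B ≤ Lm Z j ⊔ Z j := by
  rw [zc_B h]
  exact ZJ_le_Lm h j

theorem cenLm {j : Fin k} {Y : Subgroup G} (hc : ∀ l, l ≠ j → Y ≤ centralizer (Z l : Set G)) :
    Y ≤ centralizer (Lm Z j : Set G) := by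
  rw [le_centralizer_iff]
  exact iSup₂_le fun l hl => le_centralizer_iff.1 (hc l hl)

/-- **`YS` from `LMd`.** -/
theorem ys_of {Y R H U : Subgroup G} (m : LMd S P B Y R H U) (wy : WY S P B Y) (ZU : zc B ≤ U) : YS U H B Y where
  Uc := m.Uc
  Us := m.toLoc.Us
  HU := m.Un
  UT := m.toLoc.UT
  syl := m.wq.syl
  min := m.wq.min
  c2 := m.wq.c2
  mv := wy.mv
  YH := m.YH
  VU := ZN.zl_le ZU (m.YH.trans m.Un)

/-- **`K♯` and the passive family**, natural blocks of `Y`. -/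
theorem ksh_of (h : MulL S P B ZJ L W Z C A 2) {j : Fin k} {Y H U : Subgroup G} (wj : WJ S P B Z j Y)
    (m : LMd S P B Y (Lm Z j) H U) (WU : W j ≤ U) (ΛU : Lm Z j ≤ U)
    (cen : ∀ E ≤ B, MaxMin U H E → E ≤ centralizer (W j : Set G))
    (hex : ∃ E, E ≤ B ∧ MaxMin U H E ∧ ¬ E ≤ o2 Y) (noV : NoOverM (zl B Y) Y) {F : Type} [Field F] [Finite F]
    [CharP F 2] {n : ℕ} (N : NatKM F B Y (zl B Y) (cv B Y) n) (hn : 0 < n) :
    (∃ (K : Subgroup G) (𝒜 : Set (Subgroup G)), KSh S P Y U K 𝒜) ∧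
      ∃ (V : Subgroup G) (𝓕 : Set (Subgroup G)), FamT S P Y V 𝓕 := by
  have ZU : zc B ≤ U := (zT h j).trans (sup_le ΛU ((h.bg.fr.blk j).ZV.trans WU))
  have s := ys_of m wj.toWY ZU
  have hloc := hloc_of h.bg s noV N hn WU m.toLoc.cUQ cen hex (cenLm wj.cen) ΛU (zT h j)
  exact exists_fam m hloc fun A hA hP => hN_of h.bg j hA hP

end Cfsg.Agent.Omega.CaseLQ.TorOf

end
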