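import Cfsg.Agent.Mrg.Omega.CaseLQ.Crd
import Cfsg.Agent.Mrg.Omega.CaseLQ.OneY
import Cfsg.Agent.Mrg.Omega.CaseLQ.PsiBg
import Cfsg.Agent.Mrg.Omega.NO3S.WY.Loc
import Cfsg.Agent.Mrg.Omega.FF.GlobEnd
import Cfsg.Agent.Mrg.Omega.Node.NoWFiveSel
import Cfsg.Agent.MinSimple.LemXPerm
import Cfsg.Agent.Mrg.Omega.Node.SymG

section


/-!
# The instance of `SitC` for `MulL` (helper952 #24536, helper509 #25180), any `q`

* `not_norm_of_mv` : `Y` does not normalise `Z j` if it moves `C_{Z j}(T)` and `O₂(P) ≰ O₂(Y)`;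
* `exists_cj_mv` : an `A ≤ S` which moves `V_P` has a conjugate under `S` which moves `W j`;
* **`sitC_of`** : `SitC (X ⊔ Y) (zl T (X ⊔ Y)) T (o2 P) (W j) (Z j) Λ X Y`, `X = Pj P T (W j) (C j)`, and the data for
  `PsiYC.now_false`.
-/

set_option autoImplicit false
set_option linter.unusedSectionVars false

namespace Cfsg.Agent.Omega.CaseLQ

open Subgroup Cfsg Cfsg.Agent.ZN Cfsg.Agent.ZN.ChoiceBase
open Cfsg.Agent.ZN.ChoiceSit (Syl)
open Cfsg.Agent.MinSimple.MinParabolic (IsMinPar)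
open Cfsg.Agent.MinSimple.VModule (oddGen)
open Cfsg.Agent.Omega.FFThm (NatKM OffM ElemM NoOverM StmtM)
open Cfsg.Agent.Omega.FrameFF (cv)
open Cfsg.Agent.Omega.NO3S.ThmB (Nb)
open Cfsg.Agent.Omega.NO3S.EThree.Frame (Bg Fg)
open Cfsg.Agent.Omega.NO3S.RedC (MaxMin)
open Cfsg.Agent.Omega.NO1.BestOff (Best)
open Cfsg.Agent.Omega.NO3S.WY (Loc BB)
open Cfsg.Agent.Omega.NO3S.Level (nxt)
open Cfsg.Agent.Omega.Node.MulX (MulL)

universe u

variable {G : Type u} [Group G] [Finite G]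

/-- `Y` does not normalise `Z` if it moves `C_Z(T)`, and some subgroup of `C_T(Z)` is not in `O₂(Y)`. -/
theorem not_norm_of_mv {T Y Q Z : Subgroup G} (syl : Syl T Y) (min : IsMinPar T Y) (QT : Q ≤ T)
    (QZ : Q ≤ centralizer (Z : Set G)) (nQ : ¬ Q ≤ o2 Y)
    (mvZ : ¬ Y ≤ centralizer ((Z ⊓ centralizer (T : Set G) : Subgroup G) : Set G)) : ¬ Y ≤ normalizer (Z : Set G) := by
  intro hn
  have hYY : Y ≤ normalizer ((Y ⊓ centralizer (Z : Set G) : Subgroup G) : Set G) :=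
    NO3b.EZero.le_normalizer_inf_cent hn
  rcases NO3b.K0.min_or syl min (K := Y ⊓ centralizer (Z : Set G)) inf_le_left hYY with h2 | h2
  · apply mvZ
    rw [← NO3b.EZero.oddGen_sup_syl syl]
    refine sup_le (h2.trans (inf_le_right.trans (centralizer_le inf_le_left))) ?_
    exact NO3b.EZero.cent_symm inf_le_right
  · exact nQ ((le_inf QT (le_inf (QT.trans syl.1) QZ)).trans h2)

section bg

variable {S : Sylow 2 G} {P B ZJ : Subgroup G} {ι : Type} {L W Z C : ι → Subgroup G} {q : ℕ}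

/-- `A ≤ S` moves `V_P`: a conjugate under `S` moves `W j`. -/
theorem exists_cj_mv (h : Bg S P B ZJ L W Z C q) (j : ι) {A U : Subgroup G} (hA : A ≤ (S : Subgroup G))
    (hAP : ¬ A ≤ o2 P) (hU : W j ≤ U) : ∃ s ∈ (S : Subgroup G), ¬ cj s A ≤ centralizer (U : Set G) := by
  by_contra hcon
  push Not at hcon
  apply hAP
  have hSP : (S : Subgroup G) ≤ P := h.hyp.toHyp.star.le
  -- `A` centralises all `W i`
  have h1 : ∀ i, ∀ a ∈ A, ∀ w ∈ W i, a * w = w * a := by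
    intro i a ha w hw
    obtain ⟨s, hs, hsW⟩ := h.trans i j
    have h2 : s * w * s⁻¹ ∈ W j := hsW ▸ ⟨w, hw, rfl⟩
    have h3 : s * a * s⁻¹ ∈ centralizer (U : Set G) := hcon s hs ⟨a, ha, rfl⟩
    have h4 := mem_centralizer_iff.1 h3 _ (hU h2)
    have h5 : s * (w * a) * s⁻¹ = s * (a * w) * s⁻¹ := by
      calc s * (w * a) * s⁻¹ = s * w * s⁻¹ * (s * a * s⁻¹) := by group
        _ = s * a * s⁻¹ * (s * w * s⁻¹) := h4
        _ = s * (a * w) * s⁻¹ := by group
    exact (mul_left_cancel (mul_right_cancel h5)).symm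
  -- so it centralises `V_P`
  have h2 : ∀ a ∈ A, ∀ v ∈ zl (S : Subgroup G) P, a * v = v * a := by
    intro a ha v hv
    have hVn : a * v * a⁻¹ ∈ zl (S : Subgroup G) P := (mem_normalizer_iff.1 (le_normalizer_zl _ _ (hSP (hA ha))) v).1 hv
    have h3 : a * v * a⁻¹ * v⁻¹ = 1 := by
      refine h.fr.C0 _ (mul_mem hVn (inv_mem hv)) fun i => ?_
      obtain ⟨w, hw, c, hc, rfl⟩ := h.fr.WC i v hv
      obtain ⟨σ, hσ⟩ := h.perm a (hSP (hA ha))
      have h4 : σ i = i := by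
        by_contra hne
        have h5 : W i ≤ W (σ i) := by
          rw [← (hσ i).1]
          intro x hx
          exact ⟨x, hx, mul_inv_eq_iff_eq_mul.2 (h1 i a ha x hx)⟩
        have h6 := h.W_disj (Ne.symm hne)
        rw [inf_eq_left.2 h5] at h6
        exact h.Z_ne i (le_bot_iff.1 (h6 ▸ (h.fr.blk i).ZV))
      have h5 : a * c * a⁻¹ ∈ C i := by
        have h6 := (hσ i).2
        rw [h4] at h6
        exact h6 ▸ ⟨c, hc, rfl⟩
      have h6 : a * w * a⁻¹ = w := mul_inv_eq_iff_eq_mul.2 (h1 i a ha w hw)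
      have hcV := h.fr.CV i hc
      have hwV := h.fr.WV i hw
      have h7 : a * (w * c) * a⁻¹ * (w * c)⁻¹ = a * c * a⁻¹ * c⁻¹ := by
        calc a * (w * c) * a⁻¹ * (w * c)⁻¹ = a * w * a⁻¹ * (a * c * a⁻¹) * c⁻¹ * w⁻¹ := by group
          _ = w * (a * c * a⁻¹ * c⁻¹) * w⁻¹ := by rw [h6]; group
          _ = a * c * a⁻¹ * c⁻¹ := by
            rw [h.fr.Vc hwV (h.fr.CV i (mul_mem h5 (inv_mem hc)))]
            group
      rw [h7]
      exact mul_mem h5 (inv_mem hc)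
    exact mul_inv_eq_iff_eq_mul.1 (mul_inv_eq_one.1 h3)
  intro a ha
  have haB : a ∈ B := h.cent_le ⟨hA ha, mem_centralizer_iff.2 fun v hv => (h2 a ha v hv).symm⟩
  exact (h.fr.mem_Q a haB).2 (h2 a ha)

end bg

section inst

variable {S : Sylow 2 G} {P B ZJ : Subgroup G} {k : ℕ} {L W Z C A : Fin k → Subgroup G} {q : ℕ}

/-- The data of a weird `Y`. -/
structure WData (S : Sylow 2 G) (P B ZJ : Subgroup G) {k : ℕ} (Z C : Fin k → Subgroup G) (j : Fin k)
    (T Y D Λ : Subgroup G) : Prop where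
  BT : B ≤ T
  TS : T ≤ (S : Subgroup G)
  TZ : T ≤ normalizer (Z j : Set G)
  DZ : D ≤ ZJ
  D0 : D ≠ ⊥
  DC : D ≤ C j
  hT : Syl T (centralizer (D : Set G))
  YD : Y ≤ centralizer (D : Set G)
  syl : Syl T Y
  min : IsMinPar T Y
  c2 : Y ⊓ centralizer (o2 Y : Set G) ≤ o2 Y
  nQ : ¬ o2 P ≤ o2 Y
  ΛC : Λ ≤ C j
  ΛT : T ≤ centralizer (Λ : Set G)
  zT : zc T ≤ Z j ⊔ Λ
  mvZ : ¬ Y ≤ centralizer ((Z j ⊓ centralizer (T : Set G) : Subgroup G) : Set G)
  cnt : ∀ F ≤ Λ, F ⊓ centralizer (Y : Set G) = ⊥ → Nat.card F < Nat.card ↥(Z j ⊓ centralizer (T : Set G))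

/-- what `PsiYC.now_false` needs -/
structure InstC (S : Sylow 2 G) (P W Z T Y Λ X : Subgroup G) : Prop where
  sit : SitC (X ⊔ Y) (zl T (X ⊔ Y)) T (o2 P) W Z Λ X Y
  loc : ∃ D, Loc S P T Y D (X ⊔ Y) (zl T (X ⊔ Y))
  hT : Syl T (X ⊔ Y)
  hoff : ∃ A ≤ X ⊔ Y, OffM (zl T (X ⊔ Y)) A
  gen : ∀ A ≤ T, A ≤ centralizer (W : Set G) → X ≤ normalizer (A : Set G) → Y ≤ normalizer (A : Set G) →
    A ≤ centralizer (zl T (X ⊔ Y) : Set G)
  mv : ¬ Y ≤ centralizer (zc T : Set G)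
  VU : zl T Y ≤ zl T (X ⊔ Y)
  CQ : zl T (X ⊔ Y) ⊓ centralizer (o2 P : Set G) ≤ zl (S : Subgroup G) P

variable {F : Type} [Field F] [Finite F] [CharP F 2]
  {N : NatKM F (S : Subgroup G) P (zl (S : Subgroup G) P) (cv (S : Subgroup G) P) k}

/-- **The instance.** -/
theorem sitC_of (h : MulL S P B ZJ L W Z C A q) (hn : Nb N) {j : Fin k} (b : BlkJ N j (W j) (Z j) (C j))
    (hFF : StmtM.{u}) {T Y D Λ : Subgroup G} (d : WData S P B ZJ Z C j T Y D Λ) :
    InstC S P (W j) (Z j) T Y Λ (Pj P T (W j) (C j)) := by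
  set X := Pj P T (W j) (C j) with hX
  have hSP : (S : Subgroup G) ≤ P := h.bg.hyp.toHyp.star.le
  have TP : T ≤ P := d.TS.trans hSP
  have nt := natT_of hn b TP d.TZ
  have T2 : IsPGroup 2 T := d.hT.2.1
  have QB : o2 P ≤ B := h.bg.fr.QB
  have QT : o2 P ≤ T := QB.trans d.BT
  have QW : o2 P ≤ centralizer (W j : Set G) := fun x hx =>
    mem_centralizer_iff.2 fun w hw => (h.bg.fr.cQ hx (h.bg.fr.WV j hw)).symm
  have ZW : Z j ≤ W j := (h.bg.fr.blk j).ZV
  have QZ : o2 P ≤ centralizer (Z j : Set G) := QW.trans (centralizer_le ZW)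
  have ZT : Z j ≤ T := (ZW.trans (h.bg.fr.WV j)).trans (h.bg.fr.VB.trans d.BT)
  have TX : T ≤ X := le_Pj hn b TP d.TZ
  have XP : X ≤ P := Pj_le_P TP
  have XQ : X ≤ normalizer (o2 P : Set G) := XP.trans (le_normalizer_o2 P)
  have hH : P ⊓ centralizer (C j : Set G) ≤ centralizer (D : Set G) := inf_le_right.trans (centralizer_le d.DC)
  have XD : X ≤ centralizer (D : Set G) := Pj_le_of d.hT.1 hH
  have hZ0 : Z j ⊓ zc T ≠ ⊥ := by
    obtain ⟨z, hz, hz1, hfix⟩ := NO3S.OneLine.exists_fixed T2 ZT d.TZ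
      (fun h0 => h.bg.Z_ne j (le_bot_iff.1 h0) : ¬ Z j ≤ (⊥ : Subgroup G))
    rw [mem_bot] at hz1
    intro h0
    refine hz1 (mem_bot.1 (h0 ▸ ⟨hz, ChoiceBase.mem_zc.2 ⟨ZT hz, h.bg.fr.Vsq (h.bg.fr.ZV j hz), fun t ht => ?_⟩⟩))
    have h1 := mem_bot.1 (hfix t ht)
    have e1 : t * z = (t * z * t⁻¹ * z⁻¹) * z * t := by group
    rw [e1, h1, one_mul]
  have hZc : Z j ⊓ centralizer (T : Set G) ≤ zc T := fun z hz =>
    ChoiceBase.mem_zc.2 ⟨ZT hz.1, h.bg.fr.Vsq (h.bg.fr.ZV j hz.1), fun t ht => mem_centralizer_iff.1 hz.2 t ht⟩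
  have mv : ¬ Y ≤ centralizer (zc T : Set G) := fun h0 => d.mvZ (h0.trans (centralizer_le hZc))
  have hWX : W j ≤ zl T X := le_zl_Pj hn b TP d.TZ d.hT hH hZ0
  have BT' : BB (S : Subgroup G) P ≤ T := by
    have h1 : BB (S : Subgroup G) P = B := by rw [h.eB, h.eZ]
    rw [h1]
    exact d.BT
  have DZ' : D ≤ NO3S.WY.ZJ (S : Subgroup G) P := by
    have h1 := d.DZ
    rw [h.eZ] at h1
    exact h1
  obtain ⟨m, E, hET, hEb, hEn⟩ := NO3S.WY.exists_loc (X := X) h.cl d.TS QT d.syl d.min d.c2 mv d.nQ BT' DZ' d.D0 d.hT d.YD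
    TX XQ XD fun A hA hAP => exists_cj_mv h.bg j hA hAP hWX
  have zlX : zl T X ≤ zl T (X ⊔ Y) :=
    ZN.zl_le (ChoiceSit.zc_le_zl _ _) ((le_sup_left : X ≤ X ⊔ Y).trans (ZN.le_normalizer_zl _ _))
  have zlY : zl T Y ≤ zl T (X ⊔ Y) :=
    ZN.zl_le (ChoiceSit.zc_le_zl _ _) ((le_sup_right : Y ≤ X ⊔ Y).trans (ZN.le_normalizer_zl _ _))
  have hTH : Syl T (X ⊔ Y) :=
    ⟨m.TH, T2, fun R hR hp hTR => d.hT.2.2 R (hR.trans m.HC) hp hTR⟩
  have hq1 : 1 < Nat.card F := Finite.one_lt_card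
  refine
    { sit :=
        { Uc := m.Uc
          Us := m.Us
          HU := m.Un
          TH := m.TH
          T2 := T2
          QT := QT
          TZ := d.TZ
          UT := m.UT
          NU := hWX.trans zlX
          QN := QW
          ZN := ZW
          Zne := h.bg.Z_ne j
          card := by
            rw [nt.card_Z, nt.card_N]
            calc Nat.card F = Nat.card F ^ 1 := (pow_one _).symm
              _ < Nat.card F ^ 2 := Nat.pow_lt_pow_right hq1 (by norm_num)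
          PH := le_sup_left
          TP := TX
          PN := Pj_norm_W hn b TP d.TZ
          PQ := XQ
          PC := Pj_norm_T
          YH := le_sup_right
          TY := d.syl.1
          sylY := d.syl
          oY := ChoiceSit.o2_le_syl d.syl
          mv := not_norm_of_mv d.syl d.min QT QZ d.nQ d.mvZ
          PL := Pj_cent d.ΛC d.ΛT
          fix := m.cUT.trans d.zT
          cnt := d.cnt
          noN := fun E hE hm hne => nt.no hE hm hne
          lineN := fun E hE ho => ?_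
          irrN := fun E hE ho K hK hcl => nt.irr (Pj_norm_W hn b TP d.TZ) (Pj_lift hn b TP d.TZ d.hT hH) hE ho hK hcl
          oneY := oneY_of hFF m.Uc m.Us m.Un d.syl d.min d.c2 mv le_sup_right zlY QT QZ d.nQ d.TZ }
      loc := ⟨D, m⟩
      hT := hTH
      hoff := ⟨E, hET.trans m.TH, hEb.offM le_rfl hEn⟩
      gen := fun A hA _ hAX hAY => ?_
      mv := mv
      VU := zlY
      CQ := m.cUQ }
  · obtain ⟨h1, h2⟩ := nt.comm hE ho
    refine ⟨nt.cent_eq hE ho, h1, fun Z' hZ' z hz => ?_⟩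
    obtain ⟨v, hv, hvZ⟩ : ∃ v ∈ W j, v ∉ Z j := by
      by_contra hcon
      push Not at hcon
      have h3 : W j = Z j := le_antisymm (fun v hv => hcon v hv) ZW
      have h4 := nt.card_N
      rw [h3, nt.card_Z] at h4
      have h5 : Nat.card F < Nat.card F ^ 2 := by
        calc Nat.card F = Nat.card F ^ 1 := (pow_one _).symm
          _ < Nat.card F ^ 2 := Nat.pow_lt_pow_right hq1 (by norm_num)
      omega
    obtain ⟨t, ht, rfl⟩ := h2 v hv hvZ z hz
    exact hZ' t ht v hv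
  · have h1 : zc T ≤ centralizer (A : Set G) := fun z hz =>
      mem_centralizer_iff.2 fun a ha => (ChoiceBase.mem_zc.1 hz).2.2 a (hA ha)
    have h2 : X ⊔ Y ≤ normalizer ((centralizer (A : Set G) : Subgroup G) : Set G) :=
      (sup_le hAX hAY).trans (normalizer_le_of_cj (F := fun T => centralizer (T : Set G))
        (fun g T => (cj_centralizer g T).symm) A)
    exact NO3b.EZero.cent_symm (ZN.zl_le h1 h2)

end inst

end Cfsg.Agent.Omega.CaseLQ

end

section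


/-!
# NoW and NoW+ (helper952 #24536, helper509 #25180), `q ≥ 3`, over `MulL`

* `noW_core` : in coordinates; **`noW_core'`** : over any frame `MulL`.
-/

set_option autoImplicit false

namespace Cfsg.Agent.Omega.CaseLQ

open Subgroup Cfsg Cfsg.Agent.ZN Cfsg.Agent.ZN.ChoiceBase
open Cfsg.Agent.ZN.ChoiceSit (Syl)
open Cfsg.Agent.MinSimple.MinParabolic (IsMinPar)
open Cfsg.Agent.Omega.FFThm (NatKM StmtM)
open Cfsg.Agent.Omega.FrameFF (cv)
open Cfsg.Agent.Omega.NO3S.ThmB (Nb)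
open Cfsg.Agent.Omega.Node.MulX (MulL)

universe u

variable {G : Type u} [Group G] [Finite G] {S : Sylow 2 G} {P B ZJ : Subgroup G} {k : ℕ}
  {L W Z C A : Fin k → Subgroup G} {q : ℕ}

theorem noW_core {F : Type} [Field F] [Finite F] [CharP F 2]
    {N : NatKM F (S : Subgroup G) P (zl (S : Subgroup G) P) (cv (S : Subgroup G) P) k}
    (h : MulL S P B ZJ L W Z C A q) (hn : Nb N) {j : Fin k} (b : BlkJ N j (W j) (Z j) (C j)) (hq : 3 ≤ q)
    {T Y D Λ : Subgroup G} (d : WData S P B ZJ Z C j T Y D Λ) : False := by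
  have s := sitC_of h hn b FF.Glob.ffthmM d
  exact PsiYC.now_false h.bg hq s.sit FF.Glob.ffthmM d.BT d.TS s.hT s.hoff s.gen d.min d.c2 s.mv s.VU s.CQ d.mvZ

/-- **NoW and NoW+.** -/
theorem noW_core' (h : MulL S P B ZJ L W Z C A q) (hq : 3 ≤ q) {j : Fin k} {T Y D Λ : Subgroup G}
    (BT : B ≤ T) (TS : T ≤ (S : Subgroup G)) (TZ : T ≤ normalizer (Z j : Set G)) (DZ : D ≤ ZJ) (D0 : D ≠ ⊥)
    (DC : D ≤ ⨆ l : {l : Fin k // l ≠ j}, Z l) (hT : Syl T (centralizer (D : Set G))) (YD : Y ≤ centralizer (D : Set G))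
    (syl : Syl T Y) (min : IsMinPar T Y) (c2 : Y ⊓ centralizer (o2 Y : Set G) ≤ o2 Y) (nQ : ¬ o2 P ≤ o2 Y)
    (ΛC : Λ ≤ ⨆ l : {l : Fin k // l ≠ j}, Z l) (ΛT : T ≤ centralizer (Λ : Set G)) (zT : zc T ≤ Z j ⊔ Λ)
    (mvZ : ¬ Y ≤ centralizer ((Z j ⊓ centralizer (T : Set G) : Subgroup G) : Set G))
    (cnt : ∀ F ≤ Λ, F ⊓ centralizer (Y : Set G) = ⊥ → Nat.card F < Nat.card ↥(Z j ⊓ centralizer (T : Set G))) :
    False := by
  have hk : 2 ≤ k := by
    obtain ⟨i, hi⟩ := h.bg.two j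
    have h1 : (i : ℕ) ≠ j := fun h0 => hi (Fin.ext h0)
    have h2 := i.2
    have h3 := j.2
    omega
  obtain ⟨F, _, _, _, N, L', W', Z', C', A', -, h', hn, b, σ, hσ⟩ := exists_crd h hk
  have hC : (⨆ l : {l : Fin k // l ≠ j}, Z l) ≤ C' (σ j) := by
    refine iSup_le fun l => ?_
    rw [hσ l]
    exact (h'.bg.fr.blk (σ l)).ZV.trans (h'.bg.fr.WjC (σ j) (σ l) fun e => l.2 (σ.injective e.symm))
  rw [hσ j] at TZ zT mvZ cnt
  exact noW_core h' hn (b (σ j)) hq
    { BT := BT, TS := TS, TZ := TZ, DZ := DZ, D0 := D0, DC := DC.trans hC, hT := hT, YD := YD, syl := syl, min := min,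
      c2 := c2, nQ := nQ, ΛC := ΛC.trans hC, ΛT := ΛT, zT := zT, mvZ := mvZ, cnt := cnt }

end Cfsg.Agent.Omega.CaseLQ

end

section


/-!
# CaseL, one `S₅`, weird `Y`: the situation of `PartI.lean`

`V_τ = {1, p 2 p 3, p 2 p 4, p 3 p 4}`, `Z = ⟨aa p⟩`, `Λ = ⟨nn p⟩`, `X5 = N(B ∩ C(V_τ)) ∩ P ∩ C(nn p)`.

* `Tau p N` : `N = V_τ`;  `act_N` : `P ∩ C(nn p)` acts on `V_τ`;  `exists_rot` : `X5` induces a 3-cycle on `V_τ`;
* **`sitFive`** : `Sit H U B (O₂(P)) V_τ ⟨aa p⟩ ⟨nn p⟩ X5 Y`.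
-/

set_option autoImplicit false
set_option linter.unusedSectionVars false

namespace Cfsg.Agent.Omega.CaseLQ.SitFive

open Subgroup Cfsg Cfsg.Agent.ZN Cfsg.Agent.ZN.ChoiceBase
open Cfsg.Agent.ZN.ChoiceSit (Syl syl_not_dvd)
open Cfsg.Agent.MinSimple.MinParabolic (IsMinPar)
open Cfsg.Agent.Omega.NTwo
open Cfsg.Agent.Omega.FFThm (OffM ElemM StmtM)
open Cfsg.Agent.Omega.NO3b.EZero (cl cj_le_cl le_cl)
open Cfsg.Agent.Omega.NO3S.RedC (MaxMin DX GX)
open Cfsg.Agent.Omega.NO3S.WY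
open Cfsg.Agent.Omega.NO3S.Sym.Light (FiveL)
open Cfsg.Agent.Omega.Node.MulX (SymL)
open Cfsg.Agent.Omega.Node.NoWFiveSel (WdF zc_B)
open Cfsg.Agent.Omega.CaseLQ

universe u

variable {G : Type u} [Group G]

/-- `N = V_τ`, `τ = {2, 3, 4}` -/
def Tau (p : Fin 5 → G) (N : Subgroup G) : Prop :=
  ∀ x, x ∈ N ↔ x = 1 ∨ x = p 2 * p 3 ∨ x = p 2 * p 4 ∨ x = p 3 * p 4

/-- `N(B ∩ C(N)) ∩ P ∩ C(nn p)` -/
def X5 (P B N : Subgroup G) (p : Fin 5 → G) : Subgroup G :=
  (P ⊓ centralizer ({nn p} : Set G)) ⊓ normalizer ((B ⊓ centralizer (N : Set G) : Subgroup G) : Set G)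

section fv

variable {P : Subgroup G} {p : Fin 5 → G} (h : Fv P p)
include h

theorem tau_closure : Tau p (closure {p 2 * p 3, p 3 * p 4}) := by
  intro x
  have e : p 2 * p 3 * (p 3 * p 4) = p 2 * p 4 := by
    rw [mul_assoc, ← mul_assoc (p 3), h.sq, one_mul]
  constructor
  · intro hx
    have hm : ∀ i j : Fin 5, (p i * p j) * (p i * p j) = 1 := fun i j => by
      rw [mul_assoc, ← mul_assoc (p j), h.comm j i, mul_assoc (p i), h.sq, mul_one, h.sq]
    have h23 : p 2 * p 3 = p 3 * p 2 := h.comm _ _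
    have h24 : p 2 * p 4 = p 4 * p 2 := h.comm _ _
    have h34 : p 3 * p 4 = p 4 * p 3 := h.comm _ _
    induction hx using closure_induction with
    | mem x hx =>
      rcases hx with rfl | hx
      · simp
      · rw [Set.mem_singleton_iff] at hx
        simp [hx]
    | one => simp
    | inv x hx ih =>
      rcases ih with rfl | rfl | rfl | rfl
      · simp
      · right; left; exact inv_eq_of_mul_eq_one_left (hm _ _)
      · right; right; left; exact inv_eq_of_mul_eq_one_left (hm _ _)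
      · right; right; right; exact inv_eq_of_mul_eq_one_left (hm _ _)
    | mul x y hx hy ihx ihy =>
      have a1 : p 2 * p 3 * (p 2 * p 4) = p 3 * p 4 := by
        rw [h23, mul_assoc, ← mul_assoc (p 2), h.sq, one_mul]
      have a2 : p 2 * p 4 * (p 2 * p 3) = p 3 * p 4 := by
        rw [h24, mul_assoc, ← mul_assoc (p 2), h.sq, one_mul, h34]
      have a3 : p 2 * p 4 * (p 3 * p 4) = p 2 * p 3 := by
        rw [h34, mul_assoc, ← mul_assoc (p 4), h.sq, one_mul]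
      have a4 : p 3 * p 4 * (p 2 * p 3) = p 2 * p 4 := by
        rw [h34, mul_assoc, h23, ← mul_assoc (p 3), h.sq, one_mul, h24]
      have a5 : p 3 * p 4 * (p 2 * p 4) = p 2 * p 3 := by
        rw [h24, mul_assoc, ← mul_assoc (p 4), h.sq, one_mul, h23]
      rcases ihx with rfl | rfl | rfl | rfl <;> rcases ihy with rfl | rfl | rfl | rfl <;>
        simp [hm, a1, a2, a3, a4, a5, e]
  · rintro (rfl | rfl | rfl | rfl)
    · exact one_mem _
    · exact subset_closure (by simp)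
    · rw [← e]
      exact mul_mem (subset_closure (by simp)) (subset_closure (by simp))
    · exact subset_closure (by simp)

omit h in
theorem key_perm : ∀ σ : Equiv.Perm (Fin 5), ((σ 0 = 0 ∧ σ 1 = 1) ∨ (σ 0 = 1 ∧ σ 1 = 0)) →
    ∀ i : Fin 5, 2 ≤ i → 2 ≤ σ i := by decide +kernel

omit h in
theorem Tau.one {N : Subgroup G} (_ : Tau p N) : (1 : G) ∈ N := one_mem _

theorem mem_of_pair {N : Subgroup G} (hN : Tau p N) {i j : Fin 5} (hi : 2 ≤ i) (hj : 2 ≤ j) : p i * p j ∈ N := by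
  have key : ∀ i : Fin 5, 2 ≤ i → i = 2 ∨ i = 3 ∨ i = 4 := by decide
  rcases key i hi with rfl | rfl | rfl <;> rcases key j hj with rfl | rfl | rfl <;> rw [hN]
  · left; exact h.sq _
  · right; left; rfl
  · right; right; left; rfl
  · right; left; exact h.comm _ _
  · left; exact h.sq _
  · right; right; right; rfl
  · right; right; left; exact h.comm _ _
  · right; right; right; exact h.comm _ _
  · left; exact h.sq _

/-- the elements of `P ∩ C(nn p)` on the five points -/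
theorem act_perm {g : G} (hg : g ∈ P) (hn : g ∈ centralizer ({nn p} : Set G)) :
    ∃ σ : Equiv.Perm (Fin 5), (∀ i, g * p i * g⁻¹ = p (σ i)) ∧ ((σ 0 = 0 ∧ σ 1 = 1) ∨ (σ 0 = 1 ∧ σ 1 = 0)) := by
  obtain ⟨σ, hσ⟩ := h.perm g hg
  refine ⟨σ, hσ, ?_⟩
  have h1 := mem_cent.1 hn
  rw [nn, cm, hσ, hσ] at h1
  exact h.pair_inj (fun e => absurd (σ.injective e) (by decide)) (by decide) h1

theorem act_N {N : Subgroup G} (hN : Tau p N) {g : G} (hg : g ∈ P) (hn : g ∈ centralizer ({nn p} : Set G)) {x : G}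
    (hx : x ∈ N) : g * x * g⁻¹ ∈ N := by
  obtain ⟨σ, hσ, hc⟩ := act_perm h hg hn
  rcases (hN x).1 hx with rfl | rfl | rfl | rfl
  · simp [one_mem]
  all_goals
    rw [cm, hσ, hσ]
    exact mem_of_pair h hN (key_perm σ hc _ (by decide)) (key_perm σ hc _ (by decide))

theorem norm_N {N : Subgroup G} (hN : Tau p N) : P ⊓ centralizer ({nn p} : Set G) ≤ normalizer (N : Set G) := by
  intro g hg
  rw [mem_normalizer_iff]
  refine fun x => ⟨fun hx => act_N h hN hg.1 hg.2 hx, fun hx => ?_⟩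
  have h1 := act_N h hN (inv_mem hg.1) (inv_mem hg.2) hx
  have e : g⁻¹ * (g * x * g⁻¹) * g⁻¹⁻¹ = x := by group
  rwa [e] at h1

theorem sq_N {N : Subgroup G} (hN : Tau p N) {x : G} (hx : x ∈ N) : x * x = 1 := by
  have hm : ∀ i j : Fin 5, (p i * p j) * (p i * p j) = 1 := fun i j => by
    rw [mul_assoc, ← mul_assoc (p j), h.comm j i, mul_assoc (p i), h.sq, mul_one, h.sq]
  rcases (hN x).1 hx with rfl | rfl | rfl | rfl
  · simp
  all_goals exact hm _ _

theorem ne34 : p 3 * p 4 ≠ 1 := h.mul_ne_one (by decide)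

theorem ne24 : p 2 * p 4 ≠ 1 := h.mul_ne_one (by decide)

theorem ne23 : p 2 * p 3 ≠ 1 := h.mul_ne_one (by decide)

theorem ne_a : p 2 * p 4 ≠ p 2 * p 3 := fun e => absurd (h.inj (mul_left_cancel e)) (by decide)

theorem ne_b : p 3 * p 4 ≠ p 2 * p 3 := fun e => by
  rw [h.comm 2 3] at e
  exact absurd (h.inj (mul_left_cancel e)) (by decide)

theorem ne_c : p 2 * p 4 ≠ p 3 * p 4 := fun e => absurd (h.inj (mul_right_cancel e)) (by decide)

theorem card_N {N : Subgroup G} (hN : Tau p N) : Nat.card N = 4 := by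
  have e : (N : Set G) = {1, p 2 * p 3, p 2 * p 4, p 3 * p 4} := by
    ext x
    rw [SetLike.mem_coe, hN]
    simp
  rw [← SetLike.coe_sort_coe, e, Nat.card_coe_set_eq, Set.ncard_insert_of_notMem, Set.ncard_insert_of_notMem,
    Set.ncard_insert_of_notMem, Set.ncard_singleton]
  · simp [ne_c h]
  · simp [(ne_a h).symm, (ne_b h).symm]
  · simp [(ne23 h).symm, (ne24 h).symm, (ne34 h).symm]

end fv

/-! ### The action of `T = C_S(nn p)` on `V_τ` -/

section std

variable {S P : Subgroup G} {p : Fin 5 → G} (h : Std S P p)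
include h

omit h in
theorem key_T : ∀ σ : Equiv.Perm (Fin 5), ((σ 0 = 0 ∧ σ 1 = 1) ∨ (σ 0 = 1 ∧ σ 1 = 0)) → σ 4 = 4 →
    (σ 2 = 2 ∧ σ 3 = 3) ∨ (σ 2 = 3 ∧ σ 3 = 2) := by decide +kernel

theorem T_le_PC : Std.T S p ≤ P ⊓ centralizer ({nn p} : Set G) := le_inf (Std.T_le.trans h.le) inf_le_right

/-- `b ∈ T` acts on `V_τ` as `1` or as `(2 3)` -/
theorem T_act {N : Subgroup G} (hN : Tau p N) {b : G} (hb : b ∈ Std.T S p) :
    (∀ x ∈ N, b * x = x * b) ∨ (b * (p 2 * p 4) * b⁻¹ = p 3 * p 4 ∧ b * (p 3 * p 4) * b⁻¹ = p 2 * p 4) := by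
  have hb' := T_le_PC h hb
  obtain ⟨σ, hσ, hc⟩ := act_perm h.toFv hb'.1 hb'.2
  have h4 : σ 4 = 4 := by
    have h1 := h.fix b (Std.T_le hb)
    rw [hσ] at h1
    exact h.inj h1
  rcases key_T σ hc h4 with ⟨h2, h3⟩ | ⟨h2, h3⟩
  · left
    intro x hx
    rw [← comm_iff]
    rcases (hN x).1 hx with rfl | rfl | rfl | rfl
    · simp
    all_goals simp only [cm, hσ, h2, h3, h4]
  · right
    simp only [cm, hσ, h2, h3, h4, and_self]

/-- an element of `T` which moves `V_τ` -/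
theorem T_sw {N : Subgroup G} (hN : Tau p N) {b : G} (hb : b ∈ Std.T S p) (hm : b ∉ centralizer (N : Set G)) :
    b * (p 2 * p 4) * b⁻¹ = p 3 * p 4 ∧ b * (p 3 * p 4) * b⁻¹ = p 2 * p 4 :=
  (T_act h hN hb).resolve_left fun h1 => hm (mem_centralizer_iff.2 fun x hx => (h1 x hx).symm)

theorem mem_aa (x : G) : x ∈ zpowers (aa p) ↔ x = 1 ∨ x = aa p := by
  rw [mem_zpowers_iff]
  constructor
  · rintro ⟨n, rfl⟩
    have h3 : aa p ^ (2 : ℤ) = 1 := by
      rw [zpow_ofNat, sq, h.asq]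
    rcases Int.even_or_odd' n with ⟨c, hc | hc⟩
    · left; rw [hc, zpow_mul, h3, one_zpow]
    · right; rw [hc, zpow_add, zpow_mul, h3, one_zpow, one_mul, zpow_one]
  · rintro (rfl | rfl)
    · exact ⟨0, by simp⟩
    · exact ⟨1, by simp⟩

theorem N_inf_cent {N E : Subgroup G} (hN : Tau p N) (hE : E ≤ Std.T S p) (hm : ¬ E ≤ centralizer (N : Set G)) :
    N ⊓ centralizer (E : Set G) = zpowers (aa p) := by
  obtain ⟨e, he, hne⟩ := SetLike.not_le_iff_exists.1 hm
  obtain ⟨h1, h2⟩ := T_sw h hN (hE he) hne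
  have hz := mem_aa h
  ext x
  rw [mem_inf, hz]
  constructor
  · rintro ⟨hx, hxe⟩
    have h3 := comm_iff.2 ((mem_centralizer_iff.1 hxe e he))
    rcases (hN x).1 hx with rfl | rfl | rfl | rfl
    · exact Or.inl rfl
    · exact Or.inr rfl
    · exact absurd (h3.symm.trans h1) (ne_c h.toFv)
    · exact absurd (h2.symm.trans h3) (ne_c h.toFv)
  · rintro (rfl | rfl)
    · exact ⟨one_mem _, one_mem _⟩
    · exact ⟨(hN _).2 (Or.inr (Or.inl rfl)), mem_centralizer_iff.2 fun b hb => comm_iff.1 (h.T_a (hE hb))⟩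

/-- `|E : C_E(V_τ)| ≤ 2` -/
theorem rel_two {N E : Subgroup G} (hN : Tau p N) (hE : E ≤ Std.T S p) (hm : ¬ E ≤ centralizer (N : Set G)) :
    (centralizer (N : Set G)).relIndex E = 2 := by
  obtain ⟨e, he, hne⟩ := SetLike.not_le_iff_exists.1 hm
  have key : ∀ x ∈ E, ∀ y ∈ E, x ∉ centralizer (N : Set G) → y ∉ centralizer (N : Set G) →
      x * y ∈ centralizer (N : Set G) := by
    intro x hx y hy hx' hy'
    obtain ⟨h1, h2⟩ := T_sw h hN (hE hx) hx'
    obtain ⟨h3, h4⟩ := T_sw h hN (hE hy) hy'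
    have h5 := h.T_a (hE hx)
    have h6 := h.T_a (hE hy)
    refine mem_centralizer_iff.2 fun v hv => (comm_iff.1 ?_).symm
    rw [← cc]
    rcases (hN v).1 hv with rfl | rfl | rfl | rfl
    · simp
    · rw [h6, h5]
    · rw [h3, h2]
    · rw [h4, h1]
  rw [Subgroup.relIndex, index_eq_two_iff]
  refine ⟨⟨e, he⟩, fun b => ?_⟩
  rw [mem_subgroupOf, mem_subgroupOf]
  change Xor ((b : G) * e ∈ centralizer (N : Set G)) ((b : G) ∈ centralizer (N : Set G))
  by_cases hb : (b : G) ∈ centralizer (N : Set G)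
  · refine Or.inr ⟨hb, fun h4 => hne ?_⟩
    have := mul_mem (inv_mem hb) h4
    rwa [inv_mul_cancel_left] at this
  · exact Or.inl ⟨key _ b.2 _ he hb hne, hb⟩

/-- `[V_τ, E] ≤ ⟨aa p⟩` -/
theorem commIn {N E : Subgroup G} (hN : Tau p N) (hE : E ≤ Std.T S p) : CommIn E N (zpowers (aa p)) := by
  intro e he u hu
  rcases T_act h hN (hE he) with h1 | ⟨h1, h2⟩
  · rw [comm_iff.2 (h1 u hu), mul_inv_cancel]
    exact one_mem _
  · have h3 := h.T_a (hE he)
    have a1 : p 3 * p 4 * (p 2 * p 4)⁻¹ = aa p := by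
      rw [mul_inv_rev, h.pinv, h.pinv, mul_assoc, ← mul_assoc (p 4), h.sq, one_mul, h.comm 3 2]
    have a2 : p 2 * p 4 * (p 3 * p 4)⁻¹ = aa p := by
      rw [mul_inv_rev, h.pinv, h.pinv, mul_assoc, ← mul_assoc (p 4), h.sq, one_mul]
    rcases (hN u).1 hu with rfl | rfl | rfl | rfl
    · rw [mul_one, mul_inv_cancel, inv_one, mul_one]; exact one_mem _
    · rw [h3, mul_inv_cancel]; exact one_mem _
    · rw [h1, a1]; exact mem_zpowers _
    · rw [h2, a2]; exact mem_zpowers _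

/-- `aa p ∈ Z'` if `[V_τ, E] ≤ Z'` -/
theorem le_of_commIn {N E : Subgroup G} (hN : Tau p N) (hE : E ≤ Std.T S p) (hm : ¬ E ≤ centralizer (N : Set G))
    {Z' : Subgroup G} (hZ : CommIn E N Z') : zpowers (aa p) ≤ Z' := by
  obtain ⟨e, he, hne⟩ := SetLike.not_le_iff_exists.1 hm
  obtain ⟨h1, -⟩ := T_sw h hN (hE he) hne
  have a1 : p 3 * p 4 * (p 2 * p 4)⁻¹ = aa p := by
    rw [mul_inv_rev, h.pinv, h.pinv, mul_assoc, ← mul_assoc (p 4), h.sq, one_mul, h.comm 3 2]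
  have h2 := hZ e he (p 2 * p 4) ((hN _).2 (Or.inr (Or.inr (Or.inl rfl))))
  rw [h1, a1] at h2
  rwa [zpowers_le]

/-- `|⟨aa p⟩| = 2` -/
theorem card_aa : Nat.card (zpowers (aa p)) = 2 := by
  rw [Nat.card_zpowers, orderOf_eq_prime (p := 2) (by rw [sq]; exact h.asq) h.a_ne_one]

end std

section main

variable [Finite G] {S : Sylow 2 G} {P B ZJ : Subgroup G} {p : Fin 5 → G} {N : Subgroup G}

/-- **`X5` induces a 3-cycle on `V_τ`.** -/
theorem exists_rot (hp : FiveL S P p) (hN : Tau p N) : ∃ x ∈ X5 P (Std.T (S : Subgroup G) p) N p,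
    x * (p 2 * p 3) * x⁻¹ = p 3 * p 4 ∧ x * (p 3 * p 4) * x⁻¹ = p 2 * p 4 ∧ x * (p 2 * p 4) * x⁻¹ = p 2 * p 3 := by
  obtain ⟨σ, h0, h1, h2, h3, h4⟩ : ∃ σ : Equiv.Perm (Fin 5), σ 0 = 0 ∧ σ 1 = 1 ∧ σ 2 = 3 ∧ σ 3 = 4 ∧ σ 4 = 2 := by
    decide +kernel
  obtain ⟨g, hg, hσ⟩ := hp.std.full σ
  have hX : g ∈ P ⊓ centralizer ({nn p} : Set G) := by
    refine ⟨hg, mem_cent.2 ?_⟩
    rw [nn, cm, hσ, hσ, h0, h1]
  have hTX := T_le_PC hp.std
  have hNX := norm_N hp.std.toFv hN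
  have hnd := syl_not_dvd (Node.ELXUni.syl_T hp hTX inf_le_right)
  obtain ⟨l, hl, n, hn, e⟩ := MinSimple.LemXPerm.exists_frattini hTX (S.isPGroup'.to_le Std.T_le) hnd
    (hNX.trans (MinSimple.DBlkReduce.nc N)) hX
  refine ⟨n, hn, ?_⟩
  have key : ∀ x ∈ N, n * x * n⁻¹ = g * x * g⁻¹ := by
    intro x hx
    have h5 : n * x * n⁻¹ ∈ N := (mem_normalizer_iff.1 (hNX hn.1) x).1 hx
    have h6 := mem_centralizer_iff.1 hl _ h5
    rw [e]
    calc n * x * n⁻¹ = n * x * n⁻¹ * (l * l⁻¹) := by group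
      _ = (n * x * n⁻¹ * l) * l⁻¹ := by group
      _ = (l * (n * x * n⁻¹)) * l⁻¹ := by rw [h6]
      _ = l * n * x * (l * n)⁻¹ := by group
  rw [key _ ((hN _).2 (Or.inr (Or.inl rfl))), key _ ((hN _).2 (Or.inr (Or.inr (Or.inr rfl)))),
    key _ ((hN _).2 (Or.inr (Or.inr (Or.inl rfl))))]
  refine ⟨?_, ?_, ?_⟩
  · rw [cm, hσ, hσ, h2, h3]
  · rw [cm, hσ, hσ, h3, h4]; exact hp.std.comm _ _
  · rw [cm, hσ, hσ, h2, h4]; exact hp.std.comm _ _

/-- **`PartI.Sit` for one `S₅`.** -/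
theorem sitFive (hFF : StmtM.{u}) (hp : FiveL S P p) (hN : Tau p N) {Y H U : Subgroup G}
    (m : Loc S P (Std.T (S : Subgroup G) p) Y (zpowers (nn p)) H U) (hY : Y ≤ centralizer ({nn p} : Set G))
    (mv : ¬ Y ≤ centralizer (zc (Std.T (S : Subgroup G) p) : Set G))
    (hX : P ⊓ centralizer ({nn p} : Set G) ≤ H) (hU : zc (Std.T (S : Subgroup G) p) ≤ U) :
    Sit H U (Std.T (S : Subgroup G) p) (o2 P) N (zpowers (aa p)) (zpowers (nn p))
      (X5 P (Std.T (S : Subgroup G) p) N p) Y := by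
  have hs := hp.std
  have haU : aa p ∈ U := hU (hs.mem_zcT.2 (Or.inr (Or.inr (Or.inl rfl))))
  have haN : aa p ∈ N := (hN _).2 (Or.inr (Or.inl rfl))
  have hTX := T_le_PC hs
  have hXN := norm_N hs.toFv hN
  have hX5 : X5 P (Std.T (S : Subgroup G) p) N p ≤ P ⊓ centralizer ({nn p} : Set G) := inf_le_left
  obtain ⟨x, hx, hx1, hx2, hx3⟩ := exists_rot hp hN
  have hxH : x ∈ H := hX (hX5 hx)
  have hxU : ∀ u ∈ U, x * u * x⁻¹ ∈ U := fun u hu => (mem_normalizer_iff.1 (m.Un hxH) u).1 hu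
  have h34U : p 3 * p 4 ∈ U := hx1 ▸ hxU _ haU
  have h24U : p 2 * p 4 ∈ U := hx2 ▸ hxU _ h34U
  have NU : N ≤ U := fun u hu => by
    rcases (hN u).1 hu with rfl | rfl | rfl | rfl
    · exact one_mem _
    · exact haU
    · exact h24U
    · exact h34U
  have hNL : N ≤ zl (S : Subgroup G) P := by
    rw [hp.gen]
    have hm : ∀ i, p i ∈ closure (Set.range p) := fun i => subset_closure ⟨i, rfl⟩
    intro u hu
    rcases (hN u).1 hu with rfl | rfl | rfl | rfl
    · exact one_mem _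
    all_goals exact mul_mem (hm _) (hm _)
  have hTa : Std.T (S : Subgroup G) p ≤ centralizer (zpowers (aa p) : Set G) := fun b hb => by
    rw [mem_centralizer_iff]
    rintro _ ⟨n, rfl⟩
    have h1 : Commute b (aa p) := comm_iff.1 (hs.T_a hb)
    exact (h1.zpow_right n).eq.symm
  have hVU : ZN.zl (Std.T (S : Subgroup G) p) Y ≤ U := ZN.zl_le hU (m.YH.trans m.Un)
  have hcN : centralizer (N : Set G) ≤ centralizer (zpowers (aa p) : Set G) :=
    centralizer_le (by exact_mod_cast (zpowers_le.2 haN))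
  have TZ : Std.T (S : Subgroup G) p ≤ normalizer (zpowers (aa p) : Set G) :=
    hTa.trans (centralizer_le_normalizer _)
  have QZ : o2 P ≤ centralizer (zpowers (aa p) : Set G) := m.QT.trans hTa
  have hcard := card_aa hs
  exact
    { Uc := m.Uc
      Us := m.Us
      HU := m.Un
      TH := m.TH
      T2 := S.isPGroup'.to_le Std.T_le
      QT := m.QT
      TZ := TZ
      UT := m.UT
      NU := NU
      QN := by
        have h1 : N ≤ zc (o2 P) := by rw [m.cl.zc_eq]; exact hNL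
        exact (NO3S.Level.le_centralizer_zc _).trans (centralizer_le h1)
      ZN := zpowers_le.2 haN
      Zne := fun e => hs.a_ne_one (zpowers_eq_bot.1 e)
      card := by rw [hcard, card_N hs.toFv hN]; norm_num
      PH := hX5.trans hX
      TP := le_inf hTX (by
        have hc := (hTX.trans hXN).trans (MinSimple.DBlkReduce.nc N)
        intro t ht
        rw [mem_normalizer_iff]
        intro y
        rw [mem_inf, mem_inf, ← (mem_normalizer_iff.1 (le_normalizer ht) y), ← (mem_normalizer_iff.1 (hc ht) y)])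
      PN := hX5.trans hXN
      PQ := hX5.trans (inf_le_left.trans (ZN.le_normalizer_o2 P))
      PC := inf_le_right
      YH := m.YH
      TY := m.syl.1
      oY := ChoiceSit.o2_le_syl m.syl
      mv := fun hc => mv (by
        intro y hy
        have h2 : y * aa p * y⁻¹ ∈ zpowers (aa p) := (mem_normalizer_iff.1 (hc hy) _).1 (mem_zpowers _)
        have h3 : y * aa p * y⁻¹ = aa p := by
          rcases (mem_aa hs _).1 h2 with h2 | h2
          · exact absurd (conj_eq_one_iff.1 h2) hs.a_ne_one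
          · exact h2
        have h4 : y * nn p * y⁻¹ = nn p := mem_cent.1 (hY hy)
        refine mem_centralizer_iff.2 fun u hu => (comm_iff.1 ?_).symm
        rcases hs.mem_zcT.1 hu with rfl | rfl | rfl | rfl
        · simp
        · exact h4
        · exact h3
        · rw [← hs.na, cm, h4, h3])
      HL := m.HC
      fix := fun u hu => by
        rcases hs.mem_zcT.1 (m.cUT hu) with h1 | h1 | h1 | h1 <;> rw [h1]
        · exact one_mem _
        · exact mem_sup_right (mem_zpowers _)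
        · exact mem_sup_left (mem_zpowers _)
        · rw [← hs.an]
          exact mul_mem (mem_sup_left (mem_zpowers _)) (mem_sup_right (mem_zpowers _))
      noN := fun E hE _ hm => by
        rw [N_inf_cent hs hN hE hm, hcard, card_N hs.toFv hN]
        have h1 := NO3S.Fld.relIndex_mul_card E (centralizer (N : Set G))
        rw [rel_two hs hN hE hm] at h1
        omega
      lineN := fun E hE ho => ⟨N_inf_cent hs hN hE ho.ne, commIn hs hN hE, fun Z' hZ => le_of_commIn hs hN hE ho.ne hZ⟩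
      irrN := fun E hE ho K hK hKn => by
        obtain ⟨e, he, hne⟩ := SetLike.not_le_iff_exists.1 ho.ne
        obtain ⟨h1, h2⟩ := T_sw hs hN (hE he) hne
        have he1 : e ∈ normalizer (K : Set G) := hKn (le_cl E _ he)
        have he2 : x * e * x⁻¹ ∈ normalizer (K : Set G) := hKn (cj_le_cl hx ⟨e, he, rfl⟩)
        have k1 : ∀ u ∈ K, e * u * e⁻¹ ∈ K := fun u hu => (mem_normalizer_iff.1 he1 u).1 hu
        have k2 : ∀ u ∈ K, x * e * x⁻¹ * u * (x * e * x⁻¹)⁻¹ ∈ K := fun u hu => (mem_normalizer_iff.1 he2 u).1 hu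
        have e1 : x * e * x⁻¹ * (p 2 * p 3) * (x * e * x⁻¹)⁻¹ = p 2 * p 4 := by
          calc x * e * x⁻¹ * (p 2 * p 3) * (x * e * x⁻¹)⁻¹ = x * (e * (x⁻¹ * (p 2 * p 3) * x) * e⁻¹) * x⁻¹ := by group
            _ = x * (e * (p 2 * p 4) * e⁻¹) * x⁻¹ := by rw [← hx3]; group
            _ = p 2 * p 4 := by rw [h1, hx2]
        have e2 : x * e * x⁻¹ * (p 2 * p 4) * (x * e * x⁻¹)⁻¹ = p 2 * p 3 := by
          calc x * e * x⁻¹ * (p 2 * p 4) * (x * e * x⁻¹)⁻¹ = x * (e * (x⁻¹ * (p 2 * p 4) * x) * e⁻¹) * x⁻¹ := by group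
            _ = x * (e * (p 3 * p 4) * e⁻¹) * x⁻¹ := by rw [← hx2]; group
            _ = p 2 * p 3 := by rw [h2, hx3]
        by_cases hK0 : K = ⊥
        · exact Or.inl hK0
        right
        refine le_antisymm hK ?_
        have hall : p 2 * p 3 ∈ K ∧ p 2 * p 4 ∈ K ∧ p 3 * p 4 ∈ K := by
          obtain ⟨⟨u, hu⟩, hu1⟩ := Subgroup.ne_bot_iff_exists_ne_one.1 hK0
          have hu2 : u ≠ 1 := fun e => hu1 (Subtype.ext e)
          rcases (hN u).1 (hK hu) with rfl | rfl | rfl | rfl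
          · exact absurd rfl hu2
          · have a1 : p 2 * p 4 ∈ K := by have := k2 _ hu; rwa [e1] at this
            have a2 : p 3 * p 4 ∈ K := by have := k1 _ a1; rwa [h1] at this
            exact ⟨hu, a1, a2⟩
          · have a1 : p 2 * p 3 ∈ K := by have := k2 _ hu; rwa [e2] at this
            have a2 : p 3 * p 4 ∈ K := by have := k1 _ hu; rwa [h1] at this
            exact ⟨a1, hu, a2⟩
          · have a1 : p 2 * p 4 ∈ K := by have := k1 _ hu; rwa [h2] at this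
            have a2 : p 2 * p 3 ∈ K := by have := k2 _ a1; rwa [e2] at this
            exact ⟨a2, a1, hu⟩
        intro u hu
        rcases (hN u).1 hu with rfl | rfl | rfl | rfl
        · exact one_mem _
        · exact hall.1
        · exact hall.2.1
        · exact hall.2.2
      oneY := oneY_of hFF m.Uc m.Us m.Un m.syl m.min m.c2 mv m.YH hVU m.QT QZ m.nQ TZ }

end main

end Cfsg.Agent.Omega.CaseLQ.SitFive

end

section


/-!
# NoW, `q = 2`: the facts on the block `L j` for the instance of `Sit`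

* over `h : FB B L W Z 2`, `hZ : |Z| = 2`: `card_W`, `cent_E`, `noN`, `lineN`, `irrN`, `norm_C`, `W_le`;
* over `MulL .. 2`: `Lam`, `ZJ_eq` (`Ω₁Z(B) = Z j Λ`), `L_norm_Q`, `L_cent`, `not_norm`;
* `gen`.
-/

set_option autoImplicit false
set_option linter.unusedSectionVars false

namespace Cfsg.Agent.Omega.CaseLQ.InstB

open Subgroup Cfsg Cfsg.Agent.ZN Cfsg.Agent.ZN.ChoiceBase Cfsg.Agent.ZN.ChoiceSit
open Cfsg.Agent.Omega.OM.Uni (Md FB)
open Cfsg.Agent.Omega.FFThm (OffM ElemM)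
open Cfsg.Agent.Omega.NO3b.EZero (cl cj_le_cl le_cl cl_le)
open Cfsg.Agent.Omega.Node.MulX (MulL)

universe u

variable {G : Type u} [Group G]

section fb

variable {B L W Z : Subgroup G} (h : FB B L W Z 2)
include h

theorem card_W (hZ : Nat.card Z = 2) : Nat.card W = 4 := by rw [h.card, hZ]

theorem exists_mv {E : Subgroup G} (hne : ¬ E ≤ centralizer (W : Set G)) : ∃ e ∈ E, ¬ ∀ u ∈ W, e * u = u * e := by
  by_contra hcon
  push Not at hcon
  exact hne fun e he => mem_centralizer_iff.2 fun u hu => (hcon e he u hu).symm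

/-- `C_W(E) = Z` for every `E ≤ B` which moves `W` -/
theorem cent_E {E : Subgroup G} (hE : E ≤ B) (hne : ¬ E ≤ centralizer (W : Set G)) :
    W ⊓ centralizer (E : Set G) = Z := by
  obtain ⟨e, he, hne'⟩ := exists_mv h hne
  apply le_antisymm
  · rintro v ⟨hv, hvc⟩
    exact h.mem_Z (hE he) hne' hv (mem_centralizer_iff.1 hvc e he)
  · exact le_inf h.ZV fun z hz => mem_centralizer_iff.2 fun e he => h.cZ e (hE he) z hz

/-- **`noN`** -/
theorem noN [Finite G] (hZ : Nat.card Z = 2) : ∀ E ≤ B, ElemM W E → ¬ E ≤ centralizer (W : Set G) →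
    Nat.card E * Nat.card ↥(W ⊓ centralizer (E : Set G)) ≤ Nat.card W * Nat.card ↥(E ⊓ centralizer (W : Set G)) := by
  intro E hE _ hne
  rw [cent_E h hE hne, card_W h hZ, hZ]
  have h1 := h.card_le hE
  omega

theorem eq_of_mem (hZ : Nat.card Z = 2) {z x : G} (hz : z ∈ Z) (z1 : z ≠ 1) (hx : x ∈ Z) : x = 1 ∨ x = z := by
  have hf : Finite Z := Nat.finite_of_card_ne_zero (by omega)
  by_contra hcon
  push Not at hcon
  have h1 : ({1, z, x} : Set G) ⊆ (Z : Set G) := by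
    rintro y (rfl | rfl | rfl)
    · exact one_mem _
    · exact hz
    · exact hx
  have h4 : ({1, z, x} : Set G).ncard = 3 := by
    rw [Set.ncard_eq_three]
    exact ⟨1, z, x, z1.symm, fun e => hcon.1 e.symm, fun e => hcon.2 e.symm, rfl⟩
  have h5 := Set.ncard_le_ncard h1 (Set.toFinite (Z : Set G))
  rw [h4] at h5
  have h6 : (Z : Set G).ncard = Nat.card Z := rfl
  omega

/-- **`lineN`** -/
theorem lineN (hZ : Nat.card Z = 2) : ∀ E ≤ B, OffM W E → W ⊓ centralizer (E : Set G) = Z ∧ CommIn E W Z ∧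
    ∀ Z' : Subgroup G, CommIn E W Z' → Z ≤ Z' := by
  intro E hE ho
  refine ⟨cent_E h hE ho.ne, fun e he u hu => h.com e (hE he) u hu, fun Z' hZ' z hz => ?_⟩
  obtain ⟨e, he, hne'⟩ := exists_mv h ho.ne
  push Not at hne'
  obtain ⟨u, hu, hne⟩ := hne'
  have h1 := hZ' e he u hu
  have h2 := h.com e (hE he) u hu
  have h3 : e * u * e⁻¹ * u⁻¹ ≠ 1 := fun h0 => hne (by
    have : e * u = (e * u * e⁻¹ * u⁻¹) * (u * e) := by group
    rw [this, h0, one_mul])
  rcases eq_of_mem h hZ h2 h3 hz with rfl | rfl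
  · exact one_mem _
  · exact h1

theorem W_le_sup : ∃ l ∈ L, W ≤ Z ⊔ cj l Z := by
  obtain ⟨l, hl, hs⟩ := h.sup
  have h1 : ⁅W, B⁆ ≤ Z := h.comm_le le_rfl
  exact ⟨l, hl, hs.trans (sup_le (h1.trans le_sup_left) ((cj_mono l h1).trans le_sup_right))⟩

/-- **`irrN`** -/
theorem irrN [Finite G] (hZ : Nat.card Z = 2) : ∀ E ≤ B, OffM W E → ∀ K ≤ W, cl E L ≤ normalizer (K : Set G) →
    K = ⊥ ∨ K = W := by
  intro E hE ho K hK hn
  obtain ⟨l, hl, hs⟩ := W_le_sup h
  have hW := card_W h hZ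
  have hd : Nat.card K ∣ 4 := hW ▸ Subgroup.card_dvd_of_le hK
  have hle : Nat.card K ≤ 4 := Nat.le_of_dvd (by norm_num) hd
  have hpos : 0 < Nat.card K := Nat.card_pos
  by_cases h1 : Nat.card K = 1
  · exact Or.inl (Subgroup.card_eq_one.1 h1)
  by_cases h4 : Nat.card K = 4
  · exact Or.inr (Subgroup.eq_of_le_of_card_ge hK (by rw [hW, h4]))
  exfalso
  have h2 : Nat.card K = 2 := by
    have h3 : Nat.card K ≠ 3 := fun h3 => by rw [h3] at hd; omega
    omega
  obtain ⟨x, hx, hx1⟩ : ∃ x ∈ K, x ≠ 1 := by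
    by_contra hcon
    push Not at hcon
    have : K = ⊥ := (Subgroup.eq_bot_iff_forall K).2 hcon
    rw [this, Subgroup.card_bot] at h2
    omega
  -- `⟨E^L⟩` centralises `x`
  have hfix : ∀ g ∈ cl E L, g * x * g⁻¹ = x := by
    intro g hg
    have h3 : g * x * g⁻¹ ∈ K := (mem_normalizer_iff.1 (hn hg) x).1 hx
    by_contra hne
    have h5 : g * x * g⁻¹ ≠ 1 := fun h0 => hx1 (by
      have : x = g⁻¹ * (g * x * g⁻¹) * g := by group
      rw [this, h0]; group)
    have h6 : ({1, x, g * x * g⁻¹} : Set G) ⊆ (K : Set G) := by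
      rintro y (rfl | rfl | rfl)
      · exact one_mem _
      · exact hx
      · exact h3
    have h7 : ({1, x, g * x * g⁻¹} : Set G).ncard = 3 := by
      rw [Set.ncard_eq_three]
      exact ⟨1, x, _, hx1.symm, h5.symm, fun e => hne e.symm, rfl⟩
    have h8 := Set.ncard_le_ncard h6 (Set.toFinite _)
    rw [h7] at h8
    have h9 : (K : Set G).ncard = Nat.card K := rfl
    omega
  have hcomm : ∀ g ∈ cl E L, g * x = x * g := fun g hg => mul_inv_eq_iff_eq_mul.1 (hfix g hg)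
  -- `x ∈ Z`
  have hxZ : x ∈ Z := by
    rw [← cent_E h hE ho.ne]
    exact ⟨hK hx, mem_centralizer_iff.2 fun e he => hcomm e (le_cl E L he)⟩
  -- `x ∈ cj l Z`
  have hxl : l⁻¹ * x * l ∈ Z := by
    rw [← cent_E h hE ho.ne]
    refine ⟨h.nV' hl (hK hx), mem_centralizer_iff.2 fun e he => ?_⟩
    have h3 := hcomm (l * e * l⁻¹) (cj_le_cl hl ⟨e, he, rfl⟩)
    calc e * (l⁻¹ * x * l) = l⁻¹ * ((l * e * l⁻¹) * x) * l := by group
      _ = l⁻¹ * (x * (l * e * l⁻¹)) * l := by rw [h3]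
      _ = l⁻¹ * x * l * e := by group
  -- so `cj l Z = Z`
  have hZZ : cj l Z ≤ Z := by
    rintro _ ⟨z, hz, rfl⟩
    have hne : l⁻¹ * x * l ≠ 1 := fun h0 => hx1 (by
      have : x = l * (l⁻¹ * x * l) * l⁻¹ := by group
      rw [this, h0]; group)
    rcases eq_of_mem h hZ hxl hne hz with rfl | rfl
    · simp
    · have : (MulEquiv.toMonoidHom (MulAut.conj l)) (l⁻¹ * x * l) = x := by
        simp only [MulEquiv.coe_toMonoidHom, MulAut.conj_apply]
        group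
      rw [this]
      exact hxZ
  have h3 := Subgroup.card_le_of_le (hs.trans (sup_le le_rfl hZZ))
  omega

/-- **`C_B(W)` is normal in `L`** -/
theorem norm_C [Finite G] : L ≤ normalizer ((B ⊓ centralizer (W : Set G) : Subgroup G) : Set G) := by
  have key : ∀ l ∈ L, cj l (B ⊓ centralizer (W : Set G)) ≤ B ⊓ centralizer (W : Set G) := by
    rintro l hl _ ⟨x, ⟨hx, hxc⟩, rfl⟩
    simp only [MulEquiv.coe_toMonoidHom, MulAut.conj_apply]
    refine ⟨h.cor l hl x hx fun v hv => (mem_centralizer_iff.1 hxc v hv).symm, mem_centralizer_iff.2 fun v hv => ?_⟩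
    have h1 := mem_centralizer_iff.1 hxc _ (h.nV' hl hv)
    calc v * (l * x * l⁻¹) = l * ((l⁻¹ * v * l) * x) * l⁻¹ := by group
      _ = l * (x * (l⁻¹ * v * l)) * l⁻¹ := by rw [h1]
      _ = l * x * l⁻¹ * v := by group
  intro l hl
  exact mem_normalizer_of_cj_le (key l hl)

theorem L_norm_W [Finite G] : L ≤ normalizer (W : Set G) := fun l hl => mem_normalizer_of_cj_le (by
  rintro _ ⟨x, hx, rfl⟩
  exact h.nV l hl x hx)

/-- `W ≤ U` if `Z ≤ U` and `L` normalises `U` -/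
theorem W_le {U : Subgroup G} (hZU : Z ≤ U) (hLU : L ≤ normalizer (U : Set G)) : W ≤ U := by
  obtain ⟨l, hl, hs⟩ := W_le_sup h
  refine hs.trans (sup_le hZU ?_)
  have h1 := cj_mono l hZU
  rwa [cj_eq_of_mem_normalizer (hLU hl)] at h1

end fb

section mul

variable [Finite G] {S : Sylow 2 G} {P B ZJ : Subgroup G} {k : ℕ} {L W Z C A : Fin k → Subgroup G}

/-- `Λ = ⟨Z l : l ≠ j⟩` -/
def Lam (Z : Fin k → Subgroup G) (j : Fin k) : Subgroup G := ⨆ l ∈ {l | l ≠ j}, Z l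

theorem Z_le_Lam {Z : Fin k → Subgroup G} {j l : Fin k} (hl : l ≠ j) : Z l ≤ Lam Z j :=
  le_iSup₂_of_le (f := fun l (_ : l ∈ {l | l ≠ j}) => Z l) l hl le_rfl

theorem Lam_le {Z : Fin k → Subgroup G} {j : Fin k} {X : Subgroup G} (h : ∀ l, l ≠ j → Z l ≤ X) : Lam Z j ≤ X :=
  iSup₂_le fun l hl => h l hl

variable (h : MulL S P B ZJ L W Z C A 2)
include h

theorem ZJ_le_sup : ZJ = ⨆ i, Z i := by
  classical
  refine le_antisymm (fun z hz => ?_) (iSup_le h.fr.Z_le)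
  have key : ∀ s : Finset (Fin k), ∃ u ∈ ⨆ i, Z i, ∀ i ∈ s, u⁻¹ * z ∈ C i := by
    intro s
    induction s using Finset.induction_on with
    | empty => exact ⟨1, one_mem _, by simp⟩
    | insert i s hi ih =>
      obtain ⟨u, hu, hus⟩ := ih
      have huJ : u ∈ ZJ := (iSup_le h.fr.Z_le : (⨆ i, Z i) ≤ ZJ) hu
      obtain ⟨w, hw, c, hc, hcJ, e⟩ := h.fr.split_ZJ i (mul_mem (inv_mem huJ) hz)
      refine ⟨u * w, mul_mem hu (mem_iSup_of_mem i hw), fun l hl => ?_⟩
      rcases Finset.mem_insert.1 hl with rfl | hl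
      · have e1 : (u * w)⁻¹ * z = c := by
          calc (u * w)⁻¹ * z = w⁻¹ * (u⁻¹ * z) := by group
            _ = w⁻¹ * (w * c) := by rw [e]
            _ = c := by group
        rw [e1]; exact hc
      · have hli : l ≠ i := fun e => hi (e ▸ hl)
        have e2 : (u * w)⁻¹ * z = w⁻¹ * (u⁻¹ * z) := by group
        rw [e2]
        exact mul_mem (inv_mem (h.fr.WjC l i hli ((h.fr.blk i).ZV hw))) (hus l hl)
  obtain ⟨u, hu, hus⟩ := key Finset.univ
  have huJ : u ∈ ZJ := (iSup_le h.fr.Z_le : (⨆ i, Z i) ≤ ZJ) hu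
  have h1 : u⁻¹ * z = 1 := h.fr.C0 _ (h.fr.ZJV (mul_mem (inv_mem huJ) hz)) fun i => hus i (Finset.mem_univ i)
  rw [← inv_mul_eq_one.1 h1]
  exact hu

/-- **`Ω₁Z(B) = Z j Λ`** -/
theorem zcB_eq (j : Fin k) : zc B = Z j ⊔ Lam Z j := by
  rw [h.fr.zcB, ZJ_le_sup h]
  refine le_antisymm (iSup_le fun i => ?_) (sup_le (le_iSup Z j) (Lam_le fun l _ => le_iSup Z l))
  by_cases hi : i = j
  · rw [hi]; exact le_sup_left
  · exact (Z_le_Lam hi).trans le_sup_right

theorem Lam_le_ZJ (j : Fin k) : Lam Z j ≤ ZJ := Lam_le fun l _ => h.fr.Z_le l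

/-- `L j` normalises `Q` -/
theorem L_norm_Q (j : Fin k) : L j ≤ normalizer (o2 P : Set G) := fun l hl => mem_normalizer_of_cj_le (by
  rintro _ ⟨x, hx, rfl⟩
  exact h.fr.LQ j l hl x hx)

/-- `L j` centralises `Λ` -/
theorem L_cent (j : Fin k) : L j ≤ centralizer (Lam Z j : Set G) := by
  rw [le_centralizer_iff]
  refine Lam_le fun l hl z hz => mem_centralizer_iff.2 fun x hx => ?_
  exact h.fr.LC j x hx z (h.fr.Z_le l hz) (h.fr.WjC j l hl.symm ((h.fr.blk l).ZV hz))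

/-- `Y` moves `Z j` -/
theorem not_norm {j : Fin k} {Y : Subgroup G} (hY : ∀ l, l ≠ j → Y ≤ centralizer (Z l : Set G))
    (hm : ¬ Y ≤ centralizer (zc B : Set G)) : ¬ Y ≤ normalizer (Z j : Set G) := by
  intro hn
  apply hm
  rw [zcB_eq h j, le_centralizer_iff]
  refine sup_le (fun z hz => mem_centralizer_iff.2 fun y hy => ?_) (Lam_le fun l hl => le_centralizer_iff.1 (hY l hl))
  by_cases z1 : z = 1
  · rw [z1]; simp
  have h1 : y * z * y⁻¹ ∈ Z j := (mem_normalizer_iff.1 (hn hy) z).1 hz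
  rcases eq_of_mem (h.fr.blk j) (h.fr.cardZ j) hz z1 h1 with h2 | h2
  · exfalso
    apply z1
    calc z = y⁻¹ * (y * z * y⁻¹) * y := by group
      _ = 1 := by rw [h2]; group
  · exact mul_inv_eq_iff_eq_mul.1 h2

end mul

/-- **the hypothesis `gen` of `SitC.exists_E`** -/
theorem gen [Finite G] {B X Y A : Subgroup G} (hA : A ≤ B) (hX : X ≤ normalizer (A : Set G))
    (hY : Y ≤ normalizer (A : Set G)) : A ≤ centralizer (zl B (X ⊔ Y) : Set G) := by
  rw [le_centralizer_iff]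
  refine ZN.zl_le ?_ ((sup_le hX hY).trans (normalizer_le_of_cj (F := fun T => centralizer (T : Set G))
    (fun g T => (cj_centralizer g T).symm) A))
  rw [← le_centralizer_iff]
  exact hA.trans (NO3S.Level.le_centralizer_zc _)

end Cfsg.Agent.Omega.CaseLQ.InstB

end
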