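import Cfsg.Agent.Mrg.Omega.CaseLQ.PsiBg
import Cfsg.Agent.Mrg.Omega.CaseLQ.OneY
import Cfsg.Agent.Mrg.Omega.NO3S.WY.Loc
import Cfsg.Agent.Mrg.Omega.NO3S.WY.Tor.Lit
import Cfsg.Agent.Mrg.Omega.FrameI
import Cfsg.Agent.Mrg.Omega.EK3.Base
import Cfsg.Agent.Mrg.Omega.CaseLQ.Inst
import Cfsg.Agent.Mrg.Omega.CaseLQ.PartI
import Cfsg.Agent.Mrg.Omega.NO3S.CaseLW.Lam
import Cfsg.Agent.Mrg.Omega.CaseLQ.YBase
import Cfsg.Agent.Mrg.Omega.NO3S.EThree.Frame
import Cfsg.Agent.Mrg.Omega.CaseLQ.KSh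
import Cfsg.Agent.Mrg.Omega.CaseLQ.FamOf
import Cfsg.Agent.Mrg.Omega.CaseLQ.TwoFr
import Cfsg.Agent.Mrg.Omega.NO3S.WY.FinDone

section


/-!
# CaseL, weird `Y`, `q = 2`: the instance of `LMd` and `Sit` over `MulX.MulL .. 2` (#24136 (0), (i))

`Λ = ⟨Z l : l ≠ j⟩`, `H = ⟨L j, Y⟩`, `U = ⟨Ω₁(Z(B))^H⟩`.

* `Lam`, `Lam_le`, `Lam_ne`, `Y_Lam`, `L_Lam`, `syl_Lam` : `B` is a Sylow 2-subgroup of `C_G(Λ)`;
* `lmd` : `LMd S P B Y Λ H U`;
* `exists_inst` : the literal of helper459 (#26523).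
-/

set_option autoImplicit false
set_option linter.unusedSectionVars false

namespace Cfsg.Agent.Omega.CaseLQ.InstTwo

open Subgroup Cfsg Cfsg.Agent.ZN Cfsg.Agent.ZN.ChoiceBase Cfsg.Agent.Omega.MinPar Cfsg.Agent.Omega.Frame
open Cfsg.Agent.ZN.ChoiceSit (Syl)
open Cfsg.Agent.MinSimple.MinParabolic (IsMinPar)
open Cfsg.Agent.Omega.NO3S.Level
open Cfsg.Agent.Omega.NO3S.RedC
open Cfsg.Agent.Omega.NO3S.WY
open Cfsg.Agent.Omega.NO1.BestOff (Best)
open Cfsg.Agent.Omega.FFThm (OffM ElemM NoOverM)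
open Cfsg.Agent.Omega.Node.MulX (MulL)
open Cfsg.Agent.Omega.NO3S.EThree.Frame (Bg Fg)
open Cfsg.Agent.Omega.OM
open Cfsg.Agent.Omega.OM.Uni (FB)

universe u

variable {G : Type u} [Group G] [Finite G] {S : Sylow 2 G} {P B ZJ₀ : Subgroup G} {k : ℕ}
  {L W Z C A : Fin k → Subgroup G} {j : Fin k} {Y : Subgroup G}

/-- `Λ_j = ⟨Z l : l ≠ j⟩` -/
abbrev Lam (Z : Fin k → Subgroup G) (j : Fin k) : Subgroup G := ⨆ l ∈ {l : Fin k | l ≠ j}, Z l

theorem Lam_le_of {X : Subgroup G} (h : ∀ l, l ≠ j → Z l ≤ X) : Lam Z j ≤ X := iSup₂_le fun l hl => h l hl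

theorem Z_le_Lam {l : Fin k} (hl : l ≠ j) : Z l ≤ Lam Z j := le_iSup₂ (f := fun l (_ : l ∈ {l : Fin k | l ≠ j}) => Z l) l hl

theorem cent_Lam {X : Subgroup G} (h : ∀ l, l ≠ j → X ≤ centralizer (Z l : Set G)) : X ≤ centralizer (Lam Z j : Set G) := by
  rw [le_centralizer_iff]
  exact Lam_le_of fun l hl => le_centralizer_iff.1 (h l hl)

section any

variable {q : ℕ} (h : MulL S P B ZJ₀ L W Z C A q)
include h

theorem Lam_le : Lam Z j ≤ ZJ₀ := Lam_le_of fun l _ => h.fr.Z_le l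

theorem Lam_ne : Lam Z j ≠ ⊥ := by
  obtain ⟨l, hl⟩ : ∃ l : Fin k, l ≠ j := h.bg.two j
  exact fun e => h.bg.Z_ne l (le_bot_iff.1 (e ▸ Z_le_Lam hl))

theorem L_Lam : L j ≤ centralizer (Lam Z j : Set G) := cent_Lam fun l hl => fun x hx =>
  mem_centralizer_iff.2 fun z hz =>
    (h.fr.LC j x hx z (h.fr.Z_le l hz) (h.fr.WjC j l (Ne.symm hl) ((h.fr.blk l).ZV hz))).symm

theorem LQ : L j ≤ normalizer (o2 P : Set G) := fun x hx => mem_normalizer_of_cj_le fun y hy => by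
  obtain ⟨z, hz, rfl⟩ := hy
  exact h.fr.LQ j x hx z hz

end any

omit [Finite G] in
/-- the normaliser of a group of order 2 centralises it -/
theorem normalizer_le_of_two {X : Subgroup G} (hX : Nat.card X = 2) : normalizer (X : Set G) ≤ centralizer (X : Set G) := by
  intro r hr
  rw [mem_centralizer_iff]
  intro z hz
  obtain ⟨y, hy, huniq⟩ := (Nat.card_eq_two_iff' (1 : X)).1 hX
  have h1 : r * z * r⁻¹ ∈ X := (mem_normalizer_iff.1 hr z).1 hz
  by_cases hz1 : z = 1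
  · rw [hz1]; group
  have e1 := huniq ⟨z, hz⟩ fun e => hz1 (congrArg Subtype.val e)
  have e2 := huniq ⟨r * z * r⁻¹, h1⟩ fun e => hz1 (by
    have h2 : r * z * r⁻¹ = 1 := congrArg Subtype.val e
    have h3 : z = r⁻¹ * (r * z * r⁻¹) * r := by group
    rw [h3, h2]; group)
  have e3 : r * z * r⁻¹ = z := congrArg Subtype.val (e2.trans e1.symm)
  exact (mul_inv_eq_iff_eq_mul.1 e3).symm

/-- a 2-group over `B` in `C_G(Z l : l ≠ j)` centralises `Z_J` (`q = 2`) -/
theorem le_cent_ZJ (h : MulL S P B ZJ₀ L W Z C A 2) {R : Subgroup G} (hR : IsPGroup 2 R) (hB : B ≤ R)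
    (hc : ∀ l, l ≠ j → R ≤ centralizer (Z l : Set G)) : R ≤ centralizer (ZJ₀ : Set G) := by
  have hRB : R ≤ normalizer (B : Set G) := h.bg.le_norm_B hR hB
  have hR' : ∀ l, R ≤ centralizer (Z l : Set G) := by
    intro l
    by_cases hlj : l = j
    · subst hlj
      intro r hr
      have hl : ∀ m, m ≠ l → cj r (Z m) = Z m := fun m hm =>
        cj_eq_of_mem_normalizer (centralizer_le_normalizer _ (hc m hm hr))
      obtain ⟨m, hm, -⟩ := (h.bg.nrm r (hRB hr)).2 l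
      have hml : m = l := by
        by_contra hml
        have h1 : cj r (Z l) = cj r (Z m) := by rw [hm, hl m hml]
        exact hml (h.bg.Z_inj (Subgroup.map_injective (MulEquiv.injective _) h1)).symm
      rw [hml] at hm
      exact normalizer_le_of_two (h.fr.cardZ l) (mem_normalizer_iff_cj.2 hm)
    · exact hc l hlj
  rw [le_centralizer_iff]
  exact (EK3.ZJ_le h.bg).trans (iSup_le fun l => le_centralizer_iff.1 (hR' l))

/-- `B` is a Sylow 2-subgroup of `C_G(Λ)` -/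
theorem syl_Lam (h : MulL S P B ZJ₀ L W Z C A 2) : Syl B (centralizer (Lam Z j : Set G)) := by
  refine ⟨?_, h.bg.bau_two, fun R hRL hR hBR => ?_⟩
  · exact (h.bg.syl_B.1).trans (centralizer_le (Lam_le h))
  · refine h.bg.syl_B.2.2 R (le_cent_ZJ (j := j) h hR hBR fun l hl => ?_) hR hBR
    exact hRL.trans (centralizer_le (Z_le_Lam hl))

section weird

variable (h : MulL S P B ZJ₀ L W Z C A 2) (w : WJ S P B Z j Y)
include h w

theorem Y_Lam : Y ≤ centralizer (Lam Z j : Set G) := cent_Lam w.cen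

theorem BB_eq : BB (S : Subgroup G) P = B := h.eqB.symm

theorem lmd : LMd S P B Y (Lam Z j) (L j ⊔ Y) (ZN.zl B (L j ⊔ Y)) :=
  LMd.zl w.toWY (BB_eq h w).le ((Lam_le h).trans h.eZ.le) (Lam_ne h) (syl_Lam h)
    ((h.fr.blk j).BL.trans le_sup_left) le_sup_right
    (sup_le ((h.bg.LP j).trans w.P_le) w.Y_le) (sup_le (L_Lam h) (Y_Lam h w))

/-- **The situation** of `PartI`, with `X = L j`. -/
theorem sit (hFF : Omega.FFThm.StmtM.{u}) :
    Sit (L j ⊔ Y) (ZN.zl B (L j ⊔ Y)) B (o2 P) (W j) (Z j) (Lam Z j) (L j) Y := by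
  have m := (lmd h w).toLoc
  have fb := h.fr.blk j
  have cz := h.fr.cardZ j
  have VU : ZN.zl B Y ≤ ZN.zl B (L j ⊔ Y) :=
    ZN.zl_le (ChoiceSit.zc_le_zl _ _) ((le_sup_right : Y ≤ L j ⊔ Y).trans (ZN.le_normalizer_zl _ _))
  have QW : o2 P ≤ centralizer (W j : Set G) := fun x hx =>
    mem_centralizer_iff.2 fun v hv => (h.bg.fr.cQ hx (h.fr.WV j hv)).symm
  have QZ : o2 P ≤ centralizer (Z j : Set G) := QW.trans (centralizer_le fb.ZV)
  have BZ : B ≤ normalizer (Z j : Set G) := by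
    have h1 : B ≤ centralizer (Z j : Set G) := fun b hb => mem_centralizer_iff.2 fun z hz => (fb.cZ b hb z hz).symm
    exact h1.trans (centralizer_le_normalizer _)
  have zU : Z j ≤ ZN.zl B (L j ⊔ Y) := by
    refine le_trans ?_ (ChoiceSit.zc_le_zl B (L j ⊔ Y))
    rw [InstB.zcB_eq h j]
    exact le_sup_left
  exact
    { Uc := m.Uc
      Us := m.Us
      HU := m.Un
      TH := m.TH
      T2 := h.bg.bau_two
      QT := h.bg.fr.QB
      TZ := BZ
      UT := m.UT
      NU := InstB.W_le fb zU (le_sup_left.trans m.Un)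
      QN := QW
      ZN := fb.ZV
      Zne := h.bg.Z_ne j
      card := by
        rw [InstB.card_W fb cz, cz]
        norm_num
      PH := le_sup_left
      TP := fb.BL
      PN := InstB.L_norm_W fb
      PQ := InstB.L_norm_Q h j
      PC := InstB.norm_C fb
      YH := le_sup_right
      TY := m.syl.1
      oY := ChoiceSit.o2_le_syl m.syl
      mv := InstB.not_norm h w.cen w.mv
      HL := m.HC
      fix := m.cUT.trans (InstB.zcB_eq h j).le
      noN := InstB.noN fb cz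
      lineN := InstB.lineN fb cz
      irrN := InstB.irrN fb cz
      oneY := oneY_of hFF m.Uc m.Us m.Un m.syl m.min m.c2 w.mv le_sup_right VU h.bg.fr.QB QZ m.nQ BZ }

/-- **The instance**, `q = 2`. -/
theorem exists_E (hFF : Omega.FFThm.StmtM.{u}) :
    W j ≤ ZN.zl B (L j ⊔ Y) ∧ Lam Z j ≤ ZN.zl B (L j ⊔ Y) ∧
      (∀ E ≤ B, MaxMin (ZN.zl B (L j ⊔ Y)) (L j ⊔ Y) E → E ≤ centralizer (W j : Set G)) ∧
        ∃ E, E ≤ B ∧ MaxMin (ZN.zl B (L j ⊔ Y)) (L j ⊔ Y) E ∧ ¬ E ≤ o2 Y := by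
  have m := lmd h w
  have s := sit h w hFF
  have hT : Syl B (L j ⊔ Y) :=
    ⟨m.TH, h.bg.bau_two, fun R hR hp hBR => (syl_Lam (j := j) h).2.2 R (hR.trans m.HC) hp hBR⟩
  have hoff : ∃ A ≤ L j ⊔ Y, OffM (ZN.zl B (L j ⊔ Y)) A := by
    obtain ⟨E, hE, hb, hne⟩ := m.exists_best fun A hA hP => by
      obtain ⟨t, ht, hn⟩ := TwoN.hN_of h.bg j hA hP
      exact ⟨t, ht, fun hc => hn (hc.trans (centralizer_le s.NU))⟩
    exact ⟨E, hE.trans m.TH, hb.offM le_rfl hne⟩
  obtain ⟨h1, E, hm, hE, hEY⟩ := (s.toC m.wq.syl).exists_E hT hoff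
    fun A hA _ hX hY => InstB.gen hA hX hY
  refine ⟨s.NU, ?_, fun E hE hm => h1 E hm hE, E, hE, hm, hEY⟩
  refine le_trans ?_ (ChoiceSit.zc_le_zl B (L j ⊔ Y))
  rw [InstB.zcB_eq h j]
  exact le_sup_right

end weird

/-- **helper459 (#26523)** -/
theorem exists_inst (h : MulL S P B ZJ₀ L W Z C A 2) (_hk : 2 ≤ k) (hFF : Omega.FFThm.StmtM.{u})
    (wj : WJ S P B Z j Y) : ∃ H U : Subgroup G,
      LMd S P B Y (⨆ l ∈ {l | l ≠ j}, Z l) H U ∧ W j ≤ U ∧ (⨆ l ∈ {l | l ≠ j}, Z l) ≤ U ∧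
        (∀ E ≤ B, MaxMin U H E → E ≤ centralizer (W j : Set G)) ∧ ∃ E, E ≤ B ∧ MaxMin U H E ∧ ¬ E ≤ o2 Y :=
  ⟨L j ⊔ Y, ZN.zl B (L j ⊔ Y), lmd h wj, exists_E h wj hFF⟩

/-- the same with `L j ≤ H` (helper602) -/
theorem exists_instL (h : MulL S P B ZJ₀ L W Z C A 2) (_hk : 2 ≤ k) (hFF : Omega.FFThm.StmtM.{u})
    (wj : WJ S P B Z j Y) : ∃ H U : Subgroup G,
      LMd S P B Y (⨆ l ∈ {l | l ≠ j}, Z l) H U ∧ L j ≤ H ∧ W j ≤ U ∧ (⨆ l ∈ {l | l ≠ j}, Z l) ≤ U ∧
        (∀ E ≤ B, MaxMin U H E → E ≤ centralizer (W j : Set G)) ∧ ∃ E, E ≤ B ∧ MaxMin U H E ∧ ¬ E ≤ o2 Y :=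
  ⟨L j ⊔ Y, ZN.zl B (L j ⊔ Y), lmd h wj, le_sup_left, exists_E h wj hFF⟩

end Cfsg.Agent.Omega.CaseLQ.InstTwo

end

section


/-!
# NoW, `q = 2`, part (ii), `r = 2` (helper602 #25080 (b)): members which are transvection groups

`Tv U t d` : `t` acts on `U` as a transvection with centre `d`.

* `Tv.comm_of` : two transvections in a 2-group without over-offenders: each commutes with the centre of the other;
* `cos_of` : a maximal offender of least rank which contains a transvection `t` is `⟨t⟩` modulo `C(U)`;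
* `exists_tv` : then all maximal offenders of least rank are transvection groups.
-/

set_option autoImplicit false
set_option linter.unusedSectionVars false

namespace Cfsg.Agent.Omega.CaseLQ.TvTwo

open Subgroup Cfsg Cfsg.Agent.ZN Cfsg.Agent.ZN.ChoiceBase
open Cfsg.Agent.Omega.FFThm (OffM ElemM NoOverM)
open Cfsg.Agent.Omega.NO3S.RedC (MaxMin)
open Cfsg.Agent.Omega.NO3S.Level (MinOff off_of_fM)
open Cfsg.Agent.Omega.NO3b.K0 (conj_mem')
open Cfsg.Agent.Omega.NO3S.Fld (kmod mem_kmod relIndex_mul_card relIndex_le_of_map relIndex_mul_of two_le_relIndex)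
open Cfsg.Agent.Omega.NOThreeL.VF (fM fM_le fM_cj fM_of_le le_fM_iff fM_le_iff fM_mul elemM_mono)

universe u

variable {G : Type u} [Group G] {U : Subgroup G} {s t x y d : G}

/-- `t` acts on `U` as a transvection with centre `d` -/
structure Tv (U : Subgroup G) (t d : G) : Prop where
  nm : t ∈ normalizer (U : Set G)
  mem : d ∈ U
  com : ∀ w ∈ U, t * w * t⁻¹ * w⁻¹ = 1 ∨ t * w * t⁻¹ * w⁻¹ = d
  ne : t ∉ centralizer (U : Set G)

theorem one_iff {t w : G} : t * w * t⁻¹ * w⁻¹ = 1 ↔ t * w = w * t := by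
  rw [mul_inv_eq_one, mul_inv_eq_iff_eq_mul]

theorem eq_iff {t w d : G} : t * w * t⁻¹ * w⁻¹ = d ↔ t * w * t⁻¹ = d * w := by
  rw [mul_inv_eq_iff_eq_mul]

namespace Tv

theorem exists_w (h : Tv U t d) : ∃ w ∈ U, t * w * t⁻¹ * w⁻¹ = d ∧ t * w ≠ w * t := by
  by_contra hcon
  push Not at hcon
  apply h.ne
  rw [mem_centralizer_iff]
  intro w hw
  rcases h.com w hw with h1 | h1
  · exact (one_iff.1 h1).symm
  · exact (hcon w hw h1).symm

theorem d_ne (h : Tv U t d) : d ≠ 1 := by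
  rintro rfl
  obtain ⟨w, hw, h1, h2⟩ := h.exists_w
  exact h2 (one_iff.1 h1)

theorem fix_d (Us : ∀ u ∈ U, u ^ 2 = 1) (h : Tv U t d) : t * d = d * t := by
  rcases h.com d h.mem with h1 | h1
  · exact one_iff.1 h1
  · exfalso
    have h2 := eq_iff.1 h1
    rw [← pow_two, Us d h.mem] at h2
    apply h.d_ne
    have e : d = t⁻¹ * (t * d * t⁻¹) * t := by group
    rw [e, h2]; group

theorem cj (h : Tv U t d) {g : G} (hg : g ∈ normalizer (U : Set G)) : Tv U (g * t * g⁻¹) (g * d * g⁻¹) where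
  nm := mul_mem (mul_mem hg h.nm) (inv_mem hg)
  mem := (mem_normalizer_iff.1 hg d).1 h.mem
  com := fun w hw => by
    have h1 : g⁻¹ * w * g ∈ U := by
      have := (mem_normalizer_iff.1 (inv_mem hg) w).1 hw
      rwa [inv_inv] at this
    have e : g * t * g⁻¹ * w * (g * t * g⁻¹)⁻¹ * w⁻¹ = g * (t * (g⁻¹ * w * g) * t⁻¹ * (g⁻¹ * w * g)⁻¹) * g⁻¹ := by
      group
    rcases h.com _ h1 with h2 | h2
    · left; rw [e, h2]; group
    · right; rw [e, h2]
  ne := fun hc => h.ne (by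
    rw [mem_centralizer_iff] at hc ⊢
    intro w hw
    have h1 := hc (g * w * g⁻¹) ((mem_normalizer_iff.1 hg w).1 hw)
    have e1 : g * w * g⁻¹ * (g * t * g⁻¹) = g * (w * t) * g⁻¹ := by group
    have e2 : g * t * g⁻¹ * (g * w * g⁻¹) = g * (t * w) * g⁻¹ := by group
    rw [e1, e2] at h1
    exact mul_left_cancel (mul_right_cancel h1))

theorem unique {d' : G} (h : Tv U t d) (h' : Tv U t d') : d = d' := by
  obtain ⟨w, hw, h1, h2⟩ := h.exists_w
  rcases h'.com w hw with h3 | h3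
  · exact absurd (one_iff.1 h3) h2
  · exact h1.symm.trans h3

/-- two transvections each moving the centre of the other do not lie in a 2-group -/
theorem not_two {R : Subgroup G} (hR : IsPGroup 2 R) (Uc : ∀ a ∈ U, ∀ b ∈ U, a * b = b * a) (Us : ∀ u ∈ U, u ^ 2 = 1)
    (hs : s ∈ R) (ht : t ∈ R) (h : Tv U s x) (h' : Tv U t y) (h1 : t * x * t⁻¹ = y * x) (h2 : s * y * s⁻¹ = x * y) :
    False := by
  have xx : x * x = 1 := by rw [← pow_two]; exact Us x h.mem
  have yy : y * y = 1 := by rw [← pow_two]; exact Us y h'.mem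
  have xy : x * y = y * x := Uc x h.mem y h'.mem
  have sx : s * x * s⁻¹ = x := by rw [h.fix_d Us]; group
  have ty : t * y * t⁻¹ = y := by rw [h'.fix_d Us]; group
  set g := s * t with hg
  have g1 : g * x * g⁻¹ = y := by
    have e : g * x * g⁻¹ = s * (t * x * t⁻¹) * s⁻¹ := by rw [hg]; group
    have e2 : s * (y * x) * s⁻¹ = (s * y * s⁻¹) * (s * x * s⁻¹) := by group
    rw [e, h1, e2, h2, sx, xy, mul_assoc, xx, mul_one]
  have g2 : g * y * g⁻¹ = x * y := by
    have e : g * y * g⁻¹ = s * (t * y * t⁻¹) * s⁻¹ := by rw [hg]; group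
    rw [e, ty, h2]
  have g3 : g * (x * y) * g⁻¹ = x := by
    have e : g * (x * y) * g⁻¹ = (g * x * g⁻¹) * (g * y * g⁻¹) := by group
    rw [e, g1, g2, xy, ← mul_assoc, yy, one_mul]
  have k3 : g ^ 3 * x * (g ^ 3)⁻¹ = x := by
    have e : g ^ 3 * x * (g ^ 3)⁻¹ = g * (g * (g * x * g⁻¹) * g⁻¹) * g⁻¹ := by
      rw [pow_succ, pow_two]; group
    rw [e, g1, g2, g3]
  obtain ⟨n, hn⟩ := hR ⟨g, mul_mem hs ht⟩
  have hn' : g ^ 2 ^ n = 1 := by simpa using congrArg Subtype.val hn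
  have hc3 : g ^ 3 ∈ centralizer ({x} : Set G) := by
    rw [mem_centralizer_singleton_iff]; exact mul_inv_eq_iff_eq_mul.1 k3
  have hc : g ∈ centralizer ({x} : Set G) := by
    have hcop : Nat.Coprime 3 (2 ^ n) := Nat.Coprime.pow_right n (by decide)
    have h4 : g ^ (2 ^ n) ∈ centralizer ({x} : Set G) := by rw [hn']; exact one_mem _
    have h5 : g ^ (Nat.gcd 3 (2 ^ n) : ℤ) ∈ centralizer ({x} : Set G) := by
      rw [Nat.gcd_eq_gcd_ab, zpow_add, zpow_mul, zpow_mul]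
      refine mul_mem (zpow_mem ?_ _) (zpow_mem ?_ _)
      · rw [zpow_natCast]; exact hc3
      · rw [zpow_natCast]; exact h4
    rw [hcop] at h5
    simpa using h5
  have h6 := mem_centralizer_singleton_iff.1 hc
  have h7 : x = y := by
    rw [← g1, h6]; group
  rw [← h7, xx] at h1
  apply h.d_ne
  have e : x = t⁻¹ * (t * x * t⁻¹) * t := by group
  rw [e, h1]; group

variable [Finite G]

/-- index at most two -/
theorem mem_of_two {K A : Subgroup G} (h : K.relIndex A ≤ 2) {a b : G} (ha : a ∈ A) (hb : b ∈ A) (haK : a ∉ K)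
    (hbK : b ∉ K) : a * b ∈ K := by
  have h2 := two_le_relIndex ha haK
  have h3 : (K.subgroupOf A).index = 2 := le_antisymm h h2
  have h4 := (mul_mem_iff_of_index_two h3 (a := ⟨a, ha⟩) (b := ⟨b, hb⟩)).2
    ⟨fun h5 => absurd h5 haK, fun h5 => absurd h5 hbK⟩
  exact h4

/-- **Two transvections in a 2-group, no over-offenders**: each commutes with the centre of the other. -/
theorem comm_of {R : Subgroup G} (hR : IsPGroup 2 R) (Uc : ∀ a ∈ U, ∀ b ∈ U, a * b = b * a) (Us : ∀ u ∈ U, u ^ 2 = 1)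
    (no : NoOverM U R) (hs : s ∈ R) (ht : t ∈ R) (h : Tv U s x) (h' : Tv U t y) : t * x = x * t := by
  by_contra hcon
  have h1 : t * x * t⁻¹ = y * x := by
    rcases h'.com x h.mem with h3 | h3
    · exact absurd (one_iff.1 h3) hcon
    · exact eq_iff.1 h3
  rcases h.com y h'.mem with h2 | h2
  swap
  · exact not_two hR Uc Us hs ht h h' h1 (eq_iff.1 h2)
  have hsy := one_iff.1 h2
  -- the transvection `s' = t s t⁻¹` has the same axis
  set s' := t * s * t⁻¹ with hs'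
  have k' : Tv U s' (y * x) := by
    have := h.cj h'.nm
    rwa [h1] at this
  have s'R : s' ∈ R := mul_mem (mul_mem ht hs) (inv_mem ht)
  have ax : ∀ w ∈ U, s * w = w * s → s' * w = w * s' := by
    intro w hw hsw
    -- `t⁻¹ w t` is `w` or `y w`
    have h3 : t⁻¹ * w * t ∈ U := by
      have := (mem_normalizer_iff.1 (inv_mem h'.nm) w).1 hw
      rwa [inv_inv] at this
    have h4 : s * (t⁻¹ * w * t) = (t⁻¹ * w * t) * s := by
      rcases h'.com _ h3 with h5 | h5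
      · have h6 := one_iff.1 h5
        have e : t⁻¹ * w * t = w := by
          have e1 : t * (t⁻¹ * w * t) = w * t := by group
          rw [e1] at h6
          have e2 : w * t = t⁻¹ * w * t * t := h6
          exact (mul_right_cancel h6).symm
        rw [e]; exact hsw
      · have h6 := eq_iff.1 h5
        have e1 : t * (t⁻¹ * w * t) * t⁻¹ = w := by group
        rw [e1] at h6
        have e : t⁻¹ * w * t = y⁻¹ * w := eq_inv_mul_of_mul_eq h6.symm
        have hy : s * y⁻¹ = y⁻¹ * s := by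
          have := (show Commute s y from hsy).inv_right
          exact this
        rw [e, ← mul_assoc, hy, mul_assoc, hsw, mul_assoc]
    have e1 : s' * w = t * (s * (t⁻¹ * w * t)) * t⁻¹ := by rw [hs']; group
    have e2 : w * s' = t * ((t⁻¹ * w * t) * s) * t⁻¹ := by rw [hs']; group
    rw [e1, e2, h4]
  set X := closure ({s, s'} : Set G) with hX
  have sX : s ∈ X := subset_closure (by simp)
  have s'X : s' ∈ X := subset_closure (by simp)
  have XR : X ≤ R := by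
    rw [hX, closure_le]
    rintro g (rfl | rfl)
    · exact hs
    · exact s'R
  have XU : X ≤ normalizer (U : Set G) := by
    rw [hX, closure_le]
    rintro g (rfl | rfl)
    · exact h.nm
    · exact k'.nm
  have cX : ∀ w ∈ U, s * w = w * s → w ∈ U ⊓ centralizer (X : Set G) := by
    intro w hw hsw
    refine ⟨hw, ?_⟩
    have h3 : X ≤ centralizer ({w} : Set G) := by
      rw [hX, closure_le]
      rintro g (rfl | rfl)
      · exact mem_centralizer_singleton_iff.2 hsw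
      · exact mem_centralizer_singleton_iff.2 (ax w hw hsw)
    exact mem_centralizer_iff.2 fun g hg => mem_centralizer_singleton_iff.1 (h3 hg)
  have hsx := h.fix_d Us
  have AN : X ≤ normalizer ((U ⊓ centralizer (X : Set G) : Subgroup G) : Set G) := by
    intro g hg
    rw [mem_normalizer_iff]
    intro w
    constructor
    · rintro ⟨h3, h4⟩
      have h5 := mem_centralizer_iff.1 h4 g hg
      have e : g * w * g⁻¹ = w := by rw [h5]; group
      rw [e]; exact ⟨h3, h4⟩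
    · rintro ⟨h3, h4⟩
      have h5 := mem_centralizer_iff.1 h4 g hg
      have e : g * (g * w * g⁻¹) = g * w := by
        have e1 : g * w * g⁻¹ * g = g * w := by group
        exact h5.trans e1
      have e2 : g * w * g⁻¹ = w := mul_left_cancel e
      rw [e2] at h3 h4; exact ⟨h3, h4⟩
  have hk : X ≤ kmod X U (U ⊓ centralizer (X : Set G)) XU AN := by
    conv_lhs => rw [hX]
    rw [closure_le]
    rintro g (rfl | rfl)
    · refine mem_kmod.2 ⟨sX, fun w hw => ?_⟩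
      rcases h.com w hw with h3 | h3
      · rw [h3]; exact one_mem _
      · rw [h3]; exact cX x h.mem hsx
    · refine mem_kmod.2 ⟨s'X, fun w hw => ?_⟩
      rcases k'.com w hw with h3 | h3
      · rw [h3]; exact one_mem _
      · rw [h3]
        refine cX _ k'.mem ?_
        have c1 : Commute s y := hsy
        have c2 : Commute s x := hsx
        exact c1.mul_right c2
  have hE : ElemM U X := elemM_of_quad Us Uc fun a ha u hu => (mem_kmod.1 (hk ha)).2 u hu
  have k1 : (centralizer (X : Set G)).relIndex U ≤ 2 := by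
    have hc2 : Nat.card ↥(zpowers x) ≤ 2 := by
      rw [Nat.card_zpowers]
      exact Nat.le_of_dvd (by norm_num) (orderOf_dvd_of_pow_eq_one (Us x h.mem))
    refine le_trans ?_ hc2
    rw [← relIndex_bot_left (zpowers x)]
    refine relIndex_le_of_map (fun w => s * w * s⁻¹ * w⁻¹) (fun w hw => ?_) ?_
    · rcases h.com w hw with h3 | h3
      · simp only [h3]; exact one_mem _
      · simp only [h3]; exact mem_zpowers x
    · intro w hw w' hw' hww
      rw [mem_bot, inv_mul_eq_one] at hww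
      refine (cX _ (mul_mem (inv_mem hw) hw') ?_).2
      rw [← one_iff]
      have e1 : s * (w⁻¹ * w') * s⁻¹ * (w⁻¹ * w')⁻¹ = (s * w * s⁻¹)⁻¹ * (s * w' * s⁻¹) * w'⁻¹ * w := by group
      have e2 : s * w * s⁻¹ = (s * w * s⁻¹ * w⁻¹) * w := by group
      have e3 : s * w' * s⁻¹ = (s * w' * s⁻¹ * w'⁻¹) * w' := by group
      rw [e1, e2, e3, hww]
      generalize s * w' * s⁻¹ * w'⁻¹ = q
      group
  have k2 : (centralizer (U : Set G)).relIndex X ≤ 2 := (FFThm.relIndex_le_iff.1 (no X XR hE)).trans k1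
  have k3 : s * s' ∈ centralizer (U : Set G) := mem_of_two k2 sX s'X h.ne k'.ne
  obtain ⟨w, hw, hw1, hw2⟩ := h.exists_w
  have hw' := eq_iff.1 hw1
  have k4 : s' * w * s'⁻¹ = y * x * w := by
    rcases k'.com w hw with h3 | h3
    · exfalso
      -- `s'` commutes with `w`, so does `s`
      have h4 := mem_centralizer_iff.1 k3 w hw
      have h5 := one_iff.1 h3
      apply hw2
      have e : w * (s * s') = w * s * s' := by group
      have e2 : s * s' * w = s * w * s' := by rw [mul_assoc, h5]; group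
      rw [e, e2] at h4
      exact (mul_right_cancel h4).symm
    · exact eq_iff.1 h3
  have k5 := mem_centralizer_iff.1 k3 w hw
  have k6 : s * s' * w * (s * s')⁻¹ = w := by rw [← k5]; group
  have k7 : s * s' * w * (s * s')⁻¹ = s * (s' * w * s'⁻¹) * s⁻¹ := by group
  rw [k7, k4] at k6
  have k8 : s * (y * x * w) * s⁻¹ = (s * y * s⁻¹) * (s * x * s⁻¹) * (s * w * s⁻¹) := by group
  have sy' : s * y * s⁻¹ = y := by rw [hsy]; group
  have sx' : s * x * s⁻¹ = x := by rw [hsx]; group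
  rw [k8, sy', sx', hw'] at k6
  have xx : x * x = 1 := by rw [← pow_two]; exact Us x h.mem
  have k9 : y * x * (x * w) = y * w := by
    have e : y * x * (x * w) = y * (x * x) * w := by group
    rw [e, xx, mul_one]
  rw [k9] at k6
  exact h'.d_ne (by simpa using k6)

end Tv

variable [Finite G] {H E A : Subgroup G}

/-- **A maximal offender of least rank which contains a transvection `t` is `⟨t⟩` modulo `C(U)`.** -/
theorem cos_of (Us : ∀ u ∈ U, u ^ 2 = 1) (HU : H ≤ normalizer (U : Set G))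
    (mo : MinOff U H E) (ht : t ∈ E) (h : Tv U t d) :
    ∀ g ∈ E, g ∈ centralizer (U : Set G) ∨ t⁻¹ * g ∈ centralizer (U : Set G) := by
  have htU := h.com
  have htne := h.ne
  have hdd : d * d = 1 := by rw [← pow_two]; exact Us d h.mem
  have hUn : E ≤ normalizer (U : Set G) := mo.le.trans HU
  have hCn : ∀ g ∈ E, ∀ z ∈ centralizer (U : Set G), g⁻¹ * z * g ∈ centralizer (U : Set G) := by
    intro g hg z hz
    rw [mem_centralizer_iff]
    intro w hw
    have h1 : g * w * g⁻¹ ∈ U := conj_mem' hUn hg hw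
    have h2 := mem_centralizer_iff.1 hz _ h1
    have e1 : w * (g⁻¹ * z * g) = g⁻¹ * (g * w * g⁻¹ * z) * g := by group
    rw [e1, h2]
    group
  let E₁ : Subgroup G :=
    { carrier := {g | g ∈ E ∧ (g ∈ centralizer (U : Set G) ∨ t⁻¹ * g ∈ centralizer (U : Set G))}
      one_mem' := ⟨one_mem _, Or.inl (one_mem _)⟩
      mul_mem' := by
        rintro a b ⟨ha, ha'⟩ ⟨hb, hb'⟩
        refine ⟨mul_mem ha hb, ?_⟩
        rcases ha' with ha' | ha' <;> rcases hb' with hb' | hb'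
        · exact Or.inl (mul_mem ha' hb')
        · right
          have h1 := hCn t ht a ha'
          have e1 : t⁻¹ * (a * b) = (t⁻¹ * a * t) * (t⁻¹ * b) := by group
          rw [e1]
          exact mul_mem h1 hb'
        · right
          have e1 : t⁻¹ * (a * b) = t⁻¹ * a * b := by group
          rw [e1]
          exact mul_mem ha' hb'
        · left
          have h1 := mo.off.sq t ht
          have h2 := hCn t ht _ ha'
          have e1 : a * b = t ^ 2 * (t⁻¹ * (t⁻¹ * a) * t) * (t⁻¹ * b) := by rw [pow_two]; group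
          rw [e1]
          exact mul_mem (mul_mem h1 h2) hb'
      inv_mem' := by
        rintro a ⟨ha, ha'⟩
        refine ⟨inv_mem ha, ?_⟩
        rcases ha' with ha' | ha'
        · exact Or.inl (inv_mem ha')
        · right
          have h1 := mo.off.sq t ht
          have h2 := hCn t⁻¹ (inv_mem ht) _ (inv_mem ha')
          have e1 : t⁻¹ * a⁻¹ = (t ^ 2)⁻¹ * (t * (t⁻¹ * a)⁻¹ * t⁻¹) := by rw [pow_two]; group
          rw [e1]
          refine mul_mem (inv_mem h1) ?_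
          have e2 : t * (t⁻¹ * a)⁻¹ * t⁻¹ = t⁻¹⁻¹ * (t⁻¹ * a)⁻¹ * t⁻¹ := by group
          rw [e2]
          exact h2 }
  have hE₁E : E₁ ≤ E := fun g hg => hg.1
  have htE₁ : t ∈ E₁ := ⟨ht, Or.inr (by rw [inv_mul_cancel]; exact one_mem _)⟩
  have hcz : ∀ w ∈ U, t * w * t⁻¹ * w⁻¹ = 1 → w ∈ centralizer (E₁ : Set G) := by
    intro w hw h1
    refine mem_centralizer_iff.2 fun g hg => ?_
    have htw : t * w = w * t := one_iff.1 h1
    rcases hg.2 with h2 | h2
    · exact (mem_centralizer_iff.1 h2 w hw).symm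
    · have h3 := mem_centralizer_iff.1 h2 w hw
      have e1 : g * w = t * (t⁻¹ * g * w) := by group
      have e2 : t * (w * (t⁻¹ * g)) = t * w * (t⁻¹ * g) := by group
      rw [e1, ← h3, e2, htw]
      group
  have k1 : (centralizer (E₁ : Set G)).relIndex U ≤ 2 := by
    have hc2 : Nat.card ↥(zpowers d) ≤ 2 := by
      rw [Nat.card_zpowers]
      exact Nat.le_of_dvd (by norm_num) (orderOf_dvd_of_pow_eq_one (by rw [pow_two]; exact hdd))
    refine le_trans ?_ hc2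
    rw [← relIndex_bot_left (zpowers d)]
    refine relIndex_le_of_map (fun w => t * w * t⁻¹ * w⁻¹) (fun w hw => ?_) ?_
    · rcases htU w hw with h1 | h1
      · simp only [h1]; exact one_mem _
      · simp only [h1]; exact mem_zpowers d
    · intro w hw w' hw' hww
      rw [mem_bot, inv_mul_eq_one] at hww
      refine hcz _ (mul_mem (inv_mem hw) hw') ?_
      have e1 : t * (w⁻¹ * w') * t⁻¹ * (w⁻¹ * w')⁻¹ = (t * w * t⁻¹)⁻¹ * (t * w' * t⁻¹) * w'⁻¹ * w := by group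
      have e2 : t * w * t⁻¹ = (t * w * t⁻¹ * w⁻¹) * w := by group
      have e3 : t * w' * t⁻¹ = (t * w' * t⁻¹ * w'⁻¹) * w' := by group
      rw [e1, e2, e3, hww]
      generalize t * w' * t⁻¹ * w'⁻¹ = q
      group
  have k2 : 2 ≤ (centralizer (U : Set G)).relIndex E₁ := two_le_relIndex htE₁ htne
  have hoff₁ : OffM U E₁ :=
    ⟨⟨fun a ha => mo.off.sq a (hE₁E ha), fun a ha b hb => mo.off.comm a (hE₁E ha) b (hE₁E hb)⟩,
      fun h0 => htne (h0 htE₁), FFThm.relIndex_le_iff.2 (k1.trans k2)⟩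
  have k3 := mo.min E₁ (hE₁E.trans mo.le) (mo.pg.to_le hE₁E) hoff₁
  have hEE : E ≤ E₁ := by
    have hle : E ⊓ centralizer (U : Set G) ≤ E₁ := fun g hg => ⟨hg.1, Or.inl hg.2⟩
    have k4 := relIndex_mul_of (H := centralizer (U : Set G)) hle hE₁E
    have p0 : 0 < (centralizer (U : Set G)).relIndex E₁ := by omega
    have k5 : E₁.relIndex E ≤ 1 := by
      refine Nat.le_of_mul_le_mul_left (c := (centralizer (U : Set G)).relIndex E₁) ?_ p0
      rw [k4, mul_one]
      exact k3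
    have p1 : 0 < E₁.relIndex E := Nat.pos_of_ne_zero index_ne_zero_of_finite
    exact relIndex_eq_one.1 (by omega)
  exact fun g hg => (hEE hg).2

/-- without over-offenders the members are minimal offenders -/
theorem minOff_of (Uc : U ≤ centralizer (U : Set G)) (no : NoOverM U H) (m : MaxMin U H E) : MinOff U H E where
  le := m.le
  pg := m.pg
  off := ⟨m.elem, m.ne, FFThm.relIndex_le_iff.2 (m.off Uc le_rfl)⟩
  min := fun D hD hD2 hDo => m.min D hD hD2 hDo.toElemM hDo.ne ((fM_le_iff.2 (no E m.le m.elem)).trans (le_fM_iff.2 hDo.le))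

/-- **All members are transvection groups.** -/
theorem exists_tv (Uc : U ≤ centralizer (U : Set G)) (Us : ∀ u ∈ U, u ^ 2 = 1) (HU : H ≤ normalizer (U : Set G))
    (no : NoOverM U H) (m : MaxMin U H E) (ht : t ∈ E) (h : Tv U t d) (mA : MaxMin U H A) :
    ∃ s ∈ A, ∃ x, Tv U s x ∧ ∀ g ∈ A, g ∈ centralizer (U : Set G) ∨ s⁻¹ * g ∈ centralizer (U : Set G) := by
  have mo := minOff_of Uc no m
  have moA := minOff_of Uc no mA
  have hcos := cos_of Us HU mo ht h
  have k0 : (centralizer (U : Set G)).relIndex E ≤ 2 := by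
    have h1 : Nat.card ↥(zpowers (1 : G)) = 1 := by simp
    -- `a ↦ [a, w]`
    obtain ⟨w, hw, hw1, hw2⟩ := h.exists_w
    have hc2 : Nat.card ↥(zpowers d) ≤ 2 := by
      rw [Nat.card_zpowers]
      exact Nat.le_of_dvd (by norm_num) (orderOf_dvd_of_pow_eq_one (Us d h.mem))
    refine le_trans ?_ hc2
    rw [← relIndex_bot_left (zpowers d)]
    classical
    refine relIndex_le_of_map (fun g => if g ∈ centralizer (U : Set G) then 1 else d) (fun g _ => ?_) ?_
    · by_cases h3 : g ∈ centralizer (U : Set G)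
      · simp only [if_pos h3]; exact one_mem _
      · simp only [if_neg h3]; exact mem_zpowers d
    · intro a ha b hb hab
      rw [mem_bot, inv_mul_eq_one] at hab
      by_cases h3 : a ∈ centralizer (U : Set G) <;> by_cases h4 : b ∈ centralizer (U : Set G)
      · exact mul_mem (inv_mem h3) h4
      · simp only [if_pos h3, if_neg h4] at hab
        exact absurd hab.symm h.d_ne
      · simp only [if_neg h3, if_pos h4] at hab
        exact absurd hab h.d_ne
      · have h5 := (hcos a ha).resolve_left h3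
        have h6 := (hcos b hb).resolve_left h4
        have e : a⁻¹ * b = (t⁻¹ * a)⁻¹ * (t⁻¹ * b) := by group
        rw [e]
        exact mul_mem (inv_mem h5) h6
  have k1 : (centralizer (U : Set G)).relIndex A ≤ 2 := (moA.min E m.le m.pg mo.off).trans k0
  have k2 : (centralizer (A : Set G)).relIndex U ≤ 2 := (FFThm.relIndex_le_iff.1 moA.off.le).trans k1
  obtain ⟨s, hs, hsne⟩ := SetLike.not_le_iff_exists.1 mA.ne
  have hsw : ∃ w ∈ U, s * w ≠ w * s := by
    by_contra hcon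
    push Not at hcon
    exact hsne (mem_centralizer_iff.2 fun w hw => (hcon w hw).symm)
  obtain ⟨w, hw, hsw⟩ := hsw
  have hwA : w ∉ centralizer (A : Set G) := fun h1 => hsw (mem_centralizer_iff.1 h1 s hs)
  have sN : s ∈ normalizer (U : Set G) := HU (mA.le hs)
  refine ⟨s, hs, s * w * s⁻¹ * w⁻¹, ⟨sN, mul_mem ((mem_normalizer_iff.1 sN w).1 hw) (inv_mem hw), fun v hv => ?_, hsne⟩,
    fun g hg => ?_⟩
  · by_cases h1 : v ∈ centralizer (A : Set G)
    · left
      exact one_iff.2 (mem_centralizer_iff.1 h1 s hs)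
    · right
      have h2 := Tv.mem_of_two k2 (inv_mem hw) hv (fun h3 => hwA (by simpa using inv_mem h3)) h1
      have h3 := mem_centralizer_iff.1 h2 s hs
      have e1 : v = w * (w⁻¹ * v) := by group
      have e2 : s * (w * (w⁻¹ * v)) * s⁻¹ = s * w * (s⁻¹ * (s * (w⁻¹ * v))) * s⁻¹ := by group
      have e3 : s * v * s⁻¹ = (s * w * s⁻¹) * (w⁻¹ * v) := by
        have e4 : s * v * s⁻¹ = (s * w * s⁻¹) * (s * (w⁻¹ * v) * s⁻¹) := by group
        rw [e4, h3]; group
      rw [e3]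
      group
  · by_cases h1 : g ∈ centralizer (U : Set G)
    · exact Or.inl h1
    · right
      exact Tv.mem_of_two k1 (inv_mem hs) hg (fun h3 => hsne (by simpa using inv_mem h3)) h1

end Cfsg.Agent.Omega.CaseLQ.TvTwo

end

section


/-!
# `YB` on `C_X(⟨AA⟩)` when the lines have order `2` (helper602 #25080 (b))

natural modules over `F₂` and the symmetric type.

* `Conc2 T H X AA N c e` : `Concl T H X AA N c` (helper373's `YBX`), `c i = {1, e i}`, every member `A ≰ O₂(H)` has a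
  commutator `[a, v] = e i`, `v ∈ ⟨Ω₁Z(T)^H⟩`;
* `nat_two`, `sym_two` : `Conc2` exists;
* `nat_tv`, `sym_tv` : every member `A ≰ O₂(H)` with `X = V C_X(A)` contains a transvection.
-/

set_option autoImplicit false
set_option linter.unusedSectionVars false

namespace Cfsg.Agent.Omega.CaseLQ.TvTwo

open Subgroup Cfsg Cfsg.Agent.ZN Cfsg.Agent.ZN.ChoiceBase Cfsg.Agent.ZN.ChoiceSit
open Cfsg.Agent.Omega.NatPair (ap ap_zero' ap_one' ap_one ap_mul ext2 ap_inv_ap ap_inj)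
open Cfsg.Agent.Lib.SL2Mat
open Cfsg.Agent.Omega.SQ1.FFOne (MinH)
open Cfsg.Agent.Omega.SQ1.FFSym (Gd u E)
open Cfsg.Agent.Omega.NO3S.OneLine (NatC natC_of zc_elem)
open Cfsg.Agent.Omega.NO3S.OneLine.NatC (acts_mul acts_inv acts_one acts_unique)
open Cfsg.Agent.Omega.OM.Lev.Nat (Wn mem_Wn Xn mem_Xn ap_z exists_up)
open Cfsg.Agent.Omega.OM.GNat (sl2_all exists_root cent_N)
open Cfsg.Agent.Omega.OM.GLev
open Cfsg.Agent.Omega.OM.Lev.Low
open Cfsg.Agent.Omega.FFThm (NatK NatKM SymKM ActsSL ActsSym OffM)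
open Cfsg.Agent.Omega.SQ1.Bau (elem_comm elem_sq)
open Cfsg.Agent.Omega.FrameFF (cv)
open Cfsg.Agent.Omega.NO3S.CaseLW.YBX

universe u

variable {G : Type u} [Group G] [Finite G] {T H X : Subgroup G} {AA : Set (Subgroup G)}

/-- `Concl`, all lines of order two -/
structure Conc2 (T H X : Subgroup G) (AA : Set (Subgroup G)) {Λ : Type} (N c : Λ → Subgroup G) (e : Λ → G) : Prop
    extends Concl T H X AA N c where
  mem : ∀ i, e i ∈ c i
  all : ∀ i, ∀ x ∈ c i, x = 1 ∨ x = e i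
  act : ∀ A ∈ AA, ¬ A ≤ o2 H → ∃ a ∈ A, ∃ v ∈ zl T H, ∃ i, a * v * a⁻¹ * v⁻¹ = e i

/-! ### Natural type -/

section nat

variable {F : Type} [Field F] [Finite F] [CharP F 2] {k : ℕ}

/-- `[a, w] = e j ≠ 1` for the root element of the `j`-th summand -/
theorem root_comm (h : GE T H X AA) (N : NatKM F T H (zl T H) (cv T H) k) (hk : 0 < k) {j : Fin k} {a w : G}
    (ha : a ∈ T) (hac : ActsSL N.e (zl T H) (cv T H) a (Pi.mulSingle j (up 1))) (hw : w ∈ zl T H)
    (hew : N.e w j 1 = 1) : N.e (a * w * a⁻¹ * w⁻¹) j 0 = 1 := by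
  classical
  set M := natC_of h.hm hk N.toNatK with hM
  have haw := M.Vn a (h.TH ha) w hw
  have h4 : N.e (a * w * a⁻¹ * w⁻¹) = N.e (a * w * a⁻¹) - N.e w := M.map_div haw hw
  rw [h4, Pi.sub_apply, hac.1 w hw j, Pi.mulSingle_eq_same, Pi.sub_apply, ap_zero', up_00, up_01, hew]
  ring

/-- the root element centralises the vectors without `(j, 1)`-coordinate -/
theorem root_cent (h : GE T H X AA) (N : NatKM F T H (zl T H) (cv T H) k) (hk : 0 < k) {A : Subgroup G} (hA : A ∈ AA)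
    {j : Fin k} {a v : G} (ha : a ∈ A) (hac : ActsSL N.e (zl T H) (cv T H) a (Pi.mulSingle j (up 1)))
    (hv : v ∈ zl T H) (hev : N.e v j 1 = 0) : a * v = v * a := by
  classical
  set M := natC_of h.hm hk N.toNatK with hM
  have haT := h.fam.le A hA ha
  have hc : v ∈ centralizer ({a} : Set G) := by
    refine Nat.mem_of_comp M (fun d hd => mem_centralizer_singleton_iff.2 (hac.2 d hd).symm) hv fun i u hu eu => ?_
    rw [mem_centralizer_singleton_iff]
    by_cases hi : i = j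
    · subst hi
      refine (Xc_comm (Nat.line_le h N hk hu.1 fun m => ?_) ((le_sSup hA : A ≤ sSup AA) ha)).symm
      by_cases hm : m = i
      · subst hm
        have h3 : N.e u m = N.e v m := eu
        rw [h3]
        exact hev
      · have h3 : N.e u m = 0 := hu.2 m hm
        rw [h3]; rfl
    · exact (cent_N M h.hm (h.TH haT) hac.1 hac.2 (Pi.mulSingle_eq_of_ne hi _) hu.1 hu.2).symm
  exact (mem_centralizer_singleton_iff.1 hc).symm

theorem nat_tv (h : GE T H X AA) (N : NatKM F T H (zl T H) (cv T H) k) (hk : 0 < k) (hF : ∀ x : F, x = 0 ∨ x = 1)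
    {A : Subgroup G} (hA : A ∈ AA) (hAQ : ¬ A ≤ o2 H)
    (hs : ∀ u ∈ X, ∃ v ∈ zl T H, ∃ c ∈ X, (∀ a ∈ A, a * c = c * a) ∧ u = v * c) : ∃ t ∈ A, ∃ d, Tv X t d := by
  classical
  set M := natC_of h.hm hk N.toNatK with hM
  obtain ⟨j, hroot⟩ := exists_root h N hk hA hAQ
  obtain ⟨a, ha, hac⟩ := hroot 1
  have haT := h.fam.le A hA ha
  have haN : a ∈ normalizer (X : Set G) := h.norm (h.TH haT)
  obtain ⟨w0, hw0, e0⟩ := exists_vec M j ![0, 1]
  have e0' : N.e w0 j 1 = 1 := by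
    have h3 : N.e w0 j = ![0, 1] := e0
    rw [h3]; simp
  have h1 := root_comm h N hk haT hac hw0.1 e0'
  have hne : a * w0 * a⁻¹ * w0⁻¹ ≠ 1 := by
    intro h2
    rw [h2] at h1
    have h8 : N.e (1 : G) = 0 := M.map_one
    rw [h8] at h1
    simp at h1
  refine ⟨a, ha, a * w0 * a⁻¹ * w0⁻¹, haN, mul_mem ((mem_normalizer_iff.1 haN w0).1 (h.VX hw0.1))
    (inv_mem (h.VX hw0.1)), fun u hu => ?_, fun hc => hne (one_iff.2 (mem_centralizer_iff.1 hc w0 (h.VX hw0.1)).symm)⟩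
  obtain ⟨v, hv, c, hc, hac', rfl⟩ := hs u hu
  have e3 : a * (v * c) * a⁻¹ * (v * c)⁻¹ = a * v * a⁻¹ * v⁻¹ := by
    have e4 : a * (v * c) * a⁻¹ * (v * c)⁻¹ = a * v * (c * a⁻¹ * c⁻¹) * v⁻¹ := by group
    have e5 : c * a⁻¹ * c⁻¹ = a⁻¹ := by
      have h2 := hac' a⁻¹ (inv_mem ha)
      rw [← h2]; group
    rw [e4, e5]
  rw [e3]
  rcases hF (N.e v j 1) with h2 | h2
  · left
    exact one_iff.2 (root_cent h N hk hA ha hac hv h2)
  · right
    -- `w0⁻¹ v` is centralised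
    have h3 : N.e (w0⁻¹ * v) j 1 = 0 := by
      have h4 : N.e (w0⁻¹ * v) = N.e w0⁻¹ + N.e v := M.nat.mul _ (inv_mem hw0.1) _ hv
      have h5 : N.e w0⁻¹ = - N.e w0 := M.map_inv hw0.1
      rw [h4, h5, Pi.add_apply, Pi.add_apply, Pi.neg_apply, Pi.neg_apply, e0', h2, neg_add_cancel]
    have h6 := root_cent h N hk hA ha hac (mul_mem (inv_mem hw0.1) hv) h3
    have e6 : a * v * a⁻¹ * v⁻¹ = a * w0 * (a⁻¹ * (a * (w0⁻¹ * v))) * a⁻¹ * v⁻¹ := by group
    rw [e6, h6]
    group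

/-- **`YB` on `C_X(⟨AA⟩)`, natural type over `F₂`.** -/
theorem nat_two (h : GE T H X AA) (N : NatKM F T H (zl T H) (cv T H) k) (hk : 0 < k) (hF : ∀ x : F, x = 0 ∨ x = 1)
    (hex : ∃ A ∈ AA, ¬ A ≤ o2 H) (hZ : ¬ H ≤ centralizer (zc T : Set G)) :
    ∃ (Ni c : Fin k → Subgroup G) (e : Fin k → G), Conc2 T H X AA Ni c e := by
  classical
  set M := natC_of h.hm hk N.toNatK with hM
  obtain ⟨A, hA, hAQ⟩ := hex
  obtain ⟨j, hroot⟩ := exists_root h N hk hA hAQ
  obtain ⟨L, hL, hsup, hgen⟩ := Nat.ld_of_root h N hk hA hroot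
  have hc := hL.co_two hF
  have yb := hL.yb_aux hc fun i s hs t ht hsm htm => cyc_line h.hm N hk hs hsm ht htm
  -- the elements `e i`
  have hex : ∀ i, ∃ e, e ∈ closure {x | ∃ b ∈ sSup AA, ∃ w ∈ Wn M i, x = b * w * b⁻¹ * w⁻¹} ∧
      ∀ x ∈ closure {x | ∃ b ∈ sSup AA, ∃ w ∈ Wn M i, x = b * w * b⁻¹ * w⁻¹}, x = 1 ∨ x = e := by
    intro i
    obtain ⟨e, he, he1⟩ : ∃ e ∈ closure {x | ∃ b ∈ sSup AA, ∃ w ∈ Wn M i, x = b * w * b⁻¹ * w⁻¹}, e ≠ 1 := by
      by_contra hcon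
      push Not at hcon
      apply yb.ne i
      rw [eq_bot_iff]
      intro x hx
      exact mem_bot.2 (hcon x hx)
    have hcoo : ∀ x ∈ closure {x | ∃ b ∈ sSup AA, ∃ w ∈ Wn M i, x = b * w * b⁻¹ * w⁻¹}, x ≠ 1 → M.nat.e x i 0 = 1 := by
      intro x hx hx1
      rcases hF (M.nat.e x i 0) with h1 | h1
      · exact absurd (hc.dis i x hx (Li_D (hc.le i hx) h1)) hx1
      · exact h1
    refine ⟨e, he, fun x hx => ?_⟩
    by_cases hx1 : x = 1
    · exact Or.inl hx1
    · right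
      have h1 : x⁻¹ * e ∈ closure {x | ∃ b ∈ sSup AA, ∃ w ∈ Wn M i, x = b * w * b⁻¹ * w⁻¹} := mul_mem (inv_mem hx) he
      have h2 : x⁻¹ * e = 1 := by
        by_contra h3
        have h4 := hcoo _ h1 h3
        rw [M.nat.mul _ (inv_mem (hc.le i hx).1) _ (hc.le i he).1, M.map_inv (hc.le i hx).1, Pi.add_apply, Pi.add_apply,
          Pi.neg_apply, Pi.neg_apply, hcoo x hx hx1, hcoo e he he1, neg_add_cancel] at h4
        exact zero_ne_one h4
      exact (inv_mul_eq_one.1 h2)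
  choose e he hall using hex
  have h2 : ∃ i, ¬ zc T ≤ Ni M (Xc X AA) L j i := by
    refine ⟨j, fun hcon => hZ (hsup.trans (sup_le ?_ ?_))⟩
    · exact NO3S.Level.le_centralizer_zc T
    · intro l hl
      rw [mem_centralizer_iff]
      intro z hz
      have h1 := (mem_Ni.1 (hcon hz)).2 1 (one_mem _) (MvI.one j) l hl
      simp only [inv_one, one_mul, mul_one] at h1
      exact h1.symm
  have h3 : ∀ x ∈ Xc X AA, (∀ y ∈ H, cj y (sSup AA) ≤ centralizer ({x} : Set G)) → ∀ i, x ∈ Ni M (Xc X AA) L j i := by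
    intro x hx hxc i
    refine mem_Ni.2 ⟨hx, fun t ht _ l hl => ?_⟩
    have h1 := hgen (centralizer ({t⁻¹ * x * t} : Set G)) fun y hy => ?_
    · exact mem_centralizer_singleton_iff.1 (h1 hl)
    · rintro _ ⟨b, hb, rfl⟩
      rw [mem_centralizer_singleton_iff]
      have h2 := mem_centralizer_singleton_iff.1 (hxc (t * y) (mul_mem (h.TH ht) hy) ⟨b, hb, rfl⟩)
      have h2' : t * y * b * (t * y)⁻¹ * x = x * (t * y * b * (t * y)⁻¹) := h2
      have h4 := congrArg (fun z => t⁻¹ * z * t) h2'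
      show y * b * y⁻¹ * (t⁻¹ * x * t) = t⁻¹ * x * t * (y * b * y⁻¹)
      simpa [mul_assoc] using h4
  refine ⟨_, _, e, ⟨yb, h2, fun x hx hxc => h3 x (Xc_of hx hxc) (le_of hxc), fun A hA v hv z _ a haA => ?_⟩, he, hall,
    fun A hA hAQ => ?_⟩
  · have ha : a ∈ sSup AA := (le_sSup hA : A ≤ sSup AA) haA
    have hJV : ∀ a ∈ sSup AA, ∀ v ∈ zl T H, a * v * a⁻¹ ∈ zl T H := fun a ha v hv => M.Vn a (hL.TH (hL.BT ha)) v hv
    have hD : cv T H ≤ Nat.comS (zl T H) (sSup AA) (YB.Cp (fun i => closure {x | ∃ b ∈ sSup AA, ∃ w ∈ Wn M i,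
        x = b * w * b⁻¹ * w⁻¹}) Set.univ) (fun x hx y hy => M.Vcomm hx hy) hJV := fun d hd =>
      ⟨M.DV hd, fun a ha => by rw [Xc_comm (hL.DZ hd) ha, mul_inv_cancel_right, mul_inv_cancel]; exact one_mem _⟩
    exact (Nat.mem_of_comp M hD hv fun i u hu _ => ⟨hu.1, fun a ha =>
      YB.le_Cp (Set.mem_univ i) (subset_closure ⟨a, ha, u, hu, rfl⟩)⟩).2 a ha
  · obtain ⟨i, hroot'⟩ := exists_root h N hk hA hAQ
    obtain ⟨a, ha, hac⟩ := hroot' 1
    have haT := h.fam.le A hA ha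
    obtain ⟨w0, hw0, e0⟩ := exists_vec M i ![0, 1]
    have e0' : N.e w0 i 1 = 1 := by
      have h3 : N.e w0 i = ![0, 1] := e0
      rw [h3]; simp
    have h1 := root_comm h N hk haT hac hw0.1 e0'
    refine ⟨a, ha, w0, hw0.1, i, ?_⟩
    refine (hall i _ (subset_closure ⟨a, (le_sSup hA : A ≤ sSup AA) ha, w0, hw0, rfl⟩)).resolve_left fun h2 => ?_
    rw [h2] at h1
    have h8 : N.e (1 : G) = 0 := M.map_one
    rw [h8] at h1
    simp at h1

end nat

/-! ### Symmetric type -/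

section sym

open Cfsg.Agent.Omega.OM.Lev.SIn
open Cfsg.Agent.Omega.SQ1.BauS (Sim)
open Cfsg.Agent.Omega.OM.Lev.SymIn (SyL)

variable {k m : ℕ}

/-- the module data -/
theorem syl_of (h : GE T H X AA) (N : SymKM T H (zl T H) (cv T H) k m) (hk : 0 < k) (hm : 1 ≤ m)
    (hex : ∃ A ∈ AA, ¬ A ≤ o2 H) :
    SyL T H (o2 H) (zl T H) (sSup AA) (cv T H) AA (0 : Fin (2 ^ m + 1)) N.e :=
  OM.Lev.Sym.syL_gen (Jg := sSup AA) h.hm hk hm N SQ1.FFOf.cv_le SQ1.FFOf.cv_norm h.fam.le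
    (fun A hA hAQ => h.offM hA hAQ) hex (sSup_le h.fam.le) (OM.GSym.T_norm_AA h) (fun A hA => le_sSup hA) le_sup_left

/-- a transposition in a member `A ≰ O₂(H)` -/
theorem exists_swap (h : GE T H X AA) (N : SymKM T H (zl T H) (cv T H) k m) (hk : 0 < k) (hm : 1 ≤ m)
    {A : Subgroup G} (hA : A ∈ AA) (hAQ : ¬ A ≤ o2 H) :
    ∃ (j : Fin k) (x y : Fin (2 ^ m + 1)), x ≠ y ∧ ∃ b ∈ A, Gd H (zl T H) (cv T H) N.e (Pi.mulSingle j (Equiv.swap x y)) b ∧
      ∃ v ∈ zl T H, b * v * b⁻¹ * v⁻¹ = u H (zl T H) (cv T H) N.e j x y := by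
  classical
  have hs := syl_of h N hk hm ⟨A, hA, hAQ⟩
  obtain ⟨j, x, y, hxy, b, hb, hbg⟩ : ∃ (j : Fin k) (x y : Fin (2 ^ m + 1)), x ≠ y ∧ ∃ b ∈ A,
      Gd H (zl T H) (cv T H) N.e (Pi.mulSingle j (Equiv.swap x y)) b := by
    by_contra hcon
    push Not at hcon
    apply hAQ
    intro a ha
    obtain ⟨τ, hτ, hτ'⟩ := hs.offD A hA a ha
    have h1 : τ = 1 := by
      funext i
      ext x
      by_contra hx
      have hx' : τ i x ≠ x := fun e => hx (by rw [e]; rfl)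
      obtain ⟨-, b, hb, hb'⟩ := hτ' i x hx'
      exact hcon i x (τ i x) hx'.symm b hb hb'
    subst h1
    refine hs.cT a (h.fam.le A hA ha) fun v hv => ?_
    have h2 := hs.gd_sim hτ hs.gd_one v hv
    calc a * v = (a * v * a⁻¹) * a := by group
      _ = v * a := by rw [h2]; group
  refine ⟨j, x, y, hxy, b, hb, hbg, ?_⟩
  have hx0 : x ≠ 0 := by
    rintro rfl
    have h4 := N.fix0 b (h.fam.le A hA hb) _ _ hbg.act j
    rw [Pi.mulSingle_eq_same, Equiv.swap_apply_left] at h4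
    exact hxy h4.symm
  have hy0 : y ≠ 0 := by
    rintro rfl
    have h4 := N.fix0 b (h.fam.le A hA hb) _ _ hbg.act j
    rw [Pi.mulSingle_eq_same, Equiv.swap_apply_right] at h4
    exact hxy h4
  obtain ⟨v, hv, hev⟩ := hs.exists_pair j x 0
  refine ⟨v, hv, ?_⟩
  rcases hs.swap_comm hbg v hv with h2 | h2
  · exfalso
    have h1 := hbg.act v hv j y
    rw [h2, Pi.mulSingle_eq_same, Equiv.swap_apply_right, Equiv.Perm.one_apply, hev] at h1
    simp only [Pi.add_apply] at h1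
    rw [SQ1.FFSym.E_self,
      SQ1.FFSym.E_ne (fun h5 => hx0 h5.2), SQ1.FFSym.E_ne (fun h5 => hxy h5.2.symm),
      SQ1.FFSym.E_ne (fun h5 => hy0 h5.2)] at h1
    simp at h1
  · rw [h2, mul_inv_cancel_right]

theorem sym_tv (h : GE T H X AA) (N : SymKM T H (zl T H) (cv T H) k m) (hk : 0 < k) (hm : 1 ≤ m)
    {A : Subgroup G} (hA : A ∈ AA) (hAQ : ¬ A ≤ o2 H)
    (hs : ∀ u ∈ X, ∃ v ∈ zl T H, ∃ c ∈ X, (∀ a ∈ A, a * c = c * a) ∧ u = v * c) : ∃ t ∈ A, ∃ d, Tv X t d := by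
  classical
  have hS := syl_of h N hk hm ⟨A, hA, hAQ⟩
  obtain ⟨j, x, y, hxy, b, hb, hbg, v0, hv0, hbv⟩ := exists_swap h N hk hm hA hAQ
  have hbT := h.fam.le A hA hb
  refine ⟨b, hb, u H (zl T H) (cv T H) N.e j x y, h.norm (h.TH hbT), h.VX (hS.u_mem j x y), fun w hw => ?_, fun hc => ?_⟩
  · obtain ⟨v, hv, c, hc, hac', rfl⟩ := hs w hw
    have e3 : b * (v * c) * b⁻¹ * (v * c)⁻¹ = b * v * b⁻¹ * v⁻¹ := by
      have e4 : b * (v * c) * b⁻¹ * (v * c)⁻¹ = b * v * (c * b⁻¹ * c⁻¹) * v⁻¹ := by group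
      have e5 : c * b⁻¹ * c⁻¹ = b⁻¹ := by
        have h2 := hac' b⁻¹ (inv_mem hb)
        rw [← h2]; group
      rw [e4, e5]
    rw [e3]
    rcases hS.swap_comm hbg v hv with h2 | h2
    · left; rw [h2, mul_inv_cancel]
    · right; rw [h2, mul_inv_cancel_right]
  · apply hS.u_ne (j := j) hxy
    rw [← hbv]
    exact one_iff.2 (mem_centralizer_iff.1 hc v0 (h.VX hv0)).symm

/-- **`YB` on `C_X(⟨AA⟩)`, symmetric type.** -/
theorem sym_two (h : GE T H X AA) (hXT : X ≤ T) (N : SymKM T H (zl T H) (cv T H) k m) (hk : 0 < k) (hm : 1 ≤ m)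
    (hex : ∃ A ∈ AA, ¬ A ≤ o2 H) (hZ : ¬ H ≤ centralizer (zc T : Set G)) :
    ∃ (ι : Type) (_ : Finite ι) (Ni c : ι → Subgroup G) (e : ι → G), Conc2 T H X AA Ni c e := by
  have h0 := syl_of h N hk hm hex
  obtain ⟨ι, J, Ux, Y, t, r, c⟩ := h0.exists_ch
  obtain ⟨j, x, y, hTr⟩ := h0.exists_tr
  obtain ⟨i, -⟩ := c.ex j x y hTr
  have hin := Sym.in_of h hXT i (c.main h0 Cfsg.Agent.Omega.SQ1.SymCyc.exists_pow)
  have hp := c.permR h0
  obtain ⟨K, hK, hKc⟩ := hin.exists_blks hp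
  refine ⟨ι, hin.finite_index, _, _, fun i => u H (zl T H) (cv T H) N.e (J i) (Ux i) (Y i),
    ⟨YSym.yb hin hK hKc, ⟨i, fun hle => hZ ?_⟩, fun x hx hxc l => ?_,
    fun A hA v hv z _ a ha => Sym.comm_J hin ((le_sSup hA : A ≤ sSup AA) ha) hv⟩, fun i => mem_zpowers _,
    fun i x hx => OM.Lev.SIn.Blk.mem_zp hin hx, fun A hA hAQ => ?_⟩
  · exact ((hK i).sup_T hin le_sup_left le_sup_right : H ≤ T ⊔ K i).trans
      (sup_le (NO3S.Level.le_centralizer_zc T) (le_centralizer_iff.1 hle))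
  · have hxX := Xc_of hx hxc
    have hxj := le_of hxc
    obtain ⟨y, hy, hym⟩ := (hK l).mv
    have h1 : K l ≤ centralizer ({x} : Set G) := by
      refine (hK l).gen_left hin hy hym (hin.t_bau l) (hin.t_not_QQ l) (fun b hb => ?_) ?_
      · exact mem_centralizer_singleton_iff.2 ((mem_BB.1 hb).2 x hxX).symm
      · exact hxj y ((hK l).LH hin hy) ⟨_, hin.tJ l, rfl⟩
    exact mem_centralizer_iff.2 fun z hz => mem_centralizer_singleton_iff.1 (h1 hz)
  · obtain ⟨j, x, y, hxy, b, hb, hbg, v0, hv0, hbv⟩ := exists_swap h N hk hm hA hAQ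
    obtain ⟨l, hl⟩ := c.ex j x y ⟨hxy, b, (le_sSup hA : A ≤ sSup AA) hb, hbg⟩
    exact ⟨b, hb, v0, hv0, l, hbv.trans hl.symm⟩

end sym

end Cfsg.Agent.Omega.CaseLQ.TvTwo

end

section


/-!
# NoW, `q = 2`, part (ii), the case `r = 2` and the symmetric blocks (helper602 #25080 (b))

* `FrG.trans` : `B` is transitive on the lines;
* `Ctr U A x` : `A` acts on `U` as a group of transvections with centre `x`;
* `dead` : over `YS U H T Y`, the frame `FrG` for every `Concl`, and `P` (`T ≤ P ≤ H`, `P ≤ N(C_T(V))`, `Λ ≤ C(P)`,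
  `P` moves `z`): the lines do not have order `2`;
* `nat_four` : **the natural alternative of the FF theorem holds for `Y`, with `|F| > 2`**.
-/

set_option autoImplicit false
set_option linter.unusedSectionVars false
set_option linter.style.haveILetI false

namespace Cfsg.Agent.Omega.CaseLQ.PsiT

open Subgroup

section add

variable {U : Type*} [AddCommGroup U] {T : Type*} [Group T] [DistribMulAction T U] {ι : Type*} [MulAction T ι]

/-- all lines of order `2`: `T` is transitive on the lines -/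
theorem Fr.trans {c C : ι → AddSubgroup U} {Q : Subgroup T} {N : AddSubgroup U} {z : U} (h : Fr c C Q N z) [Fintype ι]
    [Nonempty ι] {e : ι → U} (he : ∀ i, e i ∈ c i) (he0 : ∀ i, e i ≠ 0)
    (hce : ∀ i, ∀ x ∈ c i, x = 0 ∨ x = e i)
    (hfix : ∀ u : U, (∀ t : T, t • u = u) → (∀ i, u ∈ C i) ∨ ∀ i, u - z ∈ C i) (i m : ι) : ∃ t : T, t • i = m := by
  classical
  by_contra hcon
  have hsum := h.eq_sum he he0 hce hfix
  have hte : ∀ (t : T) (i : ι), t • e i = e (t • i) := by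
    intro t i
    rcases hce (t • i) _ (h.ct t i _ (he i)) with h1 | h1
    · exact absurd h1 ((smul_ne_zero_iff_ne t).2 (he0 i))
    · exact h1
  let O : Set ι := {m | ∃ t : T, t • i = m}
  have hOt : ∀ (t : T) (l : ι), t • l ∈ O ↔ l ∈ O := by
    intro t l
    constructor
    · rintro ⟨s, hs⟩
      exact ⟨t⁻¹ * s, by rw [mul_smul, hs, inv_smul_smul]⟩
    · rintro ⟨s, rfl⟩
      exact ⟨t * s, by rw [mul_smul]⟩
  let g : ι → U := fun l => if l ∈ O then e l else 0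
  have hgt : ∀ (t : T) (l : ι), t • g l = g (t • l) := by
    intro t l
    by_cases hl : l ∈ O
    · have hl' := (hOt t l).2 hl
      simp only [g, if_pos hl, if_pos hl']
      exact hte t l
    · have hl' := fun h' => hl ((hOt t l).1 h')
      simp only [g, if_neg hl, if_neg hl', smul_zero]
  have hg : ∀ l, g l ∈ c l := by
    intro l
    by_cases hl : l ∈ O
    · simp only [g, if_pos hl]; exact he l
    · simp only [g, if_neg hl]; exact (c l).zero_mem
  have hT : ∀ t : T, t • (∑ l, g l) = ∑ l, g l := by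
    intro t
    rw [Finset.smul_sum]
    exact Fintype.sum_equiv (MulAction.toPerm t) _ _ fun l => hgt t l
  rcases hfix _ hT with h1 | h1
  · have h2 := h.sum_zero hg h1 i
    have hi : i ∈ O := ⟨1, one_smul _ _⟩
    simp only [g, if_pos hi] at h2
    exact he0 i h2
  · have h2 : (∑ l, g l) - z = ∑ l, (g l - e l) := by
      rw [hsum, Finset.sum_sub_distrib]
    have h3 := h.sum_zero (fun l => (c l).sub_mem (hg l) (he l)) (fun l => by rw [← h2]; exact h1 l) m
    have hm : m ∉ O := hcon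
    simp only [g, if_neg hm, zero_sub, neg_eq_zero] at h3
    exact he0 m h3

end add

local notation "cj" g:max H:max => Subgroup.map (MulEquiv.toMonoidHom (MulAut.conj g)) H

variable {G : Type*} [Group G] {ι : Type*}

/-- all lines of order `2`: `B` is transitive on the lines -/
theorem FrG.trans {U B Q V : Subgroup G} {z : G} {Lam : Subgroup G} {N c : ι → Subgroup G}
    (h : FrG U B Q V z Lam N c) [Finite ι] {e : ι → G}
    (he : ∀ i, e i ∈ c i) (hce : ∀ i, ∀ x ∈ c i, x = 1 ∨ x = e i)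
    (hCB : ∀ u ∈ U, u ∈ centralizer (B : Set G) → u ∈ Lam ∨ u * z⁻¹ ∈ Lam) (i m : ι) :
    ∃ b ∈ B, b * e i * b⁻¹ = e m := by
  classical
  have := Fintype.ofFinite ι
  obtain ⟨i0, hi0⟩ := h.nz
  have : Nonempty ι := ⟨i0⟩
  have he1 : ∀ i, e i ≠ 1 := by
    intro i h1
    apply h.ne i
    rw [eq_bot_iff]
    intro x hx
    rcases hce i x hx with h2 | h2
    · exact mem_bot.2 h2
    · exact mem_bot.2 (h2.trans h1)
  have heU : ∀ i, e i ∈ U := fun i => h.cU i (he i)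
  obtain ⟨act, hact⟩ := h.exists_act
  letI := instU h.comm
  letI := actU h.comm h.BU
  let e' : ι → Additive ↥U := fun i => Additive.ofMul (⟨e i, heU i⟩ : ↥U)
  obtain ⟨t, ht⟩ := (h.toFr act hact).trans (e := e') (fun i => he i) (fun i h0 => he1 i
      (congrArg (fun u : Additive ↥U => ((Additive.toMul u : ↥U) : G)) h0)) (fun i x hx => by
    rcases hce i _ hx with h1 | h1
    · left; exact Additive.toMul.injective (Subtype.ext h1)
    · right; exact Additive.toMul.injective (Subtype.ext h1)) (fun u hu => by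
    have h1 : ((Additive.toMul u : ↥U) : G) ∈ centralizer (B : Set G) := by
      intro g hg
      have h2 := congrArg (fun u : Additive ↥U => ((Additive.toMul u : ↥U) : G)) (hu ⟨g, hg⟩)
      change g * (Additive.toMul u : ↥U) * g⁻¹ = (Additive.toMul u : ↥U) at h2
      exact mul_inv_eq_iff_eq_mul.1 h2
    rcases hCB _ (Additive.toMul u : ↥U).2 h1 with h2 | h2
    · left
      intro i
      exact h.LamN i _ h2 (Additive.toMul u : ↥U).2
    · right
      intro i
      rw [mem_AA, toMul_sub, div_eq_mul_inv]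
      exact h.LamN i _ h2 (mul_mem (Additive.toMul u : ↥U).2 (inv_mem (h.VU h.zV)))) i m
  have h1 := (hact t i).2
  have ht' : act.smul t i = m := ht
  rw [ht'] at h1
  refine ⟨t, t.2, ?_⟩
  have h2 : (t : G) * e i * (t : G)⁻¹ ∈ c m := by
    rw [h1]
    exact ⟨_, he i, rfl⟩
  refine (hce m _ h2).resolve_left fun h3 => he1 i ?_
  have e1 : e i = (t : G)⁻¹ * ((t : G) * e i * (t : G)⁻¹) * t := by group
  rw [e1, h3]; group

end Cfsg.Agent.Omega.CaseLQ.PsiT

namespace Cfsg.Agent.Omega.CaseLQ.TvTwo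

open Subgroup Cfsg Cfsg.Agent.ZN Cfsg.Agent.ZN.ChoiceBase Cfsg.Agent.ZN.ChoiceSit
open Cfsg.Agent.Omega.FFThm (OffM ElemM NoOverM NatKM SymKM StmtM)
open Cfsg.Agent.Omega.NO3S.RedC (MaxMin)
open Cfsg.Agent.Omega.OM.GLev (GE)
open Cfsg.Agent.Omega.FrameFF (cv)
open Cfsg.Agent.Omega.NO3S.CaseLW.YBX (Xc mem_Xc Xc_le Concl)
open Cfsg.Agent.Omega.CaseLQ.PsiT
open Cfsg.Agent.Omega.CaseLQ.PsiYB

universe u

variable {G : Type u} [Group G]

/-- `A` acts on `U` as a group of transvections with centre `x` -/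
structure Ctr (U A : Subgroup G) (x : G) : Prop where
  tv : ∀ a ∈ A, a ∉ centralizer (U : Set G) → Tv U a x
  ne : ¬ A ≤ centralizer (U : Set G)

namespace Ctr

variable {U A : Subgroup G} {x : G}

theorem exists_tv (h : Ctr U A x) : ∃ a ∈ A, Tv U a x := by
  obtain ⟨a, ha, hac⟩ := SetLike.not_le_iff_exists.1 h.ne
  exact ⟨a, ha, h.tv a ha hac⟩

theorem eq_of (h : Ctr U A x) {a w : G} (ha : a ∈ A) (hw : w ∈ U) (hne : a * w * a⁻¹ * w⁻¹ ≠ 1) :
    a * w * a⁻¹ * w⁻¹ = x :=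
  ((h.tv a ha fun hc => hne (one_iff.2 (mem_centralizer_iff.1 hc w hw).symm)).com w hw).resolve_left hne

theorem cj (h : Ctr U A x) {g : G} (hg : g ∈ normalizer (U : Set G)) : Ctr U (ChoiceBase.cj g A) (g * x * g⁻¹) := by
  have key : ∀ a, a ∉ centralizer (U : Set G) ↔ g * a * g⁻¹ ∉ centralizer (U : Set G) := by
    intro a
    have h1 : ChoiceBase.cj g (centralizer (U : Set G)) = centralizer (U : Set G) := by
      rw [cj_centralizer, cj_eq_of_mem_normalizer hg]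
    conv_rhs => rw [← h1]
    rw [mem_cj]
    have e : g⁻¹ * (g * a * g⁻¹) * g = a := by group
    rw [e]
  refine ⟨?_, fun hc => ?_⟩
  · rintro _ ⟨a, ha, rfl⟩ hac
    exact (h.tv a ha ((key a).2 hac)).cj hg
  · obtain ⟨a, ha, hac⟩ := SetLike.not_le_iff_exists.1 h.ne
    exact (key a).1 hac (hc ⟨a, ha, rfl⟩)

end Ctr

variable [Finite G] {P T U H Y Q V Lam E A : Subgroup G} {z t d : G}

/-- all members are transvection groups -/
theorem exists_ctr (Uc : U ≤ centralizer (U : Set G)) (Us : ∀ u ∈ U, u ^ 2 = 1) (HU : H ≤ normalizer (U : Set G))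
    (no : NoOverM U H) (m : MaxMin U H E) (ht : t ∈ E) (h : Tv U t d) (mA : MaxMin U H A) : ∃ x, Ctr U A x := by
  obtain ⟨s, hs, x, hx, hc⟩ := exists_tv Uc Us HU no m ht h mA
  refine ⟨x, fun a ha hac => ?_, mA.ne⟩
  have h1 := (hc a ha).resolve_left hac
  refine ⟨HU (mA.le ha), hx.mem, fun w hw => ?_, hac⟩
  have h2 := mem_centralizer_iff.1 h1 w hw
  have e1 : a * w * a⁻¹ * w⁻¹ = s * (s⁻¹ * a * w) * (s⁻¹ * a)⁻¹ * s⁻¹ * w⁻¹ := by group
  have e2 : s * (w * (s⁻¹ * a)) * (s⁻¹ * a)⁻¹ * s⁻¹ * w⁻¹ = s * w * s⁻¹ * w⁻¹ := by group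
  rw [e1, ← h2, e2]
  exact hx.com w hw

/-- **The lines do not have order `2`.** -/
theorem dead {κ : Type} [Finite κ] {Ni c : κ → Subgroup G} {e : κ → G} (s : YS U H T Y)
    (no : NoOverM U H) (hc : Conc2 T Y U (Fam U H T) Ni c e)
    (fr : FrG (Xc U (Fam U H T)) T Q V z Lam Ni c)
    (cen : ∀ E ≤ T, MaxMin U H E → E ≤ centralizer (V : Set G)) (VU : V ≤ U) (PH : P ≤ H) (TP : T ≤ P)
    (PC : P ≤ normalizer ((T ⊓ centralizer (V : Set G) : Subgroup G) : Set G))
    (hCB : ∀ u ∈ U, u ∈ centralizer (T : Set G) → u ∈ Lam ∨ u * z⁻¹ ∈ Lam)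
    (hPL : Lam ≤ centralizer (P : Set G)) (hmv : ∃ p ∈ P, p * z * p⁻¹ ≠ z)
    (hET : E ≤ T) (m : MaxMin U H E) (hEY : ¬ E ≤ o2 Y) (ht : t ∈ E) (h : Tv U t d) : False := by
  classical
  have TH : T ≤ H := s.TY.trans s.YH
  have Uc' := s.U_mul
  have hCt : ∀ {A : Subgroup G}, MaxMin U H A → ∃ x, Ctr U A x := fun mA =>
    exists_ctr s.Uc s.Us s.HU no m ht h mA
  have hfam := bfam (U := U) (H := H) (T := T) TH
  -- `P` permutes the family
  have hFP : ∀ p ∈ P, ∀ A ∈ Fam U H T, cj p A ∈ Fam U H T := by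
    intro p hp A hA
    refine hfam.conj A hA p (s.HU (PH hp)) ?_
    have h1 : A ≤ T ⊓ centralizer (V : Set G) := by
      rcases hA.2 with h2 | h2
      · exact le_inf hA.1 (cen A hA.1 h2)
      · exact le_inf hA.1 (h2.trans (centralizer_le VU))
    have h2 := cj_mono p h1
    rw [cj_eq_of_mem_normalizer (PC hp)] at h2
    exact h2.trans inf_le_left
  -- the centre of `E`
  obtain ⟨x0, hx0⟩ := hCt m
  obtain ⟨a0, ha0, v0, hv0, i0, he0⟩ := hc.act E ⟨hET, Or.inl m⟩ hEY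
  have hene : ∀ i, e i ≠ 1 := by
    intro i h1
    apply fr.ne i
    rw [eq_bot_iff]
    intro x hx
    rcases hc.all i x hx with h2 | h2
    · exact mem_bot.2 h2
    · exact mem_bot.2 (h2.trans h1)
  have hxe : x0 = e i0 := by
    rw [← he0]
    exact (hx0.eq_of ha0 (s.VU hv0) (by rw [he0]; exact hene i0)).symm
  subst hxe
  let OO : Set G := {x | ∃ p ∈ P, x = p * e i0 * p⁻¹}
  -- a member with centre `x`
  have hmem : ∀ x ∈ OO, ∃ D, D ∈ Fam U H T ∧ MaxMin U H D ∧ Ctr U D x := by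
    rintro _ ⟨p, hp, rfl⟩
    exact ⟨cj p E, hFP p hp E ⟨hET, Or.inl m⟩, m.cj (PH hp) s.HU, hx0.cj (s.HU (PH hp))⟩
  refine fr.two_false (P := P) (e := e) OO hc.mem hc.all (fun u hu hub => hCB u (Xc_le _ _ hu) hub) TP ?_ hPL ?_ ?_
    (Set.toFinite _) ?_ ?_ ?_ hmv
  · -- `P` normalises `X'`
    intro p hp
    have key : ∀ p ∈ P, ∀ x ∈ Xc U (Fam U H T), p * x * p⁻¹ ∈ Xc U (Fam U H T) := by
      intro p hp x hx
      have hpU := s.HU (PH hp)
      refine mem_Xc.2 ⟨(mem_normalizer_iff.1 hpU x).1 (Xc_le _ _ hx), fun A hA a ha => ?_⟩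
      have h1 := hFP p⁻¹ (inv_mem hp) A hA
      have h2 := (mem_Xc.1 hx).2 _ h1 (p⁻¹ * a * p) ⟨a, ha, by simp⟩
      have h3 := congrArg (fun w => p * w * p⁻¹) h2
      simpa [mul_assoc] using h3
    rw [mem_normalizer_iff]
    intro x
    refine ⟨fun hx => key p hp x hx, fun hx => ?_⟩
    have h1 := key p⁻¹ (inv_mem hp) _ hx
    have e1 : p⁻¹ * (p * x * p⁻¹) * p⁻¹⁻¹ = x := by group
    rwa [e1] at h1
  · -- `hKL`
    intro u hu hub huN
    rcases hCB u (Xc_le _ _ hu) hub with h1 | h1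
    · exact h1
    · exfalso
      obtain ⟨i, hi⟩ := fr.nz
      apply hi
      have h2 := fr.LamN i _ h1 (mul_mem hu (inv_mem (fr.VU fr.zV)))
      have h3 := mul_mem (inv_mem h2) (huN i)
      have e1 : (u * z⁻¹)⁻¹ * u = z := by group
      rwa [e1] at h3
  · intro i
    obtain ⟨b, hb, hbe⟩ := fr.trans hc.mem hc.all (fun u hu hub => hCB u (Xc_le _ _ hu) hub) i0 i
    exact ⟨b, TP hb, hbe.symm⟩
  · rintro p hp _ ⟨p', hp', rfl⟩
    exact ⟨p * p', mul_mem hp hp', by group⟩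
  · rintro _ ⟨p, hp, rfl⟩ _ ⟨p', hp', rfl⟩
    exact ⟨p' * p⁻¹, mul_mem hp' (inv_mem hp), by group⟩
  · intro x hx
    obtain ⟨D, hDF, mD, cD⟩ := hmem x hx
    by_cases hDY : D ≤ o2 Y
    · right
      obtain ⟨sD, hsD, tD⟩ := cD.exists_tv
      refine hc.cen x tD.mem fun A hA y hy a ha => ?_
      have hyU := s.HU (s.YH hy)
      by_cases hac : a ∈ centralizer (U : Set G)
      · have h1 : y * a * y⁻¹ ∈ centralizer (U : Set G) := by
          rw [mem_centralizer_iff]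
          intro w hw
          have h2 : y⁻¹ * w * y ∈ U := by
            have := (mem_normalizer_iff.1 (inv_mem hyU) w).1 hw
            rwa [inv_inv] at this
          have h3 := mem_centralizer_iff.1 hac _ h2
          have e1 : w * (y * a * y⁻¹) = y * (y⁻¹ * w * y * a) * y⁻¹ := by group
          have e2 : y * a * y⁻¹ * w = y * (a * (y⁻¹ * w * y)) * y⁻¹ := by group
          rw [e1, e2, h3]
        exact (mem_centralizer_iff.1 h1 x tD.mem).symm
      · have mA : MaxMin U H A := by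
          rcases hA.2 with h1 | h1
          · exact h1
          · exact absurd (h1 ha) hac
        obtain ⟨xA, cA⟩ := hCt mA
        have tA := (cA.tv a ha hac).cj hyU
        -- the 2-group `T^y`
        have hR : IsPGroup 2 ↥(cj y T) := ChoiceBase.isPGroup_cj y s.syl.2.1
        have hRH : cj y T ≤ H := by
          have h1 := cj_mono y s.TY
          rw [cj_eq_of_mem_normalizer (le_normalizer hy)] at h1
          exact h1.trans s.YH
        have hoR : o2 Y ≤ cj y T := by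
          have h1 := cj_mono y (o2_le_syl s.syl)
          rwa [cj_eq_of_mem_normalizer (ChoiceSit.le_normalizer_o2 Y hy)] at h1
        exact Tv.comm_of hR Uc' s.Us (fun X hX => no X (hX.trans hRH)) (hoR (hDY hsD)) ⟨a, hA.1 ha, rfl⟩ tD tA
    · left
      obtain ⟨a, ha, v, hv, i, hai⟩ := hc.act D hDF hDY
      exact ⟨i, by rw [← hai]; exact (cD.eq_of ha (s.VU hv) (by rw [hai]; exact hene i)).symm⟩

/-- **`Y` has natural blocks over a field of order at least `4`.** -/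
theorem nat_four (s : YS U H T Y) (hFF : StmtM.{u})
    (frg : ∀ {κ : Type} [Finite κ] {Ni c : κ → Subgroup G}, Concl T Y U (Fam U H T) Ni c →
      FrG (Xc U (Fam U H T)) T Q V z Lam Ni c)
    (cen : ∀ E ≤ T, MaxMin U H E → E ≤ centralizer (V : Set G))
    (hex : ∃ E, E ≤ T ∧ MaxMin U H E ∧ ¬ E ≤ o2 Y) (VU : V ≤ U) (PH : P ≤ H) (TP : T ≤ P)
    (PC : P ≤ normalizer ((T ⊓ centralizer (V : Set G) : Subgroup G) : Set G))
    (hCB : ∀ u ∈ U, u ∈ centralizer (T : Set G) → u ∈ Lam ∨ u * z⁻¹ ∈ Lam)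
    (hPL : Lam ≤ centralizer (P : Set G)) (hmv : ∃ p ∈ P, p * z * p⁻¹ ≠ z) :
    ∃ (F : Type) (_ : Field F) (_ : Finite F) (_ : CharP F 2) (k : ℕ), 0 < k ∧ (∃ x : F, x ≠ 0 ∧ x ≠ 1) ∧
      Nonempty (NatKM F T Y (zl T Y) (cv T Y) k) := by
  classical
  obtain ⟨E, hET, m, hEY⟩ := hex
  have TH : T ≤ H := s.TY.trans s.YH
  have hfam := bfam (U := U) (H := H) (T := T) TH
  have hEF : E ∈ Fam U H T := ⟨hET, Or.inl m⟩
  have hne : ¬ E ≤ centralizer (zl T Y : Set G) := fun h => hEY ((le_inf hET h).trans s.cap)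
  have hoff := NO3S.OneLine.BFam.offM hfam s.U_mul s.VU hEF hne
  obtain ⟨noV, con⟩ := hFF G T Y s.syl s.min s.c2 ⟨E, hET.trans s.TY, hoff⟩
  have ge : GE T Y U (Fam U H T) :=
    { hm := s.hm
      fam := hfam
      elem := Cfsg.Agent.PLocal.ThompsonJ.isElementaryAbelian_iff.2 ⟨s.U_mul, s.Us⟩
      norm := s.YH.trans s.HU
      VX := s.VU
      QC := s.cap
      noOver := noV }
  have hno := noV E (hET.trans s.TY) hoff.toElemM
  obtain ⟨no, mo⟩ := m.minOff s.HU s.VU hno hne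
  have hcut := mo.cut s.VU hno hne
  have hsp : ∀ u ∈ U, ∃ v ∈ zl T Y, ∃ c ∈ U, (∀ a ∈ E, a * c = c * a) ∧ u = v * c := by
    intro u hu
    have h1 := (ge.cut hEF).2
    have h2 : u ∈ U ⊓ centralizer ((E ⊓ o2 Y : Subgroup G) : Set G) := by
      refine ⟨hu, mem_centralizer_iff.2 fun a ha => ?_⟩
      have h3 : a ∈ E ⊓ centralizer (zl T Y : Set G) := by rw [ge.inf_cent hET]; exact ha
      exact (mem_centralizer_iff.1 (hcut h3) u hu).symm
    rw [← h1] at h2
    obtain ⟨v, hv, c, hc, rfl⟩ := SQ1.Bau.mem_sup_comm (A := zl T Y) (B := U ⊓ centralizer (E : Set G))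
      (fun v hv x hx => s.U_mul v (s.VU hv) x hx.1) h2
    exact ⟨v, hv, c, hc.1, fun a ha => mem_centralizer_iff.1 hc.2 a ha, rfl⟩
  rcases con with ⟨F, _, _, _, k, hk, ⟨N⟩⟩ | ⟨k, r, hk, hr, ⟨N⟩⟩
  · by_cases hF : ∀ x : F, x = 0 ∨ x = 1
    · exfalso
      obtain ⟨Ni, c, e, hc⟩ := nat_two ge N hk hF ⟨E, hEF, hEY⟩ s.mv
      obtain ⟨t, ht, d, htv⟩ := nat_tv ge N hk hF hEF hEY hsp
      exact dead s no hc (frg hc.toConcl) cen VU PH TP PC hCB hPL hmv hET m hEY ht htv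
    · push Not at hF
      exact ⟨F, inferInstance, inferInstance, inferInstance, k, hk, hF, ⟨N⟩⟩
  · exfalso
    obtain ⟨ι, _, Ni, c, e, hc⟩ := sym_two ge s.UT N hk (by omega) ⟨E, hEF, hEY⟩ s.mv
    obtain ⟨t, ht, d, htv⟩ := sym_tv ge N hk (by omega) hEF hEY hsp
    exact dead s no hc (frg hc.toConcl) cen VU PH TP PC hCB hPL hmv hET m hEY ht htv

end Cfsg.Agent.Omega.CaseLQ.TvTwo

end

section


/-!
# The weird parabolics of the case (L), `q = 2`: the torus (#25080 (d)), the end over `Bg`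

Over `TS M (o2 P) K z` (`Torus.lean`), `Bg S P B ZJ L W Z C 2`, `V ∩ C(O₂(P)) ≤ V_P`, `Z l ≤ D` for `l ≠ j`, `|F| ≥ 4`:

* `TS.one_of` : `k = 1`, `|F| = 4`, `X0 = W j D`;
* `TS.up_of` : `O₂(P)` acts on `V` inside the product of the root groups.
-/

set_option autoImplicit false
set_option linter.unusedSectionVars false

namespace Cfsg.Agent.Omega.CaseLQ.Torus

open Subgroup Cfsg Cfsg.Agent.ZN Cfsg.Agent.ZN.ChoiceBase
open Cfsg.Agent.ZN.ChoiceSit (Syl syl_conj)
open Cfsg.Agent.MinSimple.MinParabolic (IsMinPar)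
open Cfsg.Agent.MinSimple.VModule (oddGen oddGen_le mem_oddGen)
open Cfsg.Agent.Omega.FFThm (NatK NatKM ActsSL)
open Cfsg.Agent.Omega.NO3b.K0 (conj_mem' cj_of_le cj_self min_or)
open Cfsg.Agent.Omega.NO3S.NotFF (le_normalizer_of_forall)
open Cfsg.Agent.Omega.SQ1.Bau (mem_sup_comm card_sup_comm mem_sup_norm)
open Cfsg.Agent.Omega.SQ1.FFOne (MinH syl_inf mem_norm_of)
open Cfsg.Agent.Omega.NatPair (ap ap_zero' ap_one' ap_one ap_mul ap_add ext2 ap_inv_ap ap_inj)
open Cfsg.Agent.Omega.NO3S.OneLine (NatC card_of_hom)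
open Cfsg.Agent.Omega.NO3S.EThree.Frame (Bg Fg)
open Cfsg.Agent.Lib.SL2Mat

universe u

variable {G : Type u} [Group G] [Finite G]

/-! ### Over `Bg` -/

section bg

variable {S : Sylow 2 G} {P B ZJ : Subgroup G} {ι : Type} {L W Z C : ι → Subgroup G}
  (h : Bg S P B ZJ L W Z C 2)
include h

/-- `Z_J ∩ C j ≤ ⟨Z l : l ≠ j⟩` -/
theorem ZC_le [Finite ι] (i : ι) : ZJ ⊓ C i ≤ ⨆ j : {j : ι // j ≠ i}, Z j := by
  classical
  have := Fintype.ofFinite ι
  rintro v ⟨hvJ, hv⟩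
  have hle : (⨆ j : {j : ι // j ≠ i}, Z j) ≤ C i := iSup_le fun j => (h.fr.blk j).ZV.trans (h.fr.WjC i j j.2.symm)
  have hleJ : (⨆ j : {j : ι // j ≠ i}, Z j) ≤ ZJ := iSup_le fun j => h.fr.Z_le j
  have key : ∀ s : Finset ι, i ∉ s → ∃ u ∈ ⨆ j : {j : ι // j ≠ i}, Z j, ∀ j ∈ s, u⁻¹ * v ∈ C j := by
    intro s
    induction s using Finset.induction_on with
    | empty => exact fun _ => ⟨1, one_mem _, by simp⟩
    | insert j s hj ih =>
      intro hi
      have hji : j ≠ i := fun e => hi (e ▸ Finset.mem_insert_self _ _)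
      obtain ⟨u, hu, h1⟩ := ih fun e => hi (Finset.mem_insert_of_mem e)
      obtain ⟨w, hw, c, hc, -, e⟩ := h.fr.split_ZJ j (mul_mem (inv_mem (hleJ hu)) hvJ)
      refine ⟨u * w, mul_mem hu (mem_iSup_of_mem (⟨j, hji⟩ : {j : ι // j ≠ i}) hw), fun l hl => ?_⟩
      have e1 : (u * w)⁻¹ * v = w⁻¹ * (u⁻¹ * v) := by group
      rw [e1]
      rcases Finset.mem_insert.1 hl with rfl | hl
      · rw [e]
        have : w⁻¹ * (w * c) = c := by group
        rwa [this]
      · have hlj : l ≠ j := fun e => hj (e ▸ hl)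
        exact mul_mem (inv_mem (h.fr.WjC l j hlj ((h.fr.blk j).ZV hw))) (h1 l hl)
  obtain ⟨u, hu, h1⟩ := key (Finset.univ.erase i) (Finset.notMem_erase _ _)
  have h2 : u⁻¹ * v = 1 := by
    refine h.fr.C0 _ (h.fr.ZJV (mul_mem (inv_mem (hleJ hu)) hvJ)) fun j => ?_
    by_cases hj : j = i
    · subst hj
      exact mul_mem (inv_mem (hle hu)) hv
    · exact h1 j (Finset.mem_erase.2 ⟨hj, Finset.mem_univ _⟩)
  rw [← inv_mul_eq_one.1 h2]
  exact hu

/-- A `B`-invariant subgroup of `V_P` which meets the `Z l`, `l ≠ j`, trivially lies in `W j (Z_J ∩ C j)`. -/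
theorem E_le {j : ι} {E : Subgroup G} (hE : E ≤ zl (S : Subgroup G) P) (hB : B ≤ normalizer (E : Set G))
    (hZ : ∀ l, l ≠ j → E ⊓ Z l = ⊥) : E ≤ W j ⊔ (ZJ ⊓ C j) := by
  intro x hx
  obtain ⟨w, hw, c, hc, e⟩ := h.fr.WC j x (hE hx)
  refine e ▸ mul_mem (mem_sup_left hw) (mem_sup_right (mem_inf.2 ⟨?_, hc⟩))
  refine (h.fr.mem_ZJ c).2 ⟨h.fr.CV j hc, fun b hb => ?_⟩
  have hu : b * c * b⁻¹ * c⁻¹ = 1 := by
    refine h.fr.C0 _ ?_ fun i => ?_
    · have h1 := h.fr.CV j (h.fr.BC j b hb c hc)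
      exact mul_mem h1 (inv_mem (h.fr.CV j hc))
    · by_cases hij : i = j
      · subst hij
        exact mul_mem (h.fr.BC i b hb c hc) (inv_mem hc)
      · -- the component of `x`
        obtain ⟨w', hw', c', hc', e'⟩ := h.fr.WC i x (hE hx)
        have hwZ : w' ∈ Z i := by
          by_contra hnot
          obtain ⟨z, hz, hz1⟩ : ∃ z ∈ Z i, z ≠ 1 := by
            by_contra hcon
            push Not at hcon
            exact h.Z_ne i ((eq_bot_iff_forall _).2 hcon)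
          obtain ⟨b', hb', hbC, hbe⟩ := h.root i w' hw' hnot z hz
          have h1 : c' * b' = b' * c' := mem_centralizer_iff.1 hbC c' hc'
          have h2 : b' * x * b'⁻¹ * x⁻¹ = z := by
            have e2 : b' * (w' * c') * b'⁻¹ * (w' * c')⁻¹ = b' * w' * (c' * b'⁻¹ * c'⁻¹) * w'⁻¹ := by group
            have e3 : c' * b'⁻¹ * c'⁻¹ = b'⁻¹ := by
              have e4 : c' * b'⁻¹ * c'⁻¹ = (c' * b' * c'⁻¹)⁻¹ := by group
              rw [e4, h1, mul_inv_cancel_right]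
            rw [e', e2, e3]
            exact hbe
          have h3 : z ∈ E ⊓ Z i := by
            refine mem_inf.2 ⟨?_, hz⟩
            rw [← h2]
            exact mul_mem ((mem_normalizer_iff.1 (hB hb') x).1 hx) (inv_mem hx)
          rw [hZ i hij, mem_bot] at h3
          exact hz1 h3
        have hwi : w⁻¹ * c' ∈ C i := mul_mem (inv_mem (h.fr.WjC i j hij hw)) hc'
        have hc2 : c = w' * (w⁻¹ * c') := by
          have h5 : c = w⁻¹ * x := by rw [e]; group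
          have h6 : w⁻¹ * w' = w' * w⁻¹ :=
            h.fr.Vc (inv_mem (h.fr.WV j hw)) (h.fr.WV i hw')
          rw [h5, e', ← mul_assoc, h6, mul_assoc]
        have h7 : b * w' = w' * b := (h.fr.blk i).cZ b hb w' hwZ
        have h8 := h.fr.BC i b hb _ hwi
        have h9 : b * c * b⁻¹ * c⁻¹ = w' * ((b * (w⁻¹ * c') * b⁻¹) * (w⁻¹ * c')⁻¹) * w'⁻¹ := by
          rw [hc2]
          calc b * (w' * (w⁻¹ * c')) * b⁻¹ * (w' * (w⁻¹ * c'))⁻¹
              = (b * w') * (w⁻¹ * c') * b⁻¹ * (w⁻¹ * c')⁻¹ * w'⁻¹ := by group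
            _ = (w' * b) * (w⁻¹ * c') * b⁻¹ * (w⁻¹ * c')⁻¹ * w'⁻¹ := by rw [h7]
            _ = _ := by group
        have h10 : (b * (w⁻¹ * c') * b⁻¹) * (w⁻¹ * c')⁻¹ ∈ C i := mul_mem h8 (inv_mem hwi)
        rw [h9, h.fr.Vc (h.fr.WV i hw') (h.fr.CV i h10), mul_inv_cancel_right]
        exact h10
  exact mul_inv_eq_iff_eq_mul.1 (mul_inv_eq_one.1 hu)

/-- the order of `E` -/
theorem E_card {j : ι} {E : Subgroup G} (hE : E ≤ W j ⊔ (ZJ ⊓ C j)) (h0 : E ⊓ (ZJ ⊓ C j) = ⊥) :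
    Nat.card E ≤ 4 ∧ (Nat.card E = 4 → W j ≤ E ⊔ (ZJ ⊓ C j)) := by
  have hWV : W j ⊔ (ZJ ⊓ C j) ≤ zl (S : Subgroup G) P := sup_le (h.fr.WV j) (inf_le_left.trans h.fr.ZJV)
  have hEV := hE.trans hWV
  have hJV : ZJ ⊓ C j ≤ zl (S : Subgroup G) P := inf_le_left.trans h.fr.ZJV
  have c1 := card_sup_comm (A := E) (B := ZJ ⊓ C j) fun a ha b hb => h.fr.Vc (hEV ha) (hJV hb)
  have c2 := card_sup_comm (A := W j) (B := ZJ ⊓ C j) fun a ha b hb => h.fr.Vc (h.fr.WV j ha) (hJV hb)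
  have h1 : W j ⊓ (ZJ ⊓ C j) = ⊥ := by
    rw [eq_bot_iff, ← h.fr.dir j]
    exact inf_le_inf_left _ inf_le_right
  rw [h0, card_bot, mul_one] at c1
  rw [h1, card_bot, mul_one, (h.fr.blk j).card, h.fr.cardZ j] at c2
  have hp : 0 < Nat.card ↥(ZJ ⊓ C j) := Nat.card_pos
  have hle : E ⊔ (ZJ ⊓ C j) ≤ W j ⊔ (ZJ ⊓ C j) := sup_le hE le_sup_right
  have c3 := Subgroup.card_le_of_le hle
  rw [c1, c2] at c3
  refine ⟨Nat.le_of_mul_le_mul_right c3 hp, fun h4 => ?_⟩
  have h5 : E ⊔ (ZJ ⊓ C j) = W j ⊔ (ZJ ⊓ C j) := by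
    refine Subgroup.eq_of_le_of_card_ge hle ?_
    rw [c1, c2, h4]
  rw [h5]
  exact le_sup_left

end bg

namespace TS

variable {F : Type} [Field F] {B Y V D : Subgroup G} {k : ℕ} {M : NatC F B Y V D k} {Q K : Subgroup G} {z : G}

omit [Finite G] in
/-- `|E1| = |F|^k` -/
theorem card_E {E : Subgroup G} (hE : E ≤ X0 M) (h0 : E ⊓ D = ⊥)
    (hc : ∀ v ∈ X0 M, ∃ c ∈ E, M.nat.e c = M.nat.e v) : Nat.card E = Nat.card F ^ k := by
  have h1 := card_of_hom (K := E) (L := ⊥) bot_le (fun v (i : Fin k) => M.nat.e v i 0) ?_ ?_ ?_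
  · rw [h1, card_bot, one_mul, Nat.card_fun, Nat.card_fin]
  · intro x hx y hy
    funext i
    rw [M.nat.mul x (hE hx).1 y (hE hy).1]
    rfl
  · intro x
    obtain ⟨w, hw, ew⟩ := M.nat.surj fun i => ![x i, 0]
    obtain ⟨c, hcE, ec⟩ := hc w ⟨hw, fun i => by rw [ew]; rfl⟩
    refine ⟨c, hcE, ?_⟩
    funext i
    rw [ec, ew]
    rfl
  · intro v hv
    constructor
    · intro h2
      rw [← h0]
      refine mem_inf.2 ⟨hv, ?_⟩
      rw [← M.nat.ker v (hE hv).1]
      funext i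
      exact ext2 (congrFun h2 i) ((hE hv).2 i)
    · intro h2
      rw [mem_bot] at h2
      rw [h2, M.map_one]
      rfl

theorem exists_ne_two [Finite F] (h4 : 4 ≤ Nat.card F) (a b : F) : ∃ c : F, c ≠ a ∧ c ≠ b := by
  classical
  have := Fintype.ofFinite F
  by_contra hcon
  push Not at hcon
  have h1 : (Finset.univ : Finset F) ⊆ {a, b} := fun c _ => by
    by_cases hc : c = a
    · simp [hc]
    · simp [hcon c hc]
  have h2 := Finset.card_le_card h1
  have h3 : ({a, b} : Finset F).card ≤ 2 := Finset.card_le_two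
  rw [Finset.card_univ, ← Nat.card_eq_fintype_card] at h2
  omega

variable {S : Sylow 2 G} {P ZJ : Subgroup G} {ι : Type} {L W Z C : ι → Subgroup G} [CharP F 2]

/-- **(d)** : one block, `|F| = 4`, `X0 = W j D`. -/
theorem one_of [Finite ι] [Finite F] (h : Bg S P B ZJ L W Z C 2) {j : ι} (t : TS M (o2 P) K z) (h4 : 4 ≤ Nat.card F)
    (hVQ : V ⊓ centralizer (o2 P : Set G) ≤ zl (S : Subgroup G) P) (hZD : ∀ l, l ≠ j → Z l ≤ D) :
    (∃ E1 : Subgroup G, E1 ≤ X0 M ∧ o2 P ≤ centralizer (E1 : Set G) ∧ E1 ⊓ D = ⊥ ∧ B ≤ normalizer (E1 : Set G) ∧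
      ∀ v ∈ X0 M, ∃ c ∈ E1, M.nat.e c = M.nat.e v) ∧ k = 1 ∧ Nat.card F = 4 ∧ X0 M = W j ⊔ D := by
  have hF : ∀ a : F, ∃ c : F, c ≠ 0 ∧ c ≠ a := fun a => exists_ne_two h4 0 a
  obtain ⟨E1, hE, hEQ, hED, hEB, hEc⟩ := t.main hF (hF 1)
  have hEV : E1 ≤ zl (S : Subgroup G) P := fun x hx => hVQ ⟨(hE hx).1, (le_centralizer_iff.1 hEQ) hx⟩
  have hZ : ∀ l, l ≠ j → E1 ⊓ Z l = ⊥ := fun l hl => by
    rw [eq_bot_iff, ← hED]
    exact inf_le_inf_left _ (hZD l hl)
  have hJD : ZJ ⊓ C j ≤ D := (ZC_le h j).trans (iSup_le fun l => hZD l l.2)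
  have h1 := E_le h hEV hEB hZ
  have h2 : E1 ⊓ (ZJ ⊓ C j) = ⊥ := by
    rw [eq_bot_iff, ← hED]
    exact inf_le_inf_left _ hJD
  obtain ⟨h3, h5⟩ := E_card h h1 h2
  have hk : 0 < k := M.pos
  have hcard := card_E (M := M) hE hED hEc
  have hk1 : k = 1 := by
    by_contra hne
    have hk2 : 2 ≤ k := by omega
    have h6 : 4 ^ 2 ≤ Nat.card F ^ k :=
      (Nat.pow_le_pow_left h4 2).trans (Nat.pow_le_pow_right (by omega) hk2)
    omega
  have hc4 : Nat.card F = 4 := by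
    rw [hk1, pow_one] at hcard
    omega
  have hE4 : Nat.card E1 = 4 := by rw [hcard, hk1, pow_one, hc4]
  have h6 := h5 hE4
  refine ⟨⟨E1, hE, hEQ, hED, hEB, hEc⟩, hk1, hc4, le_antisymm ?_ (sup_le ?_ (D_le_X0 M))⟩
  · intro v hv
    obtain ⟨c, hc, ec⟩ := hEc v hv
    have h7 := div_mem M hv.1 (hE hc).1 ec.symm
    have h8 : v = v * c⁻¹ * c := by group
    rw [h8]
    refine mul_mem (mem_sup_right h7) ?_
    exact (h1.trans (sup_le le_sup_left (hJD.trans le_sup_right))) hc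
  · exact h6.trans (sup_le hE (hJD.trans (D_le_X0 M)))

end TS

end Cfsg.Agent.Omega.CaseLQ.Torus

end

section


/-!
# The weird parabolics of the case (L), `q = 2`: the torus (#25080 (d)), the instance

* `ts_of` : the situation `TS` of `Torus.lean` from `WY S P B Y`, `KSh S P Y U K 𝒜`, `NatKM .. k` and the maximality of
  `|DX S P Y|` (no `Bg`: it serves natural blocks and `S₅`);
* `TS.up_of` : `O₂(P)` acts inside the root groups;
* `nat_of` : **(d)** over `MulL .. 2`: the field `nat` of `TorP` (`WY/Tor/Lit.lean`).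
-/

set_option autoImplicit false
set_option linter.unusedSectionVars false

namespace Cfsg.Agent.Omega.CaseLQ.Torus

open Subgroup Cfsg Cfsg.Agent.ZN Cfsg.Agent.ZN.ChoiceBase
open Cfsg.Agent.ZN.ChoiceSit (Syl syl_conj)
open Cfsg.Agent.MinSimple.MinParabolic (IsMinPar)
open Cfsg.Agent.MinSimple.VModule (oddGen oddGen_le mem_oddGen)
open Cfsg.Agent.Omega.FFThm (NatK NatKM ActsSL OffM)
open Cfsg.Agent.Omega.FrameFF (cv)
open Cfsg.Agent.Omega.NO1.BestOff (Best)
open Cfsg.Agent.Omega.NO3b.Wc (WC)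
open Cfsg.Agent.Omega.NO3b.K0 (conj_mem' cj_of_le cj_self min_or)
open Cfsg.Agent.Omega.NO3S.NotFF (le_normalizer_of_forall)
open Cfsg.Agent.Omega.NO3S.Fld (kmod mem_kmod norm_kmod kmod_le)
open Cfsg.Agent.Omega.SQ1.FFOne (MinH syl_inf mem_norm_of)
open Cfsg.Agent.Omega.NatPair (ap ap_zero' ap_one' ap_one ap_mul ap_add ext2 ap_inv_ap ap_inj)
open Cfsg.Agent.Omega.NO3S.OneLine (NatC natC_of)
open Cfsg.Agent.Omega.NO3S.EThree.Frame (Bg Fg)
open Cfsg.Agent.Omega.NO3S.Level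
open Cfsg.Agent.Omega.NO3S.RedC
open Cfsg.Agent.Omega.NO3S.WY
open Cfsg.Agent.Omega.Node.MulX (MulL)
open Cfsg.Agent.Lib.SL2Mat

universe u

variable {G : Type u} [Group G] [Finite G]

/-! ### `C_B(V / D) = O₂(Y)` -/

theorem odd_not {B Y : Subgroup G} (hs : Syl B Y) (mv : ¬ Y ≤ centralizer (zc B : Set G)) :
    ¬ oddGen Y ≤ centralizer (zl B Y : Set G) := by
  intro h0
  apply mv
  rw [← NO3b.EZero.oddGen_sup_syl hs]
  exact sup_le (h0.trans (centralizer_le SQ1.VOf.zc_le_zl)) (NO3S.Level.le_centralizer_zc _)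

/-- `C_B(V / C_V(O²(Y))) ≤ O₂(Y)` (749's `OY.cap'`) -/
theorem capD {B Y : Subgroup G} (hm : MinH Y B) (hmin : IsMinPar B Y) (mv : ¬ Y ≤ centralizer (zc B : Set G)) {x : G}
    (hx : x ∈ B) (h : ∀ v ∈ zl B Y, x * v * x⁻¹ * v⁻¹ ∈ cv B Y) : x ∈ o2 Y := by
  have hs := hm.syl
  have YV : Y ≤ normalizer (zl B Y : Set G) := MinSimple.VModule.le_normalizer_zl B Y
  have hD : Y ≤ normalizer (cv B Y : Set G) := le_normalizer_of_forall fun g hg d hd => SQ1.FFOf.cv_norm g hg d hd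
  rcases min_or hs hmin (K := kmod Y (zl B Y) (cv B Y) YV hD) kmod_le (norm_kmod _ _) with h2 | h2
  · refine absurd ?_ (odd_not hs mv)
    have hcl : oddGen Y = closure {x : G | x ∈ Y ∧ Odd (orderOf x)} := rfl
    rw [hcl, closure_le]
    rintro g ⟨hg, ho⟩
    have hgo : g ∈ oddGen Y := mem_oddGen hg ho
    refine mem_centralizer_iff.2 fun v hv => ?_
    have h3 := (mem_kmod.1 (h2 hgo)).2 v hv
    set d := g * v * g⁻¹ * v⁻¹ with hd
    have hgd : g * d = d * g := mem_centralizer_iff.1 h3.2 g hgo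
    have h4 : ∀ n : ℕ, g ^ n * v * (g ^ n)⁻¹ = d ^ n * v := by
      intro n
      induction n with
      | zero => simp
      | succ n ih =>
        have e1 : g ^ (n + 1) * v * (g ^ (n + 1))⁻¹ = g * (g ^ n * v * (g ^ n)⁻¹) * g⁻¹ := by
          rw [pow_succ']; group
        have e2 : g * (d ^ n * v) * g⁻¹ = (g * d ^ n * g⁻¹) * (g * v * g⁻¹) := by group
        have e3 : g * d ^ n * g⁻¹ = d ^ n := by
          have : Commute g (d ^ n) := (show Commute g d from hgd).pow_right n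
          rw [this.eq, mul_inv_cancel_right]
        have e4 : g * v * g⁻¹ = d * v := by rw [hd]; group
        rw [e1, ih, e2, e3, e4, pow_succ, ← mul_assoc]
    have h5 := h4 (orderOf g)
    rw [pow_orderOf_eq_one, one_mul, inv_one, mul_one] at h5
    have h6 : d ^ orderOf g = 1 := (mul_eq_right.1 h5.symm)
    have h7 : d ^ 2 = 1 := SQ1.VOf.MinH.sq hm d h3.1
    obtain ⟨r, hr⟩ := ho
    rw [hr, pow_succ, pow_mul, h7, one_pow, one_mul] at h6
    have e5 : g * v = d * v * g := by rw [hd]; group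
    rw [e5, h6, one_mul]
  · exact h2 ⟨hx, mem_kmod.2 ⟨hs.1 hx, h⟩⟩

/-! ### The instance of `TS` -/

section ts

variable {S : Sylow 2 G} {P B Y U K : Subgroup G} {𝒜 : Set (Subgroup G)} {F : Type} [Field F] [Finite F] [CharP F 2]
  {k : ℕ}

/-- `K` consists of upper unitriangular elements. -/
theorem K_up (wy : WY S P B Y) (ks : KSh S P Y U K 𝒜) (Uc : U ≤ centralizer (U : Set G)) (VU : zl B Y ≤ U)
    (N : NatKM F B Y (zl B Y) (cv B Y) k) (hk : 0 < k) {M : NatC F B Y (zl B Y) (cv B Y) k}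
    (hM : M.nat = N.toNatK) : K ≤ TS.UX M := by
  rw [ks.eq]
  have hAB : ∀ A ∈ 𝒜, A ≤ B := fun A hA => (ks.leP A hA).trans wy.QT
  have hm : MinH Y B := SQ1.FFOne.minH_of wy.syl wy.min wy.c2
  refine sup_le ?_ (sSup_le fun A hA => ?_)
  · refine (DX_le_X _ _ _).trans fun x hx => ?_
    have hxY : x ∈ Y := wy.T_Y (wy.o2Y_T hx)
    exact TS.CY_le_UX M (mem_inf.2 ⟨hxY, mem_centralizer_iff.2 fun v hv => (M.VcQ x hx v hv).symm⟩)
  · intro a ha
    have haY : a ∈ Y := wy.T_Y (hAB A hA ha)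
    rcases best_or Uc VU (ks.best A hA) with h1 | h1
    · exact TS.CY_le_UX M (mem_inf.2 ⟨haY, h1 ha⟩)
    · obtain ⟨I, h2, -⟩ := N.offM A (hAB A hA) h1
      obtain ⟨b, -, hb⟩ := h2 a ha
      exact ⟨haY, b, by rw [hM]; exact hb⟩

/-- `K` induces all upper unitriangular elements. -/
theorem K_full (wy : WY S P B Y) (ks : KSh S P Y U K 𝒜) (Uc : U ≤ centralizer (U : Set G)) (VU : zl B Y ≤ U)
    (N : NatKM F B Y (zl B Y) (cv B Y) k) (hk : 0 < k) {M : NatC F B Y (zl B Y) (cv B Y) k}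
    (hM : M.nat = N.toNatK) (b : Fin k → F) : ∃ t ∈ K, ActsSL M.nat.e (zl B Y) (cv B Y) t fun i => up (b i) := by
  classical
  have hm : MinH Y B := SQ1.FFOne.minH_of wy.syl wy.min wy.c2
  have hAB : ∀ A ∈ 𝒜, A ≤ B := fun A hA => (ks.leP A hA).trans wy.QT
  have hKup := K_up wy ks Uc VU N hk hM
  have hBS : B ≤ (S : Subgroup G) := wy.TS
  have hBY : B ≤ Y := wy.T_Y
  have hcap : B ⊓ centralizer (zl B Y : Set G) ≤ o2 Y := fun x hx => by
    refine capD hm wy.min wy.mv hx.1 fun v hv => ?_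
    rw [mem_centralizer_iff.1 hx.2 v hv |>.symm, mul_inv_cancel_right, mul_inv_cancel]
    exact one_mem _
  -- a member which moves `V`
  obtain ⟨A, hA, hAY⟩ := ks.exists_act
  have hAc : ¬ A ≤ centralizer (zl B Y : Set G) := fun hc => hAY ((le_inf (hAB A hA) hc).trans hcap)
  have hAoff : OffM (zl B Y) A := (best_or Uc VU (ks.best A hA)).resolve_left hAc
  obtain ⟨I, h1, h2⟩ := N.offM A (hAB A hA) hAoff
  rw [← hM] at h1 h2
  -- `I` is not empty
  obtain ⟨i₀, hi₀⟩ : I.Nonempty := by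
    by_contra hcon
    rw [Set.not_nonempty_iff_eq_empty] at hcon
    apply hAc
    intro a ha
    obtain ⟨b, hb0, hb⟩ := h1 a ha
    have hb1 : b = 0 := by
      funext l
      exact hb0 l (by rw [hcon]; simp)
    subst hb1
    have hs : a ∈ M.stab := by
      refine ⟨hBY (hAB A hA ha), fun w hw l => ?_, hb.2⟩
      have h5 : M.nat.e (a * w * a⁻¹) l = ap (up ((0 : Fin k → F) l)) (M.nat.e w l) := hb.1 w hw l
      rw [Pi.zero_apply, up_zero] at h5
      exact h5
    exact mem_centralizer_iff.2 fun w hw => (M.cent_of_stab hm hs hw).symm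
  -- the additive subgroup of the induced elements
  let R : AddSubgroup (Fin k → F) :=
    { carrier := {b | ∃ t ∈ K, ActsSL M.nat.e (zl B Y) (cv B Y) t fun i => up (b i)}
      add_mem' := by
        rintro b c ⟨t, ht, htb⟩ ⟨s, hs, hsc⟩
        refine ⟨t * s, mul_mem ht hs, ?_, fun d hd => ?_⟩
        · have h3 := NatC.acts_mul (M := M) (hBY (wy.QT (ks.le hs))) htb.1 hsc.1
          have e : ((fun i => up (b i)) * fun i => up (c i)) = fun i => up ((b + c) i) := by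
            funext i
            rw [Pi.mul_apply, up_mul, Pi.add_apply]
          rwa [e] at h3
        · have e1 : Commute t d := htb.2 d hd
          have e2 : Commute s d := hsc.2 d hd
          exact (e1.mul_left e2).eq
      zero_mem' := ⟨1, one_mem _, by
        have h3 := NatC.acts_one (M := M)
        have e : (1 : Fin k → Matrix.SpecialLinearGroup (Fin 2) F) = fun i => up ((0 : Fin k → F) i) := by
          funext i
          rw [Pi.zero_apply, up_zero, Pi.one_apply]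
        rwa [e] at h3, fun d _ => by simp⟩
      neg_mem' := by
        rintro b ⟨t, ht, htb⟩
        refine ⟨t⁻¹, inv_mem ht, ?_, fun d hd => ?_⟩
        · have h3 := NatC.acts_inv (M := M) (hBY (wy.QT (ks.le ht))) htb.1
          have e : (fun i => up (b i))⁻¹ = fun i => up ((-b) i) := by
            funext i
            rw [Pi.inv_apply, up_inv, Pi.neg_apply]
          rwa [e] at h3
        · have e1 : Commute t d := htb.2 d hd
          exact e1.inv_left.eq }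
  -- the single elements
  have hsing : ∀ i (x : F), Pi.single i x ∈ R := by
    intro i x
    obtain ⟨s, hs, hst⟩ := M.nat.trans i₀ i
    have hA' : cj s A ∈ 𝒜 := ks.conj A hA s (hBS hs)
    have hsY := hBY hs
    -- an element of `A` which acts on the block `i₀` only
    obtain ⟨a, ha, haa⟩ := h2 (Pi.single i₀ 1) fun l hl => by
      rw [Pi.single_eq_of_ne]
      rintro rfl
      exact hl hi₀
    have haY := hBY (hAB A hA ha)
    obtain ⟨v, hv, hev⟩ := M.nat.surj fun _ => ![0, 1]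
    have hav := M.Vn a haY v hv
    set w := a * v * a⁻¹ * v⁻¹ with hw
    have hwV : w ∈ zl B Y := mul_mem hav (inv_mem hv)
    have hw0 : M.nat.e w i₀ ≠ 0 := by
      have h3 : M.nat.e (a * v * a⁻¹) i₀ = ap (up ((Pi.single i₀ 1 : Fin k → F) i₀)) (M.nat.e v i₀) := haa.1 v hv i₀
      rw [hw, M.map_div hav hv, Pi.sub_apply, h3, Pi.single_eq_same, hev]
      intro h4
      have h5 := congrFun h4 0
      rw [Pi.sub_apply, ap_zero', up_00, up_01] at h5
      simp at h5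
    have hsw0 : M.nat.e (s * w * s⁻¹) i ≠ 0 := fun h3 => hw0 ((hst w hwV).1 h3)
    -- the conjugate offender acts on the block `i`
    have hA'c : ¬ cj s A ≤ centralizer (zl B Y : Set G) := by
      intro hc
      apply hsw0
      have h3 : s * a * s⁻¹ ∈ cj s A := ⟨a, ha, rfl⟩
      have h4 := mem_centralizer_iff.1 (hc h3) _ (M.Vn s hsY v hv)
      have h5 : s * w * s⁻¹ = 1 := by
        calc s * w * s⁻¹ = (s * a * s⁻¹) * (s * v * s⁻¹) * (s * a * s⁻¹)⁻¹ * (s * v * s⁻¹)⁻¹ := by rw [hw]; group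
          _ = 1 := by rw [← h4]; group
      rw [h5, M.map_one]
      rfl
    obtain ⟨I', h1', h2'⟩ := N.offM (cj s A) (hAB _ hA') ((best_or Uc VU (ks.best _ hA')).resolve_left hA'c)
    rw [← hM] at h1' h2'
    have hi : i ∈ I' := by
      by_contra hi
      apply hsw0
      have h3 : s * a * s⁻¹ ∈ cj s A := ⟨a, ha, rfl⟩
      obtain ⟨c, hc0, hc⟩ := h1' _ h3
      have hsv := M.Vn s hsY v hv
      have h4 : M.nat.e ((s * a * s⁻¹) * (s * v * s⁻¹) * (s * a * s⁻¹)⁻¹) i =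
        ap (up (c i)) (M.nat.e (s * v * s⁻¹) i) := hc.1 _ hsv i
      have h5 := M.Vn _ (hBY (hAB _ hA' h3)) _ hsv
      have h6 : s * w * s⁻¹ = (s * a * s⁻¹) * (s * v * s⁻¹) * (s * a * s⁻¹)⁻¹ * (s * v * s⁻¹)⁻¹ := by rw [hw]; group
      rw [h6, M.map_div h5 hsv, Pi.sub_apply, h4, hc0 i hi, up_zero, ap_one, sub_self]
    obtain ⟨t, ht, hta⟩ := h2' (Pi.single i x) fun l hl => by
      rw [Pi.single_eq_of_ne]
      rintro rfl
      exact hl hi
    exact ⟨t, ks.mem_le hA' ht, hta⟩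
  have h3 : b ∈ R := by
    have h4 : b = ∑ i, Pi.single i (b i) := (Finset.univ_sum_single b).symm
    rw [h4]
    exact sum_mem fun i _ => hsing i (b i)
  exact h3

/-- **The situation `TS`.** -/
theorem ts_of (wy : WY S P B Y) (ks : KSh S P Y U K 𝒜) (Uc : U ≤ centralizer (U : Set G)) (VU : zl B Y ≤ U)
    (N : NatKM F B Y (zl B Y) (cv B Y) k) (hk : 0 < k) {M : NatC F B Y (zl B Y) (cv B Y) k}
    (hM : M.nat = N.toNatK) {z : G} (hz : z ∈ zc B) (hzD : z ∉ cv B Y)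
    (mx : ∀ Y' : Subgroup G, WY S P B Y' → Y' ≤ Y → (∃ y ∈ Y', y * z ≠ z * y) →
      Nat.card (DX (S : Subgroup G) P Y') ≤ Nat.card (DX (S : Subgroup G) P Y)) : TS M (o2 P) K z := by
  have hm : MinH Y B := SQ1.FFOne.minH_of wy.syl wy.min wy.c2
  have hBS : B ≤ (S : Subgroup G) := wy.TS
  have hBY : B ≤ Y := wy.T_Y
  have hup := K_up wy ks Uc VU N hk hM
  have hPS : (S : Subgroup G) ≤ P := wy.parP.le
  exact
    { hm := hm
      min := wy.min
      QB := wy.QT
      BQ := (hBS.trans hPS).trans (ZN.le_normalizer_o2 _)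
      KQ := ks.le
      KR := hup.trans (TS.UX_le M)
      KM := K_full wy ks Uc VU N hk hM
      Kc := by
        have hc : K ≤ centralizer (X0 M : Set G) := by
          rw [ks.eq]
          refine sup_le ?_ (sSup_le fun A hA => ?_)
          · exact fun x hx => mem_centralizer_iff.2 fun v hv =>
              (M.VcQ x (DX_le_X _ _ _ hx) v (X0_le M hv)).symm
          · intro a ha
            refine mem_centralizer_iff.2 fun v hv => ?_
            refine (cent_natL hm N hk Uc VU ((ks.leP A hA).trans wy.QT) (ks.best A hA) hv.1 (fun i => ?_) ha).symm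
            have := hv.2 i
            rwa [hM] at this
        exact hc
      zV := SQ1.VOf.zc_le_zl hz
      zB := fun b hb => (ChoiceBase.mem_zc.1 hz).2.2 b hb
      zD := hzD
      NB := inf_le_right.trans (WC.norm_le wy.cl.wc wy.QT hBS)
      Kw := fun R h1 h2 => WC.norm_le ks.wc h1 (h2.trans hBS)
      mp := by
        intro Y' hY' hYY hYK hmv
        have hBY' : B ≤ Y' := hY'.le
        have hsyl : Syl B Y' := ⟨hBY', hm.syl.2.1, fun R hR hR2 hBR => hm.syl.2.2 R (hR.trans hYY) hR2 hBR⟩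
        by_cases hQ : o2 P ≤ o2 Y'
        · exact (ZN.le_normalizer_o2 _).trans
            (WC.norm_le wy.cl.wc hQ ((ChoiceSit.o2_le_syl hsyl).trans hBS))
        · exfalso
          have hKB : K ≤ B := ks.le.trans wy.QT
          have hK2 : IsPGroup 2 K := hm.syl.2.1.to_le hKB
          have hKo : K ≤ o2 Y' := MinSimple.VModule.le_o2 (hKB.trans hBY') hK2 hYK
          have hoo : o2 Y ≤ o2 Y' := MinSimple.VModule.le_o2 (wy.o2Y_T.trans hBY')
            (hm.syl.2.1.to_le wy.o2Y_T) (hYY.trans (ZN.le_normalizer_o2 _))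
          have hwy : WY S P B Y' := WY.of_mv wy.cl hBS wy.QT hsyl hY'
            (le_trans (inf_le_inf hYY (centralizer_le hoo)) (wy.c2.trans hoo))
            (fun hc => by
              obtain ⟨y, hy, hne⟩ := hmv
              exact hne ((mem_centralizer_iff.1 (hc hy) z hz).symm))
            hQ ((wy.jD.trans ks.DX_le).trans hKo)
          have h1 := mx Y' hwy hYY hmv
          have h2 := ks.card_lt_of_le hKo
          omega }

end ts

end Cfsg.Agent.Omega.CaseLQ.Torus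

end

section


/-!
# The weird parabolics of the case (L), `q = 2`: the torus (#25080 (d)), the field `nat` of `TorP`

* `TS.up_of` : `O₂(P)` acts on `V` inside the product of the root groups;
* `nat_of` : **(d)** over `MulL .. 2`: one block, `|F| = 4`, the line is `V_j`.
-/

set_option autoImplicit false
set_option linter.unusedSectionVars false

namespace Cfsg.Agent.Omega.CaseLQ.Torus

open Subgroup Cfsg Cfsg.Agent.ZN Cfsg.Agent.ZN.ChoiceBase
open Cfsg.Agent.ZN.ChoiceSit (Syl syl_conj)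
open Cfsg.Agent.MinSimple.MinParabolic (IsMinPar)
open Cfsg.Agent.MinSimple.VModule (oddGen oddGen_le mem_oddGen)
open Cfsg.Agent.Omega.FFThm (NatK NatKM ActsSL OffM)
open Cfsg.Agent.Omega.FrameFF (cv)
open Cfsg.Agent.Omega.NO1.BestOff (Best)
open Cfsg.Agent.Omega.NO3b.Wc (WC)
open Cfsg.Agent.Omega.SQ1.FFOne (MinH syl_inf mem_norm_of)
open Cfsg.Agent.Omega.NatPair (ap ap_zero' ap_one' ap_one ap_mul ap_add ext2 ap_inv_ap ap_inj)
open Cfsg.Agent.Omega.NO3S.OneLine (NatC natC_of)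
open Cfsg.Agent.Omega.NO3S.EThree.Frame (Bg Fg)
open Cfsg.Agent.Omega.NO3S.Level
open Cfsg.Agent.Omega.NO3S.RedC
open Cfsg.Agent.Omega.NO3S.WY
open Cfsg.Agent.Omega.Node.MulX (MulL)
open Cfsg.Agent.Lib.SL2Mat

universe u

variable {G : Type u} [Group G] [Finite G]

section up

variable {F : Type} [Field F] [CharP F 2] {B Y V D : Subgroup G} {k : ℕ} {M : NatC F B Y V D k} {Q K : Subgroup G}
  {z : G}

/-- **`Q` acts inside the root groups.** -/
theorem TS.up_of (t : TS M Q K z) (cap : ∀ x ∈ B, (∀ v ∈ V, x * v * x⁻¹ * v⁻¹ ∈ D) → x ∈ o2 Y) {E1 : Subgroup G}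
    (hE : E1 ≤ X0 M) (hEQ : Q ≤ centralizer (E1 : Set G)) (hEc : ∀ v ∈ X0 M, ∃ c ∈ E1, M.nat.e c = M.nat.e v)
    {c : G} (hc : c ∈ Q) : ∃ b : Fin k → F, ActsSL M.nat.e V D c fun i => up (b i) := by
  classical
  have hcT := t.QB hc
  have hcH := t.BY hcT
  have hV : ∀ g ∈ Y, ∀ v ∈ V, g * v * g⁻¹ ∈ V := M.Vn
  -- the elements on the lines
  have hz : ∀ i (x : F), ∃ z ∈ E1, M.nat.e z i = ![x, 0] ∧ ∀ j, j ≠ i → M.nat.e z j = 0 := by
    intro i x
    obtain ⟨w, hw, ew⟩ := M.nat.surj (Pi.single i ![x, 0])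
    obtain ⟨c, hc, ec⟩ := hEc w ⟨hw, fun j => by
      rw [ew]
      by_cases hj : j = i
      · subst hj; rw [Pi.single_eq_same]; rfl
      · rw [Pi.single_eq_of_ne hj]; rfl⟩
    refine ⟨c, hc, by rw [ec, ew, Pi.single_eq_same], fun j hj => by rw [ec, ew, Pi.single_eq_of_ne hj]⟩
  obtain ⟨σ, hσ⟩ := M.nat.perm c hcH
  have hcz : ∀ z ∈ E1, c * z * c⁻¹ = z := fun z hz => by
    have h3 := mem_centralizer_iff.1 (hEQ hc) z hz
    rw [← h3, mul_inv_cancel_right]
  have hσi : ∀ i, σ i = i := by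
    intro i
    obtain ⟨z, hzZ, hz1, hz2⟩ := hz i 1
    by_contra hne
    have h3 := (hσ z (hE hzZ).1 i).1 (by rw [hcz z hzZ]; exact hz2 _ hne)
    rw [hz1] at h3
    have h5 := congrFun h3 0
    simp at h5
  have hcV : ∀ v ∈ V, c * v * c⁻¹ ∈ V := hV c hcH
  have hs : ∀ i (x : Fin 2 → F), ∃ v ∈ V, M.nat.e v i = x := fun i x => by
    obtain ⟨v, hv, hev⟩ := M.nat.surj fun _ => x
    exact ⟨v, hv, by rw [hev]⟩
  choose r hr hrx using hs
  have hdiv : ∀ v ∈ V, ∀ w ∈ V, M.nat.e (v * w⁻¹) = M.nat.e v - M.nat.e w := fun v hv w hw => M.map_div hv hw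
  have hφ : ∀ i, ∀ v ∈ V, M.nat.e (c * v * c⁻¹) i = M.nat.e (c * r i (M.nat.e v i) * c⁻¹) i := by
    intro i v hv
    have hw := hr i (M.nat.e v i)
    have h3 : M.nat.e (v * (r i (M.nat.e v i))⁻¹) i = 0 := by
      rw [hdiv v hv _ hw, Pi.sub_apply, hrx, sub_self]
    have h4 := (hσ _ (mul_mem hv (inv_mem hw)) i).2 h3
    rw [hσi] at h4
    have e1 : c * (v * (r i (M.nat.e v i))⁻¹) * c⁻¹ = (c * v * c⁻¹) * (c * r i (M.nat.e v i) * c⁻¹)⁻¹ := by group
    rw [e1, hdiv _ (hcV v hv) _ (hcV _ hw), Pi.sub_apply] at h4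
    exact sub_eq_zero.1 h4
  have hb : ∀ i, ∃ b : F, ∀ x, M.nat.e (c * r i x * c⁻¹) i = ap (up b) x := by
    intro i
    refine exists_up_of_fix (fun x => M.nat.e (c * r i x * c⁻¹) i) ?_ ?_ ?_ ?_
    · intro x y
      have h3 := hφ i _ (mul_mem (hr i x) (hr i y))
      rw [M.nat.mul _ (hr i x) _ (hr i y), Pi.add_apply, hrx, hrx] at h3
      show M.nat.e (c * r i (x + y) * c⁻¹) i = _
      rw [← h3]
      have e1 : c * (r i x * r i y) * c⁻¹ = (c * r i x * c⁻¹) * (c * r i y * c⁻¹) := by group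
      rw [e1, M.nat.mul _ (hcV _ (hr i x)) _ (hcV _ (hr i y))]
      rfl
    · intro x
      obtain ⟨z, hzZ, hz1, -⟩ := hz i x
      have h3 := hφ i z (hE hzZ).1
      rw [hz1, hcz z hzZ, hz1] at h3
      exact h3.symm
    · intro A
      obtain ⟨g, hg, hgA⟩ := M.nat.lift fun _ => A
      obtain ⟨B, hB⟩ := M.nat.norm c hcH g hg (fun _ => A) hgA.1
      refine ⟨B i, fun x => ?_⟩
      have h3 := hgA.1 (r i x) (hr i x) i
      rw [hrx] at h3
      have hgr := hV g hg _ (hr i x)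
      have h4 := hφ i _ hgr
      rw [h3] at h4
      show M.nat.e (c * r i (ap A x) * c⁻¹) i = ap (B i) (M.nat.e (c * r i x * c⁻¹) i)
      have e1 : c * (g * r i x * g⁻¹) * c⁻¹ = c * g * c⁻¹ * (c * r i x * c⁻¹) * (c * g * c⁻¹)⁻¹ := by group
      rw [← h4, ← hB _ (hcV _ (hr i x)) i, e1]
    · obtain ⟨n, hn⟩ := t.hm.syl.2.1 ⟨c, hcT⟩
      have hn' : c ^ 2 ^ n = 1 := congrArg Subtype.val hn
      have hit : ∀ l : ℕ, ∀ v ∈ V, (fun x => M.nat.e (c * r i x * c⁻¹) i)^[l] (M.nat.e v i) =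
          M.nat.e (c ^ l * v * (c ^ l)⁻¹) i := by
        intro l
        induction l with
        | zero => intro v _; simp
        | succ l ih =>
          intro v hv
          have h5 := hV _ (pow_mem hcH l) v hv
          have e1 : c * (c ^ l * v * (c ^ l)⁻¹) * c⁻¹ = c ^ (l + 1) * v * (c ^ (l + 1))⁻¹ := by
            rw [pow_succ']
            group
          rw [Function.iterate_succ_apply', ih v hv]
          show M.nat.e (c * r i (M.nat.e (c ^ l * v * (c ^ l)⁻¹) i) * c⁻¹) i = _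
          rw [← hφ i _ h5, e1]
      refine ⟨n, fun x => ?_⟩
      have h3 := hit (2 ^ n) (r i x) (hr i x)
      rw [hn', one_mul, inv_one, mul_one, hrx] at h3
      exact h3
  choose b hb using hb
  obtain ⟨e0, he0, hact⟩ := t.KM b
  have heY := t.BY (t.KB he0)
  have hxo : e0⁻¹ * c ∈ o2 Y := by
    refine cap _ (mul_mem (inv_mem (t.KB he0)) hcT) fun v hv => ?_
    have hxY : e0⁻¹ * c ∈ Y := mul_mem (inv_mem heY) hcH
    have hw := hV _ hxY v hv
    rw [← M.nat.ker _ (mul_mem hw (inv_mem hv)), hdiv _ hw _ hv, sub_eq_zero]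
    funext i
    have h3 := hact.1 _ hw i
    have e1 : e0 * (e0⁻¹ * c * v * (e0⁻¹ * c)⁻¹) * e0⁻¹ = c * v * c⁻¹ := by group
    rw [e1, hφ i v hv, hb] at h3
    have h4 := congrArg (ap (up (b i))⁻¹) h3
    rw [ap_inv_ap, ap_inv_ap] at h4
    exact h4.symm
  refine ⟨b, fun v hv i => ?_, fun d hd => ?_⟩
  · rw [hφ i v hv, hb]
  · have e1 : Commute (e0⁻¹ * c) d := M.VcQ _ hxo d (M.DV hd)
    have e2 : Commute e0 d := hact.2 d hd
    have e3 := e2.mul_left e1
    have e4 : e0 * (e0⁻¹ * c) = c := by group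
    rw [e4] at e3
    exact e3.eq

end up

/-! ### Over `MulL` -/

section mul

variable {S : Sylow 2 G} {P B ZJ Y U K : Subgroup G} {m : ℕ} {L W Z C A : Fin m → Subgroup G} {j : Fin m}
  {𝒜 : Set (Subgroup G)}

/-- `Y` moves `Z j`. -/
theorem exists_z (h : MulL S P B ZJ L W Z C A 2) (wj : WJ S P B Z j Y) :
    ∃ z ∈ Z j, z ∈ zc B ∧ z ∉ cv B Y := by
  have hzc : zc B = ZJ := h.fr.zcB
  by_contra hcon
  push Not at hcon
  apply wj.mv
  have hZ : ∀ z ∈ Z j, z ∈ centralizer (Y : Set G) := by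
    intro z hz
    have hzB : z ∈ zc B := by rw [hzc]; exact h.fr.Z_le j hz
    have h1 := hcon z hz hzB
    have h2 : z ∈ centralizer ((oddGen Y ⊔ B : Subgroup G) : Set G) := by
      have h3 : oddGen Y ⊔ B ≤ centralizer ((zpowers z : Subgroup G) : Set G) := by
        refine sup_le ?_ ?_
        · rw [le_centralizer_iff]
          exact (zpowers_le (H := centralizer (oddGen Y : Set G))).2 h1.2
        · rw [le_centralizer_iff]
          refine (zpowers_le (H := centralizer (B : Set G))).2 (mem_centralizer_iff.2 fun b hb => ?_)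
          exact (ChoiceBase.mem_zc.1 hzB).2.2 b hb
      exact (le_centralizer_iff.1 h3) (mem_zpowers z)
    rwa [NO3b.EZero.oddGen_sup_syl wj.syl] at h2
  rw [hzc]
  rw [le_centralizer_iff]
  intro x hx
  obtain ⟨w, hw, c, hc, hcJ, rfl⟩ := h.fr.split_ZJ j hx
  refine mul_mem (hZ w hw) ?_
  have h4 := ZC_le h.bg j (mem_inf.2 ⟨hcJ, hc⟩)
  refine (iSup_le fun l => ?_ : (⨆ l : {l : Fin m // l ≠ j}, Z l) ≤ centralizer (Y : Set G)) h4
  rw [le_centralizer_iff]
  exact wj.cen l l.2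

/-- **(d) of #25080**: one natural block over `F₄`, the line is `V_j`, `O₂(P)` acts inside the root group. -/
theorem nat_of (h : MulL S P B ZJ L W Z C A 2) (wj : WJ S P B Z j Y) (ks : KSh S P Y U K 𝒜)
    (Uc : U ≤ centralizer (U : Set G)) (VU : zl B Y ≤ U) {F : Type} [Field F] [Finite F] [CharP F 2] {k : ℕ}
    (N : NatKM F B Y (zl B Y) (cv B Y) k) (hk : 0 < k) (h4 : 4 ≤ Nat.card F)
    (mx : ∀ Y' : Subgroup G, WJ S P B Z j Y' →
      Nat.card (DX (S : Subgroup G) P Y') ≤ Nat.card (DX (S : Subgroup G) P Y)) :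
    ∃ (F : Type) (_ : Field F) (_ : Finite F) (_ : CharP F 2) (N : NatKM F B Y (zl B Y) (cv B Y) 1),
      Nat.card F = 4 ∧ (∀ v ∈ zl B Y, N.e v 0 1 = 0 ↔ v ∈ W j ⊔ cv B Y) ∧
        ∀ q ∈ o2 P, ∃ b : F, ActsSL N.e (zl B Y) (cv B Y) q fun _ => up b := by
  have wy : WY S P B Y := wj.toWY
  have hm : MinH Y B := SQ1.FFOne.minH_of wy.syl wy.min wy.c2
  obtain ⟨z, hzj, hz, hzD⟩ := exists_z h wj
  have t : TS (natC_of hm hk N.toNatK) (o2 P) K z := by
    refine ts_of wy ks Uc VU N hk rfl hz hzD fun Y' hY' hYY hmv => mx Y' ?_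
    exact { hY' with cen := fun l hl => hYY.trans (wj.cen l hl) }
  have hVQ : zl B Y ⊓ centralizer (o2 P : Set G) ≤ zl (S : Subgroup G) P := by
    have h1 : zl B Y ≤ zc (DX (S : Subgroup G) P Y) := ZN.zl_le wy.zcT_le_V (wy.Y_le.trans (GX_norm _ _ _))
    rw [← wy.cvQ]
    exact inf_le_inf_right _ h1
  have hZD : ∀ l, l ≠ j → Z l ≤ cv B Y := by
    intro l hl
    have h1 : Z l ≤ zl B Y := by
      refine le_trans ?_ SQ1.VOf.zc_le_zl
      rw [h.fr.zcB]
      exact h.fr.Z_le l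
    refine le_inf h1 ?_
    rw [le_centralizer_iff]
    exact (oddGen_le Y).trans (wj.cen l hl)
  obtain ⟨⟨E1, hE, hEQ, -, -, hEc⟩, rfl, hc4, hX⟩ := TS.one_of h.bg t h4 hVQ hZD
  refine ⟨F, inferInstance, inferInstance, inferInstance, N, hc4, fun v hv => ?_, fun q hq => ?_⟩
  · rw [← hX]
    constructor
    · intro h0
      refine ⟨hv, fun i => ?_⟩
      rw [Subsingleton.elim i 0]
      exact h0
    · intro h0
      exact h0.2 0
  · obtain ⟨b, hb⟩ := t.up_of (fun x hx hxD => capD hm wy.min wy.mv hx hxD) hE hEQ hEc hq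
    refine ⟨b 0, fun v hv i => ?_, hb.2⟩
    have := hb.1 v hv i
    rw [Subsingleton.elim i 0] at this ⊢
    exact this

end mul

end Cfsg.Agent.Omega.CaseLQ.Torus

end

section


/-!
# NoW, `q = 2`, (ii) version 2 (#25080): `MulL`, `WJ`, `Mx` give (TOR')

* `torP_of` : `MulL S P B ZJ L W Z C A 2`, `WJ S P B Z j Y`, `Mx S P B ZJ Z Y` : `TorP S P B ZJ L W Z C A j Y`;
* **`torOf : InfOf.TorOf K`**.
-/

set_option autoImplicit false
set_option linter.unusedSectionVars false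

namespace Cfsg.Agent.Omega.CaseLQ.TorFin

open Subgroup Cfsg Cfsg.Agent.ZN Cfsg.Agent.ZN.ChoiceBase Cfsg.Agent.Omega.MinPar Cfsg.Agent.Omega.Frame
open Cfsg.Agent.ZN.ChoiceSit (Syl)
open Cfsg.Agent.Omega.NO3S.Level
open Cfsg.Agent.Omega.NO3S.RedC
open Cfsg.Agent.Omega.NO3S.WY Cfsg.Agent.Omega.NO3S.WY.Sel
open Cfsg.Agent.Omega.NO3S.CaseLW.YBX (Xc mem_Xc Xc_le Concl)
open Cfsg.Agent.Omega.OM
open Cfsg.Agent.Omega.FFThm (OffM ElemM NoOverM StmtM NatKM)
open Cfsg.Agent.Omega.FrameFF (cv)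
open Cfsg.Agent.Omega.NO1.BestOff (Best)
open Cfsg.Agent.Omega.Node.MulX (MulL KX)
open Cfsg.Agent.Omega.CaseLQ Cfsg.Agent.Omega.CaseLQ.PsiYB Cfsg.Agent.Omega.CaseLQ.TwoFr
open Cfsg.Agent.Omega.CaseLQ.TwoAbs Cfsg.Agent.Omega.CaseLQ.TorOf

universe u

/-- a finite field of characteristic 2 with an element `≠ 0, 1` has at least 4 elements -/
theorem four_le {F : Type} [Field F] [Finite F] [CharP F 2] (h : ∃ x : F, x ≠ 0 ∧ x ≠ 1) : 4 ≤ Nat.card F := by
  classical
  obtain ⟨x, h0, h1⟩ := h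
  have : Fintype F := Fintype.ofFinite F
  obtain ⟨n, -, hn⟩ := FiniteField.card F 2
  rw [Nat.card_eq_fintype_card, hn]
  have h3 : 2 < Fintype.card F := by
    have h4 : ({0, 1, x} : Finset F).card = 3 := by
      rw [Finset.card_eq_three]
      exact ⟨0, 1, x, zero_ne_one, h0.symm, h1.symm, rfl⟩
    have h5 := Finset.card_le_univ ({0, 1, x} : Finset F)
    omega
  rw [hn] at h3
  have h6 : 2 ≤ (n : ℕ) := by
    by_contra hcon
    have h7 : (n : ℕ) ≤ 1 := by omega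
    have h8 : 2 ^ (n : ℕ) ≤ 2 ^ 1 := Nat.pow_le_pow_right (by norm_num) h7
    omega
  calc 4 = 2 ^ 2 := by norm_num
    _ ≤ 2 ^ (n : ℕ) := Nat.pow_le_pow_right (by norm_num) h6

section

variable {G : Type u} [Group G] [Finite G] {S : Sylow 2 G} {P B ZJ : Subgroup G} {k : ℕ}
  {L W Z C A : Fin k → Subgroup G}

/-- **(TOR')** -/
theorem torP_of (h : MulL S P B ZJ L W Z C A 2) {j : Fin k} {Y : Subgroup G} (wj : WJ S P B Z j Y)
    (mx : Mx S P B ZJ Z Y) : TorP S P B ZJ L W Z C A j Y := by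
  have hFF : StmtM.{u} := NOThreeL.StarEnd.stmtM
  have m := InstTwo.lmd h wj
  obtain ⟨WU, ΛU, cen, hex⟩ := InstTwo.exists_E h wj hFF
  set H : Subgroup G := L j ⊔ Y with hH
  set U : Subgroup G := ZN.zl B H with hU
  have fb := h.fr.blk j
  have ZU : zc B ≤ U := (zT h j).trans (sup_le ΛU (fb.ZV.trans WU))
  have s : YS U H B Y := ys_of m wj.toWY ZU
  obtain ⟨z, hz, z1⟩ : ∃ z ∈ Z j, z ≠ 1 := by
    by_contra hcon
    push Not at hcon
    exact h.bg.Z_ne j (eq_bot_iff.2 fun x hx => mem_bot.2 (hcon x hx))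
  have CQ : U ⊓ centralizer (o2 P : Set G) ≤ zl (S : Subgroup G) P := m.toLoc.cUQ
  have pj : PJ B (o2 P) (W j) U z := pj_of_bg h.bg WU CQ hz z1
  have YΛ : Y ≤ centralizer (Lm Z j : Set G) := cenLm wj.cen
  have frg : ∀ {κ : Type} [Finite κ] {Ni c : κ → Subgroup G}, Concl B Y U (Fam U H B) Ni c →
      PsiT.FrG (Xc U (Fam U H B)) B (o2 P) (W j) z (Lm Z j) Ni c := by
    intro κ _ Ni c hc
    have hΛ : ∀ l, Lm Z j ≤ Ni l := fun l x hx => hc.cen x (ΛU hx) (fun A hA y hy a ha => by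
      have h1 : y * a * y⁻¹ ∈ Y := mul_mem (mul_mem hy (s.TY (hA.1 ha))) (inv_mem hy)
      exact ((mem_centralizer_iff.1 (YΛ h1)) x hx).symm) l
    have nz : ∃ i, z ∉ Ni i := by
      obtain ⟨l, hl⟩ := hc.ex
      refine ⟨l, fun hzl => hl ((zT h j).trans (sup_le (hΛ l) fun x hx => ?_))⟩
      rcases eq_z h.bg hz z1 hx with rfl | rfl
      · exact one_mem _
      · exact hzl
    exact frG_of_pj pj hc.yb (Xc_le _ _) (VX_of WU cen) nz fun l x hx _ => hΛ l hx
  have hCB : ∀ u ∈ U, u ∈ centralizer (B : Set G) → u ∈ Lm Z j ∨ u * z⁻¹ ∈ Lm Z j := by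
    intro u hu huB
    have h1 : u ∈ Lm Z j ⊔ Z j := zT h j (m.toLoc.cUT ⟨hu, huB⟩)
    have hcom : ∀ a ∈ Lm Z j, ∀ b ∈ Z j, a * b = b * a := fun a ha b hb =>
      s.U_mul a (ΛU ha) b (WU (fb.ZV hb))
    obtain ⟨a, ha, b, hb, rfl⟩ := SQ1.Bau.mem_sup_comm hcom h1
    rcases eq_z h.bg hz z1 hb with rfl | rfl
    · left; rwa [mul_one]
    · right; rwa [mul_inv_cancel_right]
  have hPL : Lm Z j ≤ centralizer (L j : Set G) := le_centralizer_iff.1 (InstTwo.L_Lam h)
  have hmv : ∃ p ∈ L j, p * z * p⁻¹ ≠ z := by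
    by_contra hcon
    push Not at hcon
    have h1 : L j ≤ normalizer (Z j : Set G) := by
      refine le_trans (fun p hp => ?_) (centralizer_le_normalizer _)
      rw [mem_centralizer_iff]
      intro x hx
      rcases eq_z h.bg hz z1 hx with rfl | rfl
      · group
      · exact (mul_inv_eq_iff_eq_mul.1 (hcon p hp)).symm
    obtain ⟨v, hv, hvZ⟩ := Psi.exists_v h.bg j
    exact hvZ (InstB.W_le fb le_rfl h1 hv)
  obtain ⟨F, _, _, _, n, hn, hF, ⟨N⟩⟩ := TvTwo.nat_four s hFF frg cen hex WU (le_sup_left : L j ≤ H) fb.BL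
    (InstB.norm_C fb) hCB hPL hmv
  have noV : NoOverM (zl B Y) Y := by
    obtain ⟨E, hEB, hE, hEY⟩ := hex
    have hEF : E ∈ Fam U H B := ⟨hEB, Or.inl hE⟩
    have hne : ¬ E ≤ centralizer (zl B Y : Set G) := fun h => hEY ((le_inf hEB h).trans s.cap)
    exact (hFF G B Y s.syl s.min s.c2 ⟨E, hEB.trans s.TY,
      NO3S.OneLine.BFam.offM (bfam (U := U) (H := H) (T := B) (s.TY.trans s.YH)) s.U_mul s.VU hEF hne⟩).1
  obtain ⟨⟨K, 𝒜, ks⟩, fam⟩ := ksh_of h wj m WU ΛU cen hex noV N hn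
  exact
    { mul := h
      wj := wj
      fam := fam
      nat := Torus.nat_of h wj ks m.Uc s.VU N hn (four_le hF) fun Y' hY' => mx.wj h j Y' hY' }

end

/-- **(ii) of #25080.** -/
theorem torOf {K : Cls.{u}} : InfOf.TorOf K := by
  intro G _ _ _ S P B ZJ k L W Z C A _ hM _ j Y hw hx
  exact torP_of hM hw hx

end Cfsg.Agent.Omega.CaseLQ.TorFin

end
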