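import Cfsg.Agent.Mrg.Omega.CaseLQ.NoWEnd
import Cfsg.Agent.Mrg.Omega.CaseLQ.Inst
import Cfsg.Agent.Mrg.Omega.Node.CaseLPQ
import Cfsg.Agent.Mrg.Omega.Node.SymG
import Cfsg.Agent.Mrg.Omega.KL.QF.KIn
import Cfsg.Agent.Mrg.Omega.NOne.LemmaT

section


/-!
# NoW, `q ≥ 3`, over `MulL`: closed

* `noW` : `NoW S P Z j` for every `j`, `k ≥ 2` (helper952, 593, 749, 681, 707, 194, 335);
* `noWQ` : for all groups of the class (the literal `Node.CaseLPQ.NoWQ`).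
-/

set_option autoImplicit false
set_option linter.unusedSectionVars false

namespace Cfsg.Agent.Omega.CaseLQ.NoWEnd

open Subgroup Cfsg Cfsg.Agent.Omega.Frame
open Cfsg.Agent.Omega.Node.MulX (MulL)
open Cfsg.Agent.Omega.KL.QF.KInX (NoW)

universe u

section

variable {G : Type u} [Group G] {k : ℕ} [Finite G] {S : Sylow 2 G} {P B ZJ : Subgroup G}
  {L W Z C A : Fin k → Subgroup G} {q : ℕ}

theorem core (h : MulL S P B ZJ L W Z C A q) (hq : 3 ≤ q) (j : Fin k) : Core S P B ZJ Z j :=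
  fun BT TS TZ DC D0 hT YD syl min c2 nQ ΛC ΛT zT mvZ cnt =>
    noW_core' h hq BT TS TZ (DC.trans (Tj.Lam_le_ZJ h.bg j)) D0 DC hT YD syl min c2 nQ ΛC ΛT zT mvZ cnt

/-- **NoW**, `q ≥ 3`, every `j`. -/
theorem noW (h : MulL S P B ZJ L W Z C A q) (hq : 3 ≤ q) (j : Fin k) : NoW S P Z j := noW_of h j (core h hq j)

end

/-- **NoW**, `q ≥ 4`, class level. -/
theorem noWQ (K : Cls.{u}) : ∀ (G : Type u) [Group G] [Finite G], K G → ∀ (S : Sylow 2 G) (P B ZJ : Subgroup G) (k : ℕ)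
    (L W Z C A : Fin k → Subgroup G) (q : ℕ), 2 ≤ k → 4 ≤ q → MulL S P B ZJ L W Z C A q →
      ∀ j, NoW S P Z j :=
  fun _ _ _ _ _ _ _ _ _ _ _ _ _ _ _ _ hq h j => noW h (by omega) j

end Cfsg.Agent.Omega.CaseLQ.NoWEnd

end

section


/-!
# (E), `q ≥ 4`, over the case (L) of GammaFF: `NoWQ` plugged

* `noWQ : NoWQ K` (helper952, 335, 593, 749, 681, 707, 194, 373, 509);
* `eTwoQ_of` : `EX K (k = 2 ∧ 4 ≤ q)` from (TI), (V!);
* `eManyQ_of` : `EX K (3 ≤ k ∧ 4 ≤ q)` from the weak (TI).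
-/

set_option autoImplicit false

namespace Cfsg.Agent.Omega.Node.CaseLPX

open Cfsg Cfsg.Agent.Omega.Frame
open Cfsg.Agent.Omega.Node.MulX

universe u

theorem noWQ (K : Cls.{u}) : CaseLPQ.NoWQ K := CaseLQ.NoWEnd.noWQ K

variable {K : Cls.{u}}

theorem eTwoQ_of (hML : ML.Final.MLK.{u, u}) (hE : ML.Ex.Two.Ext.{u, u})
    (hT : NO3S.EThree.Row7X.TiX K) (hO : NO3S.EThree.Row7X.OffX K) : EX K fun k q => k = 2 ∧ 4 ≤ q :=
  CaseLPQ.eTwoQ_of hML hE (noWQ K) hT hO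

theorem eManyQ_of (hML : ML.Final.MLK.{u, u}) (hE : ML.Ex.Two.Ext.{u, u}) (hT : EK3.QG.TiWX K) :
    EX K fun k q => 3 ≤ k ∧ 4 ≤ q :=
  CaseLPQ.eManyQ_of hML hE (noWQ K) hT

end Cfsg.Agent.Omega.Node.CaseLPX

end

section


/-!
# NoW+ (helper509 #25180) for TI, `k = 2`: the instance of (CNT)

`T = N_S(Z i)`, `z ∈ Z i` a `T`-fixed involution, `i ≠ j`.

* `zcT_le` : `Ω₁Z(T) ≤ Z j × C_{Z i}(T)`; `syl_T` : `T` is Sylow in `C_G(z)`; `char2_T`;
* `cnt` : every `F ≤ C_{Z i}(T)` with `z ∉ F` has `|F| < |C_{Z j}(T)|`;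
* `noW` : **`KInX.NoW S P Z j`**, `q ≥ 3`, any `k`, from helper681's core;
* `noWL` : the literal for `D ≤ Z i`; **`noW_ti`** : `D = ⟨z⟩`, `T = N_S(Z i)`.
-/

set_option autoImplicit false
set_option linter.unusedSectionVars false

namespace Cfsg.Agent.Omega.CaseLQ.NoWTi

open Subgroup Cfsg Cfsg.Agent.ZN.ChoiceBase
open Cfsg.Agent.ZN (jj zj bau zc zl o2)
open Cfsg.Agent.ZN.ChoiceSit (Syl exists_syl syl_conj)
open Cfsg.Agent.MinSimple.MinParabolic (IsMinPar)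
open Cfsg.Agent.MinSimple.VModule (le_normalizer_o2 o2_isPGroup le_o2 o2_le)
open Cfsg.Agent.Omega.OM
open Cfsg.Agent.Omega.NO3S.EThree.Frame
open Cfsg.Agent.Omega.NO3S.EThree.Row7 (fin2)
open Cfsg.Agent.Omega.Node.MulX
open Cfsg.Agent.Omega.KL.QF.PtV

universe u

variable {G : Type u} [Group G] [Finite G] {S : Sylow 2 G} {P B ZJ : Subgroup G}
  {L W Z C : Fin 2 → Subgroup G} {q : ℕ}

/-- `T = N_S(Z i)` -/
abbrev TT (S : Sylow 2 G) (Z : Fin 2 → Subgroup G) (i : Fin 2) : Subgroup G :=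
  (S : Subgroup G) ⊓ normalizer (Z i : Set G)

theorem fin_or {i j : Fin 2} (hij : i ≠ j) (l : Fin 2) : l = i ∨ l = j := by
  revert i j l; decide

section bg

variable (h : Bg S P B ZJ L W Z C q) {i j : Fin 2} (hij : i ≠ j)
include h hij

theorem pa : ∃ s, Pa (S : Subgroup G) W i j s := by
  obtain ⟨l, s, p⟩ := h.exists_partner i
  rcases fin_or hij l with rfl | rfl
  · exact absurd rfl p.ne
  · exact ⟨s, p⟩

theorem TT_eq : TT S Z j = TT S Z i := by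
  obtain ⟨s, p⟩ := pa h hij
  exact h.T_eq p

theorem TZ : TT S Z i ≤ normalizer (Z j : Set G) := by
  have e := TT_eq h hij
  exact e.ge.trans inf_le_right

/-- a subgroup of `S` which centralises `1 ≠ D ≤ Z i` normalises `Z i` -/
theorem le_TT {T D : Subgroup G} (hT : T ≤ (S : Subgroup G)) (hD : D ≤ Z i) (hD1 : D ≠ ⊥)
    (hTD : T ≤ centralizer (D : Set G)) : T ≤ TT S Z i := by
  refine fun t ht => ⟨hT ht, ?_⟩
  obtain ⟨d, hd, hd1⟩ : ∃ d ∈ D, d ≠ 1 := by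
    by_contra hcon
    push Not at hcon
    exact hD1 ((Subgroup.eq_bot_iff_forall D).2 hcon)
  obtain ⟨l, hl, -⟩ := (h.norm (h.S_norm_B (hT ht))).2 i
  have h3 : d ∈ Z l := by
    rw [← hl, mem_cj]
    have h4 := mem_centralizer_iff.1 (hTD ht) d hd
    have h5 : t⁻¹ * d * t = d := by rw [mul_assoc, h4]; group
    rw [h5]
    exact hD hd
  have h4 : l = i := by
    by_contra hne
    have h5 : d ∈ Z l ⊓ Z i := ⟨h3, hD hd⟩
    rw [h.Z_disj hne, mem_bot] at h5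
    exact hd1 h5
  rw [h4] at hl
  exact mem_normalizer_iff_cj.2 hl

/-- `Ω₁Z(T) ≤ Z j C_{Z i}(T)` -/
theorem zcT_le {T : Subgroup G} (hBT : B ≤ T) (hT : T ≤ TT S Z i) :
    zc T ≤ Z j ⊔ (Z i ⊓ centralizer (T : Set G)) := by
  intro z hz
  obtain ⟨h1, h2, h3⟩ := mem_zc.1 hz
  have hJT : ZJ ≤ T := (h.fr.ZJV.trans h.fr.VB).trans hBT
  have hzB : z ∈ B := h.mem_B (hT h1).1 fun x hx => (h3 x (hJT hx)).symm
  have hzJ : z ∈ ZJ := by
    rw [← h.fr.zcB]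
    exact mem_zc.2 ⟨hzB, h2, fun b hb => h3 b (hBT hb)⟩
  obtain ⟨a, ha, c, hc, hcJ, e⟩ := h.fr.split_ZJ i hzJ
  have hcj : c ∈ Z j := by
    have h4 : c ∈ W j := by rw [← C_eq h (fin_or hij) hij]; exact hc
    exact (h.fr.blk j).toMd.mem_Z_iff.2 ⟨h4, fun b hb => ((h.fr.mem_ZJ c).1 hcJ).2 b hb⟩
  -- the components of `z` are fixed by `T`
  have key : ∀ t ∈ T, t * a = a * t := by
    intro t ht
    have h4 : t * z = z * t := h3 t ht
    have h5 : t * a * t⁻¹ ∈ Z i := (mem_normalizer_iff.1 (hT ht).2 a).1 ha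
    have h6 : t * c * t⁻¹ ∈ Z j := (mem_normalizer_iff.1 (TZ h hij (hT ht)) c).1 hcj
    have h7 : (t * a * t⁻¹) * (t * c * t⁻¹) = a * c := by
      rw [← e]
      have e2 : (t * a * t⁻¹) * (t * c * t⁻¹) = t * (a * c) * t⁻¹ := by group
      rw [e2, ← e, h4]; group
    have h8 : a⁻¹ * (t * a * t⁻¹) = c * (t * c * t⁻¹)⁻¹ := by
      have h9 : (t * a * t⁻¹) = a * c * (t * c * t⁻¹)⁻¹ := by rw [← h7]; group
      rw [h9]; group
    have h9 : a⁻¹ * (t * a * t⁻¹) ∈ Z i ⊓ Z j :=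
      mem_inf.2 ⟨mul_mem (inv_mem ha) h5, by rw [h8]; exact mul_mem hcj (inv_mem h6)⟩
    rw [h.Z_disj hij, mem_bot] at h9
    have h10 : t * a * t⁻¹ = a := (inv_mul_eq_one.1 h9).symm
    exact mul_inv_eq_iff_eq_mul.1 h10
  rw [e, (h.fr.Vc (h.fr.ZV i ha) (h.fr.CV i hc) : a * c = c * a)]
  exact mul_mem (mem_sup_left hcj) (mem_sup_right ⟨ha, mem_centralizer_iff.2 key⟩)

/-- `|C_{Z i}(T)| = |C_{Z j}(T)|` -/
theorem card_fix : Nat.card ↥(Z i ⊓ centralizer (TT S Z i : Set G)) =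
    Nat.card ↥(Z j ⊓ centralizer (TT S Z i : Set G)) := by
  obtain ⟨s, p⟩ := pa h hij
  have e : cj s (Z i ⊓ centralizer (TT S Z i : Set G)) = Z j ⊓ centralizer (TT S Z i : Set G) := by
    rw [cj_inf, h.cj_s_Z p, cj_centralizer]
    have e1 : cj s (TT S Z i) = TT S Z i := by
      rw [cj_inf, cj_normalizer, h.cj_s_Z p, cj_eq_of_mem_normalizer (Subgroup.le_normalizer p.mem)]
      exact TT_eq h hij
    rw [e1]
  rw [← e, card_cj]

/-- **(CNT)** -/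
theorem cnt {z : G} (hz : z ∈ Z i) (hz1 : z ≠ 1) (hzT : z ∈ centralizer (TT S Z i : Set G)) {Y : Subgroup G}
    (hY : Y ≤ centralizer ({z} : Set G)) :
    ∀ F ≤ Z i ⊓ centralizer (TT S Z i : Set G), F ⊓ centralizer (Y : Set G) = ⊥ →
      Nat.card F < Nat.card ↥(Z j ⊓ centralizer (TT S Z i : Set G)) := by
  intro F hF hFY
  rw [← card_fix h hij]
  have hzF : z ∉ F := fun hzF => hz1 (by
    have h1 : z ∈ F ⊓ centralizer (Y : Set G) := ⟨hzF, mem_centralizer_iff.2 fun y hy =>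
      mem_centralizer_singleton_iff.1 (hY hy)⟩
    rwa [hFY, mem_bot] at h1)
  refine lt_of_le_of_ne (Subgroup.card_le_of_le hF) fun e => hzF ?_
  rw [Subgroup.eq_of_le_of_card_ge hF e.ge]
  exact ⟨hz, hzT⟩

omit hij in
/-- `T` is a Sylow 2-subgroup of `C_G(z)` -/
theorem syl_T {z : G} (hz : z ∈ Z i) (hz1 : z ≠ 1) (hzT : z ∈ centralizer (TT S Z i : Set G)) :
    Syl (TT S Z i) (centralizer ({z} : Set G)) := by
  have hT : TT S Z i ≤ centralizer ({z} : Set G) := fun t ht => by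
    rw [mem_centralizer_singleton_iff]
    exact mem_centralizer_iff.1 hzT t ht
  refine ⟨hT, S.isPGroup'.to_le inf_le_left, fun R hR h2 hle => ?_⟩
  symm
  refine Subgroup.eq_of_le_of_card_ge hle (h.card_le i h2 ((h.bau_le_T i).trans hle) fun r hr => ?_)
  have h1 := h.le_norm_B h2 ((h.bau_le_T i).trans hle) hr
  obtain ⟨l, hl, -⟩ := (h.norm h1).2 i
  have h3 : z ∈ Z l := by
    rw [← hl, mem_cj]
    have h4 := mem_centralizer_singleton_iff.1 (hR hr)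
    have h5 : r⁻¹ * z * r = z := by rw [mul_assoc, ← h4]; group
    rwa [h5]
  have h4 : l = i := by
    by_contra hne
    have h5 : z ∈ Z l ⊓ Z i := ⟨h3, hz⟩
    rw [h.Z_disj hne, mem_bot] at h5
    exact hz1 h5
  rw [h4] at hl
  exact mem_normalizer_iff_cj.2 hl

end bg

/-- helper681's core in the form of `NoWEnd.Core` -/
theorem core_of {k : ℕ} {L W Z C A : Fin k → Subgroup G} (h : MulL S P B ZJ L W Z C A q) (hq : 3 ≤ q) (j : Fin k) :
    NoWEnd.Core S P B ZJ Z j := fun BT TS TZ DC D0 hT YD syl min c2 nQ ΛC ΛT zT mvZ cnt =>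
  noW_core' h hq BT TS TZ (DC.trans (iSup_le fun l => h.bg.fr.Z_le l)) D0 DC hT YD syl min c2 nQ ΛC ΛT zT mvZ cnt

/-- **NoW over `MulL`**, `q ≥ 3`. -/
theorem noW {k : ℕ} {L W Z C A : Fin k → Subgroup G} (h : MulL S P B ZJ L W Z C A q) (hq : 3 ≤ q) (j : Fin k) :
    KL.QF.KInX.NoW S P Z j := NoWEnd.noW_of h j (core_of h hq j)

section mul

variable {A : Fin 2 → Subgroup G} (h : MulL S P B ZJ L W Z C A q) (hq : 3 ≤ q) {i j : Fin 2} (hij : i ≠ j)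
include h hq hij

/-- **No weird `R ≤ C_G(D)`, `1 ≠ D ≤ Z i`**, with (CNT). -/
theorem noWL {D T R : Subgroup G} (hD : D ≤ Z i) (hD1 : D ≠ ⊥) (hBT : B ≤ T)
    (hTS : T ≤ (S : Subgroup G)) (hT : Syl T (centralizer (D : Set G))) (hR : IsMinPar T R)
    (hRD : R ≤ centralizer (D : Set G))
    (hmv : ¬ R ≤ centralizer ((Z j ⊓ centralizer (T : Set G) : Subgroup G) : Set G))
    (hcnt : ∀ F ≤ Z i ⊓ centralizer (T : Set G), F ⊓ centralizer (R : Set G) = ⊥ →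
      Nat.card F < Nat.card ↥(Z j ⊓ centralizer (T : Set G))) : o2 P ≤ o2 R := by
  by_contra nQ
  have hZi : Z i ≤ NoWEnd.Lam Z j := le_iSup (fun l : {l : Fin 2 // l ≠ j} => Z l) ⟨i, hij⟩
  have hTT := le_TT h.bg hij hTS hD hD1 hT.1
  have hsylR : Syl T R := ⟨hR.le, hT.2.1, fun X hX h2 hle => hT.2.2 X (hX.trans hRD) h2 hle⟩
  have hD2 : IsPGroup 2 D := (h.bg.Z_two i).to_le hD
  have hc := NOne.LemmaT.char2_centralizer h.cl.ctx.char2 hD2 hD1
  have hc2 : R ⊓ centralizer (o2 R : Set G) ≤ o2 R := by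
    have h4 : o2 (centralizer (D : Set G)) ≤ o2 R :=
      le_o2 ((ZN.ChoiceSit.o2_le_syl hT).trans hR.le) (o2_isPGroup _) (hRD.trans (le_normalizer_o2 _))
    rintro x ⟨hx, hxc⟩
    exact h4 (hc ⟨hRD hx, centralizer_le (by exact_mod_cast h4) hxc⟩)
  exact core_of h hq j hBT hTS (hTT.trans (TZ h.bg hij)) (hD.trans hZi) hD1 hT hRD hsylR hR hc2 nQ
    (inf_le_left.trans hZi) (le_centralizer_iff.1 inf_le_right) (zcT_le h.bg hij hBT hTT) hmv hcnt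

/-- **No weird `R ≤ C_G(z)`**, `z ∈ Z i` fixed by `T = N_S(Z i)`. -/
theorem noW_ti {z : G} (hz : z ∈ Z i) (hz1 : z ≠ 1)
    (hzT : z ∈ centralizer (TT S Z i : Set G)) {R : Subgroup G} (hR : IsMinPar (TT S Z i) R)
    (hRC : R ≤ centralizer ({z} : Set G))
    (hmv : ¬ R ≤ centralizer ((Z j ⊓ centralizer (TT S Z i : Set G) : Subgroup G) : Set G)) : o2 P ≤ o2 R := by
  have e : centralizer ((zpowers z : Subgroup G) : Set G) = centralizer ({z} : Set G) := by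
    rw [zpowers_eq_closure, centralizer_closure]
  refine noWL h hq hij (D := zpowers z) (zpowers_le.2 hz) (zpowers_ne_bot.2 hz1) (h.bg.bau_le_T i) inf_le_left
    (e ▸ syl_T h.bg hz hz1 hzT) hR (e ▸ hRC) hmv (cnt h.bg hij hz hz1 hzT hRC)

end mul

end Cfsg.Agent.Omega.CaseLQ.NoWTi

end
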