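import Cfsg.Agent.Mrg.Omega.CaseLQ.Crd
import Cfsg.Agent.Mrg.Omega.CaseLQ.PsiBg
import Cfsg.Agent.Mrg.Omega.KL.QF.KInX


/-!
# NoW, `q ≥ 4`, over `MulL` (`k ≥ 2`): the plug

`D = Λ = ⟨Z_l : l ≠ j⟩`, `T = C_S(Λ)`.
-/

set_option autoImplicit false
set_option linter.unusedSectionVars false

namespace Cfsg.Agent.Omega.CaseLQ.NoWEnd

open Subgroup Cfsg Cfsg.Agent.ZN.ChoiceBase
open Cfsg.Agent.ZN (jj zj bau zc zl o2)
open Cfsg.Agent.ZN.ChoiceSit (Syl exists_syl syl_conj o2_le_syl)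
open Cfsg.Agent.Omega.OM Cfsg.Agent.Omega.OM.Uni
open Cfsg.Agent.Omega.NO3S.EThree.Frame
open Cfsg.Agent.Omega.EK3.Q (YQ TY mem_YQ YQ_cent YQ_eq_cent)
open Cfsg.Agent.Omega.Node.MulX (MulL)
open Cfsg.Agent.MinSimple.MinParabolic (IsMinPar)
open Cfsg.Agent.Omega.KL.QF.KInX (NoW)

universe u

variable {G : Type u} [Group G] {k : ℕ} [Finite G] {S : Sylow 2 G} {P B ZJ : Subgroup G}
  {L W Z C A : Fin k → Subgroup G} {q : ℕ}

/-- `Λ_j` -/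
abbrev Lam {k : ℕ} (Z : Fin k → Subgroup G) (j : Fin k) : Subgroup G := ⨆ l : {l : Fin k // l ≠ j}, Z l

/-- the literal of helper681's `noW_core'` -/
def Core (S : Sylow 2 G) (P B ZJ : Subgroup G) (Z : Fin k → Subgroup G) (j : Fin k) : Prop :=
  ∀ {T Y D Λ : Subgroup G}, B ≤ T → T ≤ (S : Subgroup G) → T ≤ normalizer (Z j : Set G) → D ≤ Lam Z j → D ≠ ⊥ →
    Syl T (centralizer (D : Set G)) → Y ≤ centralizer (D : Set G) → Syl T Y → IsMinPar T Y →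
      Y ⊓ centralizer (o2 Y : Set G) ≤ o2 Y → ¬ o2 P ≤ o2 Y → Λ ≤ Lam Z j → T ≤ centralizer (Λ : Set G) →
        zc T ≤ Z j ⊔ Λ → ¬ Y ≤ centralizer ((Z j ⊓ centralizer (T : Set G) : Subgroup G) : Set G) →
          (∀ F ≤ Λ, F ⊓ centralizer (Y : Set G) = ⊥ → Nat.card F < Nat.card ↥(Z j ⊓ centralizer (T : Set G))) → False

/-- `C_{Z_j}(T) ≠ 1` -/
theorem one_lt_fixed (h : MulL S P B ZJ L W Z C A q) {T : Subgroup G} (BT : B ≤ T) (TS : T ≤ (S : Subgroup G)) {j : Fin k}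
    (TZ : T ≤ normalizer (Z j : Set G)) : 1 < Nat.card ↥(Z j ⊓ centralizer (T : Set G)) := by
  have T2 : IsPGroup 2 T := S.isPGroup'.to_le TS
  have ZT : Z j ≤ T := ((h.bg.fr.ZJV.trans h.bg.fr.VB).trans BT |> fun e => (h.bg.fr.Z_le j).trans e)
  obtain ⟨z, hz, hz1, hfix⟩ := NO3S.OneLine.exists_fixed T2 ZT TZ
    (fun h0 => h.bg.Z_ne j (le_bot_iff.1 h0) : ¬ Z j ≤ (⊥ : Subgroup G))
  rw [mem_bot] at hz1
  have hzT : z ∈ Z j ⊓ centralizer (T : Set G) := mem_inf.2 ⟨hz, mem_centralizer_iff.2 fun t ht => by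
    have h1 := mem_bot.1 (hfix t ht)
    have e1 : t * z = (t * z * t⁻¹ * z⁻¹) * z * t := by group
    rw [e1, h1, one_mul]⟩
  have hne : Nontrivial ↥(Z j ⊓ centralizer (T : Set G)) := ⟨⟨⟨z, hzT⟩, 1, fun h0 => hz1 (congrArg Subtype.val h0)⟩⟩
  exact Finite.one_lt_card

/-- **NoW at `j`** from the core. -/
theorem noW_of (h : MulL S P B ZJ L W Z C A q) (j : Fin k) (core : Core S P B ZJ Z j) : NoW S P Z j := by
  intro R hR hRC hc hm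
  by_contra nQ
  have hsyl := Tj.syl h.bg j
  have hTR : TY S Z j ≤ R := hR.1
  have e := YQ_eq_cent Z j
  have hYΛ : R ≤ centralizer (Lam Z j : Set G) := hRC.trans e.le
  have BT := Tj.B_le_T h.bg j
  have TS : TY S Z j ≤ (S : Subgroup G) := inf_le_left
  have TZ := Tj.T_norm_Z h.bg j j
  have hsylR : Syl (TY S Z j) R := ⟨hTR, hsyl.2.1, fun X hX h2 hle => hsyl.2.2 X (hX.trans hRC) h2 hle⟩
  refine core BT TS TZ le_rfl (Tj.Lam_ne h.bg j) (e ▸ hsyl) hYΛ hsylR hR hc nQ le_rfl (hTR.trans hYΛ)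
    (sup_comm (Lam Z j) (Z j) ▸ Tj.zcT_le h.bg BT TS j)
    (PsiYC.mv_of_cent hTR hm hYΛ (Tj.zcT_le h.bg BT TS j) (Tj.Lam_comm h.bg j)) fun F hF hFY => ?_
  have h1 : F ≤ centralizer (R : Set G) := hF.trans (NO3b.EZero.cent_symm hYΛ)
  rw [inf_eq_left.2 h1] at hFY
  subst hFY
  rw [card_bot]
  exact one_lt_fixed h BT TS TZ

end Cfsg.Agent.Omega.CaseLQ.NoWEnd
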